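import Mathlib.Algebra.Order.Ring.Int
import Mathlib.Algebra.BigOperators.Ring.Finset
import Mathlib.Data.Fintype.BigOperators
import Mathlib.Data.ZMod.Basic
import Mathlib.Tactic.Linarith
import Mathlib.Tactic.IntervalCases
import Mathlib.Tactic.NormNum
import Mathlib.Tactic.Ring
import Mathlib.Tactic.LinearCombination

/-!
# The numbers of a two-block with a defect group of maximal class

`M` and `Z` are the contributions of the subsections at `1` and at the central involution, times the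
order `4q` of the defect group, `G` that of the rotations of order at least four and `out` that of
the remaining classes, times four.
-/

set_option autoImplicit false
set_option linter.unusedSectionVars false

namespace CfsgLib.Blocks.TameTwo

open Finset

/-- An integral contribution matrix with respect to the heights `h`. -/
structure Major {X : Type*} [Fintype X] (q : ℕ) (h : X → ℕ) (M : X → X → ℤ) (l : ℕ) : Prop where
  row : ∀ x, ∑ y, M y x ^ 2 = 4 * (q : ℤ) * M x x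
  dvd : ∀ y x, ∃ c : ℤ, M y x = 2 ^ h y * c ∧ (Odd c ↔ h x = 0)
  pos : ∀ x, 0 < M x x
  trace : ∑ x, M x x = 4 * (q : ℤ) * l

namespace Major

variable {X : Type*} [Fintype X] {q : ℕ} {h : X → ℕ} {M : X → X → ℤ} {l : ℕ}
  (hM : Major q h M l)
include hM

theorem odd_diag {x : X} (hx : h x = 0) : Odd (M x x) := by
  obtain ⟨c, hc, hodd⟩ := hM.dvd x x
  rw [hc, hx, pow_zero, one_mul]
  exact hodd.mpr hx

theorem pow_succ_dvd {x : X} (hx : h x ≠ 0) : (2 : ℤ) ^ (h x + 1) ∣ M x x := by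
  obtain ⟨c, hc, hodd⟩ := hM.dvd x x
  obtain ⟨d, rfl⟩ : (2 : ℤ) ∣ c := (Int.not_odd_iff_even.mp fun h' => hx (hodd.mp h')).two_dvd
  exact ⟨d, by rw [hc, pow_succ]; ring⟩

theorem pow_le_sq {y x : X} (hx : h x = 0) : ((2 : ℤ) ^ h y) ^ 2 ≤ M y x ^ 2 := by
  obtain ⟨c, hc, hodd⟩ := hM.dvd y x
  have hc0 : c ≠ 0 := fun h0 => by
    have := hodd.mpr hx
    rw [h0] at this
    exact absurd this (by decide)
  have := sq_pos_of_ne_zero hc0
  rw [hc, mul_pow]
  nlinarith [sq_nonneg ((2 : ℤ) ^ h y)]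

end Major

/-- The data of a block. -/
structure Table (X : Type*) [Fintype X] where
  /-- A quarter of the order of the defect group. -/
  q : ℕ
  /-- The heights. -/
  h : X → ℕ
  /-- The contributions at `1`. -/
  M : X → X → ℤ
  /-- The contributions at the central involution. -/
  Z : X → X → ℤ
  /-- The contributions at the rotations. -/
  G : X → ℤ
  /-- The contributions at the other classes. -/
  out : X → ℤ
  /-- The difference of the fixed multiplicities. -/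
  a : X → ℤ
  /-- The number of other classes. -/
  o : ℕ
  /-- The rank of the block. -/
  l : ℕ
  /-- The rank of the block at the central involution. -/
  lz : ℕ
  two_le : 2 ≤ q
  majorM : Major q h M l
  majorZ : Major q h Z lz
  exists_zero : ∃ x, h x = 0
  odd_a : ∀ x, h x = 0 → Odd (a x)
  sum_a : ∑ x, a x ^ 2 = 4
  G_nonneg : ∀ x, 0 ≤ G x
  G_zero : ∀ x, a x = 0 → G x = 0 ∨ (4 ≤ q ∧ 4 * ((q : ℤ) - 2) ≤ G x)
  G_unit : ∀ x, (a x = 1 ∨ a x = -1) → G x = 2 * ((q : ℤ) - 1) ∨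
    (4 * (q : ℤ) - 2 ≤ G x ∧ (16 ≤ q → 4 * (q : ℤ) - 2 < G x) ∧ 4 ≤ q)
  sum_G : ∑ x, G x = 4 * (q : ℤ) * ((q : ℤ) - 1)
  diag : ∀ x, M x x + Z x x + G x + (q : ℤ) * out x = 4 * q
  out_nonneg : ∀ x, 0 ≤ out x
  out_zero : ∀ x, h x = 0 → (o : ℤ) ≤ out x
  sum_out : ∑ x, out x = 4 * (o : ℤ)

namespace Table

variable {X : Type*} [Fintype X] (T : Table X)

/-- The members of height zero. -/
def Z0 : Finset X := univ.filter fun x => T.h x = 0

/-- The members of height zero with more than one deviating multiplicity. -/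
def bad : Finset X := T.Z0.filter fun x => T.G x ≠ 2 * ((T.q : ℤ) - 1)

/-- The members of positive height which do not vanish on the rotations. -/
def Es : Finset X := univ.filter fun x => T.h x ≠ 0 ∧ T.G x ≠ 0

/-- The members of positive height which vanish on the rotations. -/
def Fs : Finset X := univ.filter fun x => T.h x ≠ 0 ∧ T.G x = 0

theorem mem_Z0 {x : X} : x ∈ T.Z0 ↔ T.h x = 0 := by simp [Z0]

theorem four_dvd_card_Z0 : 4 ∣ T.Z0.card := by
  obtain ⟨x, hx⟩ := T.exists_zero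
  have h40 : (4 : ZMod 4) = 0 := rfl
  have hsum : (T.Z0.card : ZMod 4) = ((∑ y, T.M y x ^ 2 : ℤ) : ZMod 4) := by
    rw [Z0, ← sum_boole]
    push_cast
    refine sum_congr rfl fun y _ => ?_
    obtain ⟨c, hc, hodd⟩ := T.majorM.dvd y x
    rw [hc]
    push_cast
    split_ifs with hy
    · obtain ⟨d, rfl⟩ := hodd.mpr hx
      rw [hy]
      push_cast
      linear_combination (-((d : ZMod 4) ^ 2 + d)) * h40
    · obtain ⟨m, hm⟩ : ∃ m, T.h y = m + 1 := ⟨T.h y - 1, by omega⟩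
      rw [hm, pow_succ]
      linear_combination (-((2 : ZMod 4) ^ m * c) ^ 2) * h40
  rw [T.majorM.row] at hsum
  push_cast at hsum
  rw [h40, zero_mul, zero_mul] at hsum
  exact (ZMod.natCast_eq_zero_iff _ _).mp hsum

theorem card_Z0 : T.Z0.card = 4 ∧ (∀ x, T.h x = 0 → T.a x = 1 ∨ T.a x = -1) ∧
    ∀ x, T.h x ≠ 0 → T.a x = 0 := by
  have hsq : ∀ x, T.h x = 0 → 1 ≤ T.a x ^ 2 := fun x hx => by
    have h0 : T.a x ≠ 0 := fun e => by
      have := T.odd_a x hx
      rw [e] at this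
      exact absurd this (by decide)
    have := sq_pos_of_ne_zero h0
    omega
  have hle : (T.Z0.card : ℤ) ≤ ∑ x ∈ T.Z0, T.a x ^ 2 := by
    rw [card_eq_sum_ones, Nat.cast_sum, Nat.cast_one]
    exact sum_le_sum fun x hx => hsq x (T.mem_Z0.mp hx)
  have htot : ∑ x ∈ T.Z0, T.a x ^ 2 ≤ 4 :=
    T.sum_a ▸ sum_le_univ_sum_of_nonneg fun _ => sq_nonneg _
  have hne : 0 < T.Z0.card := card_pos.mpr (T.exists_zero.imp fun _ => T.mem_Z0.mpr)
  have h4 : T.Z0.card = 4 := by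
    obtain ⟨m, hm⟩ := T.four_dvd_card_Z0
    omega
  have heq : ∑ x ∈ T.Z0, T.a x ^ 2 = ∑ _x ∈ T.Z0, (1 : ℤ) := by
    rw [sum_const, nsmul_one, h4]
    have : (4 : ℤ) ≤ ∑ x ∈ T.Z0, T.a x ^ 2 := by rw [h4] at hle; exact_mod_cast hle
    push_cast
    omega
  refine ⟨h4, fun x hx => ?_, fun x hx => ?_⟩
  · have h1 := (sum_eq_sum_iff_of_le fun y hy => hsq y (T.mem_Z0.mp hy)).mp heq.symm x
      (T.mem_Z0.mpr hx)
    exact sq_eq_one_iff.mp h1.symm
  · have h1 := sum_filter_add_sum_filter_not univ (fun x => T.h x = 0) fun x => T.a x ^ 2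
    rw [T.sum_a, ← Z0, heq, sum_const, nsmul_one, h4] at h1
    have h2 : ∑ x ∈ univ.filter (fun x => ¬ T.h x = 0), T.a x ^ 2 = 0 := by
      push_cast at h1
      omega
    rw [sum_eq_zero_iff_of_nonneg fun _ _ => sq_nonneg _] at h2
    exact sq_eq_zero_iff.mp (h2 x (mem_filter.mpr ⟨mem_univ _, hx⟩))

theorem out_eq : (∀ x, T.h x = 0 → T.out x = T.o) ∧ ∀ x, T.h x ≠ 0 → T.out x = 0 := by
  have h1 := sum_filter_add_sum_filter_not univ (fun x => T.h x = 0) T.out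
  rw [T.sum_out, ← Z0] at h1
  have h2 : ∑ _x ∈ T.Z0, (T.o : ℤ) ≤ ∑ x ∈ T.Z0, T.out x :=
    sum_le_sum fun x hx => T.out_zero x (T.mem_Z0.mp hx)
  have h2' : ∑ _x ∈ T.Z0, (T.o : ℤ) = 4 * (T.o : ℤ) := by
    rw [sum_const, T.card_Z0.1, nsmul_eq_mul]
    norm_num
  have h3 : 0 ≤ ∑ x ∈ univ.filter (fun x => ¬ T.h x = 0), T.out x :=
    sum_nonneg fun x _ => T.out_nonneg x
  refine ⟨fun x hx => ?_, fun x hx => ?_⟩
  · have := (sum_eq_sum_iff_of_le fun y hy => T.out_zero y (T.mem_Z0.mp hy)).mp (by linarith) x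
      (T.mem_Z0.mpr hx)
    exact this.symm
  · have h4 : ∑ x ∈ univ.filter (fun x => ¬ T.h x = 0), T.out x = 0 := by linarith
    exact (sum_eq_zero_iff_of_nonneg fun y _ => T.out_nonneg y).mp h4 x
      (mem_filter.mpr ⟨mem_univ _, hx⟩)

/-- A member of height zero with more than one deviating multiplicity. -/
theorem bad_eq {x : X} (hx : x ∈ T.bad) :
    T.M x x = 1 ∧ T.Z x x = 1 ∧ T.o = 0 ∧ T.G x = 4 * (T.q : ℤ) - 2 ∧ 4 ≤ T.q ∧ T.q < 16 := by
  obtain ⟨hx0, hG⟩ := mem_filter.mp hx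
  rw [T.mem_Z0] at hx0
  obtain ⟨h1, h2, h3⟩ := (T.G_unit x (T.card_Z0.2.1 x hx0)).resolve_left hG
  have hd := T.diag x
  rw [T.out_eq.1 x hx0] at hd
  have hm := T.majorM.pos x
  have hz := T.majorZ.pos x
  have hq : (2 : ℤ) ≤ T.q := by exact_mod_cast T.two_le
  have ho : (0 : ℤ) ≤ T.o := Nat.cast_nonneg _
  have hqo : (T.q : ℤ) * T.o = 0 := by nlinarith
  have ho0 : T.o = 0 := by
    rcases mul_eq_zero.mp hqo with h | h
    · omega
    · exact_mod_cast h
  refine ⟨by nlinarith, by nlinarith, ho0, by nlinarith, h3, ?_⟩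
  by_contra h16
  have := h2 (by omega)
  nlinarith

theorem good_G {x : X} (hx : T.h x = 0) (hb : x ∉ T.bad) : T.G x = 2 * ((T.q : ℤ) - 1) := by
  by_contra h
  exact hb (mem_filter.mpr ⟨T.mem_Z0.mpr hx, h⟩)

/-- A member of positive height which does not vanish on the rotations. -/
theorem Es_eq {x : X} (hx : x ∈ T.Es) : T.G x = 4 * ((T.q : ℤ) - 2) ∧ T.M x x = 4 ∧ T.Z x x = 4 ∧
    T.h x = 1 ∧ 4 ≤ T.q := by
  obtain ⟨-, hx0, hG⟩ := mem_filter.mp hx
  obtain ⟨h4, hge⟩ := (T.G_zero x (T.card_Z0.2.2 x hx0)).resolve_left hG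
  have hd := T.diag x
  rw [T.out_eq.2 x hx0, mul_zero, add_zero] at hd
  have hm := Int.le_of_dvd (T.majorM.pos x) (T.majorM.pow_succ_dvd hx0)
  have hz := Int.le_of_dvd (T.majorZ.pos x) (T.majorZ.pow_succ_dvd hx0)
  obtain ⟨m, hm'⟩ := Nat.exists_eq_succ_of_ne_zero hx0
  have hm0 : m = 0 := by
    by_contra hm0
    have h8 : (8 : ℤ) ≤ 2 ^ (T.h x + 1) := by
      calc (8 : ℤ) = 2 ^ 3 := by norm_num
        _ ≤ _ := pow_le_pow_right₀ (by norm_num) (by omega)
    linarith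
  subst hm0
  rw [hm', show Nat.succ 0 + 1 = 2 from rfl] at hm hz
  norm_num at hm hz
  exact ⟨by linarith, by linarith, by linarith, hm', h4⟩

theorem out_bad_zero {x : X} (hx : x ∈ T.bad) : T.out x = 0 := by
  rw [T.out_eq.1 x (T.mem_Z0.mp (mem_filter.mp hx).1), (T.bad_eq hx).2.2.1, Nat.cast_zero]

theorem disjoint_split (f : X → ℤ) :
    ∑ x, f x = ∑ x ∈ T.Z0, f x + ∑ x ∈ T.Es, f x + ∑ x ∈ T.Fs, f x := by
  classical
  rw [add_assoc, ← sum_filter_add_sum_filter_not univ (fun x => T.h x = 0) f]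
  congr 1
  rw [← sum_filter_add_sum_filter_not (univ.filter fun x => ¬ T.h x = 0) (fun x => ¬ T.G x = 0) f,
    filter_filter, filter_filter]
  congr 1
  refine sum_congr ?_ fun _ _ => rfl
  exact filter_congr fun x _ => by simp

theorem card_eq : (Fintype.card X : ℤ) = 4 + T.Es.card + T.Fs.card := by
  have h := T.disjoint_split fun _ => 1
  simp only [sum_const, nsmul_one, card_univ, T.card_Z0.1] at h
  exact_mod_cast h

/-- The trace of the decomposition. -/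
theorem card_eq_ranks : (Fintype.card X : ℤ) = T.l + T.lz + ((T.q : ℤ) - 1) + T.o := by
  have h := sum_congr rfl (fun x (_ : x ∈ (univ : Finset X)) => T.diag x)
  rw [sum_add_distrib, sum_add_distrib, sum_add_distrib, T.majorM.trace, T.majorZ.trace, T.sum_G,
    ← mul_sum, T.sum_out, sum_const, card_univ, nsmul_eq_mul] at h
  have hq : (T.q : ℤ) ≠ 0 := by have := T.two_le; omega
  refine mul_left_cancel₀ (mul_ne_zero (show (4 : ℤ) ≠ 0 by norm_num) hq) ?_
  linarith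

theorem sum_G_eq : 4 * (2 * ((T.q : ℤ) - 1)) + T.bad.card * (2 * (T.q : ℤ)) +
    T.Es.card * (4 * ((T.q : ℤ) - 2)) = 4 * (T.q : ℤ) * ((T.q : ℤ) - 1) := by
  classical
  rw [← T.sum_G, T.disjoint_split T.G]
  have hF : ∑ x ∈ T.Fs, T.G x = 0 := sum_eq_zero fun x hx => (mem_filter.mp hx).2.2
  have hE : ∑ x ∈ T.Es, T.G x = T.Es.card * (4 * ((T.q : ℤ) - 2)) := by
    rw [sum_congr rfl fun x hx => (T.Es_eq hx).1, sum_const, nsmul_eq_mul]
  have h0 : ∑ x ∈ T.Z0, T.G x = ∑ x ∈ T.Z0,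
      (2 * ((T.q : ℤ) - 1) + if x ∈ T.bad then 2 * (T.q : ℤ) else 0) := by
    refine sum_congr rfl fun x hx => ?_
    split_ifs with hb
    · rw [(T.bad_eq hb).2.2.2.1]; ring
    · rw [T.good_G (T.mem_Z0.mp hx) hb, add_zero]
  rw [hF, hE, h0, sum_add_distrib, sum_const, T.card_Z0.1, sum_ite_mem,
    (inter_eq_right.mpr (show T.bad ⊆ T.Z0 from filter_subset _ _) : T.Z0 ∩ T.bad = T.bad), sum_const,
    nsmul_eq_mul, nsmul_eq_mul]
  push_cast
  ring

theorem card_Es (hgood : T.bad = ∅) :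
    (4 ≤ T.q → (T.Es.card : ℤ) = (T.q : ℤ) - 1) ∧ (T.q < 4 → T.Es.card = 0) := by
  refine ⟨fun h4 => ?_, fun h4 => card_eq_zero.mpr (eq_empty_of_forall_notMem fun x hx => ?_)⟩
  · have h := T.sum_G_eq
    rw [hgood, card_empty] at h
    have h2 : (4 * ((T.q : ℤ) - 2)) ≠ 0 := by omega
    refine mul_right_cancel₀ h2 ?_
    push_cast at h
    linarith
  · have := (T.Es_eq hx).2.2.2.2
    omega

theorem Fs_eq (hf : ∀ x ∈ T.Fs, T.q ≤ 2 ^ T.h x) {x : X} (hx : x ∈ T.Fs) :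
    T.M x x = 2 * T.q ∧ T.Z x x = 2 * T.q ∧ 2 ^ T.h x = T.q := by
  obtain ⟨-, hx0, hG⟩ := mem_filter.mp hx
  have hd := T.diag x
  rw [T.out_eq.2 x hx0, mul_zero, add_zero, hG, add_zero] at hd
  have hm := Int.le_of_dvd (T.majorM.pos x) (T.majorM.pow_succ_dvd hx0)
  have hz := Int.le_of_dvd (T.majorZ.pos x) (T.majorZ.pow_succ_dvd hx0)
  have hq : (T.q : ℤ) ≤ 2 ^ T.h x := by exact_mod_cast hf x hx
  rw [pow_succ] at hm hz
  refine ⟨by linarith, by linarith, ?_⟩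
  have : (2 : ℤ) ^ T.h x = T.q := by linarith
  exact_mod_cast this

/-- The inequality limiting the members which vanish on the rotations. -/
theorem Fs_ineq (hgood : T.bad = ∅) (hf : ∀ x ∈ T.Fs, T.q ≤ 2 ^ T.h x) :
    4 * (T.q : ℤ) * ((2 - (T.o : ℤ)) * T.q + 2) ≥
      ((2 - (T.o : ℤ)) * T.q + 2) ^ 2 / 2 + 2 * (3 + 4 * (T.Es.card : ℤ) + T.Fs.card * (T.q : ℤ) ^ 2) := by
  classical
  obtain ⟨x, hx⟩ := T.exists_zero
  have key : ∀ (M : X → X → ℤ) (l : ℕ), Major T.q T.h M l →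
      M x x ^ 2 + (3 + 4 * (T.Es.card : ℤ) + T.Fs.card * (T.q : ℤ) ^ 2) ≤ 4 * (T.q : ℤ) * M x x := by
    intro M l hM
    rw [← hM.row x, T.disjoint_split fun y => M y x ^ 2, ← add_sum_erase _ _ (T.mem_Z0.mpr hx)]
    have h0 : (3 : ℤ) ≤ ∑ y ∈ T.Z0.erase x, M y x ^ 2 := by
      refine le_of_eq_of_le ?_ (sum_le_sum (f := fun _ => (1 : ℤ)) fun y hy => ?_)
      · rw [sum_const, card_erase_of_mem (T.mem_Z0.mpr hx), T.card_Z0.1]; norm_num
      · have := hM.pow_le_sq (y := y) hx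
        rwa [T.mem_Z0.mp (mem_of_mem_erase hy), pow_zero, one_pow] at this
    have h1 : 4 * (T.Es.card : ℤ) ≤ ∑ y ∈ T.Es, M y x ^ 2 := by
      refine le_of_eq_of_le ?_ (sum_le_sum (f := fun _ => (4 : ℤ)) fun y hy => ?_)
      · rw [sum_const, nsmul_eq_mul, mul_comm]
      · have := hM.pow_le_sq (y := y) hx
        rw [(T.Es_eq hy).2.2.2.1] at this
        norm_num at this
        exact this
    have h2 : (T.Fs.card : ℤ) * (T.q : ℤ) ^ 2 ≤ ∑ y ∈ T.Fs, M y x ^ 2 := by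
      refine le_of_eq_of_le ?_ (sum_le_sum (f := fun _ => (T.q : ℤ) ^ 2) fun y hy => ?_)
      · rw [sum_const, nsmul_eq_mul]
      · have := hM.pow_le_sq (y := y) hx
        rwa [show ((2 : ℤ) ^ T.h y) = (T.q : ℤ) by exact_mod_cast (T.Fs_eq hf hy).2.2] at this
    linarith
  have hd := T.diag x
  rw [T.out_eq.1 x hx, T.good_G hx (by rw [hgood]; exact notMem_empty x)] at hd
  have hS : T.M x x + T.Z x x = (2 - (T.o : ℤ)) * T.q + 2 := by linarith
  have h1 := key T.M T.l T.majorM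
  have h2 := key T.Z T.lz T.majorZ
  have h3 : ((2 - (T.o : ℤ)) * T.q + 2) ^ 2 / 2 ≤ T.M x x ^ 2 + T.Z x x ^ 2 := by
    rw [← hS]
    refine Int.ediv_le_of_le_mul (by norm_num) ?_
    nlinarith [sq_nonneg (T.M x x - T.Z x x)]
  have h4 : 4 * (T.q : ℤ) * T.M x x + 4 * (T.q : ℤ) * T.Z x x =
      4 * (T.q : ℤ) * ((2 - (T.o : ℤ)) * T.q + 2) := by rw [← hS]; ring
  linarith

/-- The members vanishing on the rotations, for `q` at least four. -/
theorem card_Fs_le (hgood : T.bad = ∅) (hf : ∀ x ∈ T.Fs, T.q ≤ 2 ^ T.h x) (h2 : 2 ∣ T.q)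
    (h4 : 4 ≤ T.q) : T.Fs.card + T.o ≤ 2 := by
  have hi := T.Fs_ineq hgood hf
  rw [(T.card_Es hgood).1 h4] at hi
  obtain ⟨r, hr⟩ := h2
  have hr2 : (2 : ℤ) ≤ r := by omega
  rw [hr] at hi
  push_cast at hi
  set o : ℤ := (T.o : ℤ) with ho
  have ho0 : 0 ≤ o := Nat.cast_nonneg _
  set F : ℤ := (T.Fs.card : ℤ) with hF
  have hF0 : 0 ≤ F := Nat.cast_nonneg _
  have e : ((2 - o) * (2 * (r : ℤ)) + 2) ^ 2 / 2 = 2 * ((2 - o) * (r : ℤ) + 1) ^ 2 := by
    rw [show ((2 - o) * (2 * (r : ℤ)) + 2) ^ 2 = 2 * (2 * ((2 - o) * (r : ℤ) + 1) ^ 2) by ring,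
      Int.mul_ediv_cancel_left _ (by norm_num)]
  rw [e] at hi
  by_contra hcon
  have hsum : 3 ≤ F + o := by rw [hF, ho]; omega
  have ho2 : o ≤ 2 := by
    by_contra h3
    nlinarith [mul_nonneg hF0 (sq_nonneg (r : ℤ)), sq_nonneg ((2 - o) * (r : ℤ) + 1)]
  rcases (show o = 0 ∨ o = 1 ∨ o = 2 by omega) with h | h | h <;> rw [h] at hi hsum <;>
    nlinarith [mul_le_mul_of_nonneg_right (show (3 : ℤ) - o ≤ F by omega) (sq_nonneg (r : ℤ))]

/-- The members vanishing on the rotations, for `q = 2`. -/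
theorem card_Fs_le_two (hgood : T.bad = ∅) (hf : ∀ x ∈ T.Fs, T.q ≤ 2 ^ T.h x) (h2 : T.q = 2) :
    T.Fs.card + T.o ≤ 3 := by
  have hi := T.Fs_ineq hgood hf
  have he := (T.card_Es hgood).2 (by omega)
  rw [he, h2] at hi
  push_cast at hi
  have ho3 : T.o ≤ 3 := by
    by_contra h4
    have h4' : (4 : ℤ) ≤ T.o := by exact_mod_cast not_le.mp h4
    have h9 : (0 : ℤ) ≤ ((2 - (T.o : ℤ)) * 2 + 2) ^ 2 / 2 := Int.ediv_nonneg (sq_nonneg _) (by norm_num)
    linarith
  interval_cases hoo : T.o <;> norm_num [hoo] at hi <;> omega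

theorem odd_sq_cast {c : ℤ} (hc : Odd c) : ((c : ZMod 8)) ^ 2 = 1 := by
  obtain ⟨m, rfl⟩ := hc
  push_cast
  generalize (m : ZMod 8) = z
  revert z
  decide

/-- Members of height zero with more than one deviating multiplicity are absent when the rank at
the central involution is at least two. -/
theorem bad_eq_empty (hq : ∃ k, T.q = 2 ^ k) (hl : 1 ≤ T.l) (hlz : T.o = 0 → 2 ≤ T.lz)
    (hf : ∀ x ∈ T.Fs, T.q ≤ 2 ^ T.h x) : T.bad = ∅ := by
  classical
  by_contra hne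
  obtain ⟨x, hx⟩ := nonempty_iff_ne_empty.mpr hne
  obtain ⟨hM1, -, ho, -, h4, h16⟩ := T.bad_eq hx
  have hx0 : T.h x = 0 := T.mem_Z0.mp (mem_filter.mp hx).1
  obtain ⟨k, hk⟩ := hq
  have hq48 : T.q = 4 ∨ T.q = 8 := by
    rw [hk] at h4 h16
    have : k < 4 := (Nat.pow_lt_pow_iff_right (by norm_num)).mp (show 2 ^ k < 2 ^ 4 by omega)
    interval_cases k <;> omega
  have hrow := T.majorM.row x
  rw [hM1, T.disjoint_split fun y => T.M y x ^ 2] at hrow
  have h0 : (4 : ℤ) ≤ ∑ y ∈ T.Z0, T.M y x ^ 2 := by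
    refine le_of_eq_of_le ?_ (sum_le_sum (f := fun _ => (1 : ℤ)) fun y hy => ?_)
    · rw [sum_const, T.card_Z0.1]; norm_num
    · have := T.majorM.pow_le_sq (y := y) hx0
      rwa [T.mem_Z0.mp hy, pow_zero, one_pow] at this
  have h1 : 4 * (T.Es.card : ℤ) ≤ ∑ y ∈ T.Es, T.M y x ^ 2 := by
    refine le_of_eq_of_le ?_ (sum_le_sum (f := fun _ => (4 : ℤ)) fun y hy => ?_)
    · rw [sum_const, nsmul_eq_mul, mul_comm]
    · have := T.majorM.pow_le_sq (y := y) hx0
      rw [(T.Es_eq hy).2.2.2.1] at this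
      norm_num at this
      exact this
  have h2 : (T.Fs.card : ℤ) * (T.q : ℤ) ^ 2 ≤ ∑ y ∈ T.Fs, T.M y x ^ 2 := by
    refine le_of_eq_of_le ?_ (sum_le_sum (f := fun _ => (T.q : ℤ) ^ 2) fun y hy => ?_)
    · rw [sum_const, nsmul_eq_mul]
    · have h := T.majorM.pow_le_sq (y := y) hx0
      have hge : (T.q : ℤ) ≤ 2 ^ T.h y := by exact_mod_cast hf y hy
      exact (pow_le_pow_left₀ (by positivity) hge 2).trans h
  have hk' := T.card_eq_ranks
  rw [T.card_eq, ho] at hk'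
  have hlz' := hlz ho
  have hG := T.sum_G_eq
  have hb : 1 ≤ T.bad.card := card_pos.mpr ⟨x, hx⟩
  have hb4 : T.bad.card ≤ 4 := T.card_Z0.1 ▸ card_le_card (filter_subset _ _)
  have hF : T.Fs.card = 0 := by
    have : (T.Fs.card : ℤ) * (T.q : ℤ) ^ 2 ≤ 4 * (T.q : ℤ) - 4 := by linarith
    rcases hq48 with h | h <;> rw [h] at this <;> push_cast at this <;> omega
  rcases hq48 with hq | hq <;> rw [hq] at hG hk' hrow <;> push_cast at hG hk' hrow
  swap
  · omega
  -- `q = 4`: the parity of the number of members of height one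
  have hFs : T.Fs = ∅ := card_eq_zero.mp hF
  have h8 : (0 : ZMod 8) = (((4 + 4 * T.Es.card : ℕ)) : ZMod 8) := by
    have h := congrArg (fun z : ℤ => (z : ZMod 8)) hrow
    rw [hFs, sum_empty, add_zero] at h
    push_cast at h
    have e0 : ∑ y ∈ T.Z0, ((T.M y x : ZMod 8)) ^ 2 = 4 := by
      rw [sum_congr rfl (g := fun _ => (1 : ZMod 8)) fun y hy => ?_, sum_const, T.card_Z0.1,
        nsmul_one]
      · norm_num
      · obtain ⟨c, hc, hodd⟩ := T.majorM.dvd y x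
        rw [hc, T.mem_Z0.mp hy, pow_zero, one_mul]
        exact odd_sq_cast (hodd.mpr hx0)
    have e1 : ∑ y ∈ T.Es, ((T.M y x : ZMod 8)) ^ 2 = (T.Es.card : ZMod 8) * 4 := by
      rw [sum_congr rfl (g := fun _ => (4 : ZMod 8)) fun y hy => ?_, sum_const, nsmul_eq_mul]
      obtain ⟨c, hc, hodd⟩ := T.majorM.dvd y x
      rw [hc, (T.Es_eq hy).2.2.2.1]
      push_cast
      rw [mul_pow, odd_sq_cast (hodd.mpr hx0), mul_one]
      rfl
    rw [e0, e1] at h
    push_cast at h ⊢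
    have h16' : (16 : ZMod 8) = 0 := rfl
    linear_combination -h - h16'
  rw [eq_comm, ZMod.natCast_eq_zero_iff] at h8
  omega

/-- The semidihedral exclusion of two members vanishing on the rotations. -/
theorem card_Fs_ne_two (hgood : T.bad = ∅) (hf : ∀ x ∈ T.Fs, T.q ≤ 2 ^ T.h x) (h4 : 4 ≤ T.q)
    (hlz : T.lz = 2) : T.Fs.card ≠ 2 := by
  classical
  intro h2
  have ht := T.majorZ.trace
  have hE := (T.card_Es hgood).1 h4
  rw [T.disjoint_split, hlz, sum_congr rfl fun y hy => (T.Es_eq hy).2.2.1,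
    sum_congr rfl fun y hy => (T.Fs_eq hf hy).2.1, sum_const, sum_const, h2, nsmul_eq_mul,
    nsmul_eq_mul, hE] at ht
  push_cast at ht
  obtain ⟨x, hx⟩ := T.exists_zero
  have hxZ := T.mem_Z0.mpr hx
  rw [← add_sum_erase _ _ hxZ] at ht
  have he : (3 : ℤ) ≤ ∑ y ∈ T.Z0.erase x, T.Z y y := by
    refine le_of_eq_of_le ?_ (sum_le_sum (f := fun _ => (1 : ℤ)) fun y _ => T.majorZ.pos y)
    rw [sum_const, card_erase_of_mem hxZ, T.card_Z0.1]; norm_num
  have hpos := T.majorZ.pos x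
  have hx1 : T.Z x x = 1 := by linarith
  have hrow := T.majorZ.row x
  rw [hx1, T.disjoint_split fun y => T.Z y x ^ 2] at hrow
  have h2' : (T.Fs.card : ℤ) * (T.q : ℤ) ^ 2 ≤ ∑ y ∈ T.Fs, T.Z y x ^ 2 := by
    refine le_of_eq_of_le ?_ (sum_le_sum (f := fun _ => (T.q : ℤ) ^ 2) fun y hy => ?_)
    · rw [sum_const, nsmul_eq_mul]
    · have := T.majorZ.pow_le_sq (y := y) hx
      rwa [show ((2 : ℤ) ^ T.h y) = (T.q : ℤ) by exact_mod_cast (T.Fs_eq hf hy).2.2] at this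
  have h0 : 0 ≤ ∑ y ∈ T.Z0, T.Z y x ^ 2 := sum_nonneg fun _ _ => sq_nonneg _
  have h1 : 0 ≤ ∑ y ∈ T.Es, T.Z y x ^ 2 := sum_nonneg fun _ _ => sq_nonneg _
  rw [h2] at h2'
  have hq : (4 : ℤ) ≤ T.q := by exact_mod_cast h4
  push_cast at h2'
  nlinarith

/-- Rank one at the central involution leaves no member vanishing on the rotations. -/
theorem Fs_eq_empty (hgood : T.bad = ∅) (h4 : 4 ≤ T.q) (hlz : T.lz = 1) : T.Fs = ∅ := by
  classical
  by_contra hne
  obtain ⟨x, hx⟩ := nonempty_iff_ne_empty.mpr hne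
  have ht := T.majorZ.trace
  rw [T.disjoint_split, hlz, sum_congr rfl fun y hy => (T.Es_eq hy).2.2.1, sum_const, nsmul_eq_mul,
    (T.card_Es hgood).1 h4] at ht
  have h0 : (4 : ℤ) ≤ ∑ y ∈ T.Z0, T.Z y y := by
    refine le_of_eq_of_le ?_ (sum_le_sum (f := fun _ => (1 : ℤ)) fun y _ => T.majorZ.pos y)
    rw [sum_const, T.card_Z0.1]; norm_num
  have h1 := single_le_sum (f := fun y => T.Z y y) (fun y _ => (T.majorZ.pos y).le) hx
  have := T.majorZ.pos x
  push_cast at ht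
  linarith

/-- The dihedral group of order eight. -/
theorem card_eq_five (h2 : T.q = 2) (hlz : T.lz = 1) :
    Fintype.card X = 5 ∧ ∀ x, T.h x ≤ 1 := by
  classical
  have ht := T.majorZ.trace
  rw [hlz, h2, ← sum_filter_add_sum_filter_not univ (fun x => T.h x = 0), ← Z0] at ht
  push_cast at ht
  set N := univ.filter fun x => ¬ T.h x = 0 with hN
  have hpow : ∀ y ∈ N, (2 : ℤ) ^ (T.h y + 1) ≤ T.Z y y := fun y hy =>
    Int.le_of_dvd (T.majorZ.pos y) (T.majorZ.pow_succ_dvd (mem_filter.mp hy).2)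
  have h4le : ∀ y ∈ N, (4 : ℤ) ≤ T.Z y y := fun y hy =>
    le_trans (by calc (4 : ℤ) = 2 ^ 2 := by norm_num
                  _ ≤ _ := pow_le_pow_right₀ (by norm_num)
                    (by have := (mem_filter.mp hy).2; omega)) (hpow y hy)
  have h0 : (4 : ℤ) ≤ ∑ y ∈ T.Z0, T.Z y y := by
    refine le_of_eq_of_le ?_ (sum_le_sum (f := fun _ => (1 : ℤ)) fun y _ => T.majorZ.pos y)
    rw [sum_const, T.card_Z0.1]; norm_num
  have h1 : (N.card : ℤ) * 4 ≤ ∑ y ∈ N, T.Z y y := by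
    refine le_of_eq_of_le ?_ (sum_le_sum h4le)
    rw [sum_const, nsmul_eq_mul]
  have hne : N ≠ ∅ := fun he => by
    obtain ⟨x, hx⟩ := T.exists_zero
    have hrow := congrArg (fun z : ℤ => (z : ZMod 8)) (T.majorZ.row x)
    rw [← sum_filter_add_sum_filter_not univ (fun y => T.h y = 0), ← Z0, ← hN, he, sum_empty,
      add_zero, h2] at hrow
    push_cast at hrow
    rw [sum_congr rfl (g := fun _ => (1 : ZMod 8)) fun y hy => ?_, sum_const, T.card_Z0.1,
      nsmul_one, show (8 : ZMod 8) = 0 from rfl, zero_mul] at hrow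
    · exact absurd hrow (by decide)
    · obtain ⟨c, hc, hodd⟩ := T.majorZ.dvd y x
      rw [hc, T.mem_Z0.mp hy, pow_zero, one_mul]
      exact odd_sq_cast (hodd.mpr hx)
  have hpos : 0 < N.card := card_pos.mpr (nonempty_iff_ne_empty.mpr hne)
  have hN1 : N.card = 1 := by omega
  refine ⟨?_, fun x => ?_⟩
  · rw [← card_univ, ← card_filter_add_card_filter_not (fun x => T.h x = 0), ← hN, hN1]
    show T.Z0.card + 1 = 5
    rw [T.card_Z0.1]
  · by_contra hx
    have hxN : x ∈ N := mem_filter.mpr ⟨mem_univ _, by omega⟩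
    have h5 := single_le_sum (f := fun y => T.Z y y) (fun y _ => (T.majorZ.pos y).le) hxN
    have h6 : (8 : ℤ) ≤ 2 ^ (T.h x + 1) := by
      calc (8 : ℤ) = 2 ^ 3 := by norm_num
        _ ≤ _ := pow_le_pow_right₀ (by norm_num) (by omega)
    linarith [hpow x hxN]

/-- The case of a central involution: the number of other classes and the rank. -/
theorem rank_add_other (hgood : T.bad = ∅) (hf : ∀ x ∈ T.Fs, T.q ≤ 2 ^ T.h x) (ε : X → ℤ)
    (hε0 : ∀ x, T.h x = 0 → ε x = 1) (hεF : ∀ x ∈ T.Fs, ε x = -1)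
    (hMZ : ∀ x, T.Z x x = T.M x x) (hll : T.lz = T.l) (hsM : ∑ x, ε x * T.M x x = 0)
    (hsG : 4 ≤ T.q → ∑ x, ε x * T.G x = 4 * (T.q : ℤ)) (hq : T.q = 2 ∨ 4 ≤ T.q) :
    T.l + T.o = 3 := by
  classical
  rw [T.disjoint_split] at hsM
  have hk := T.card_eq_ranks
  rw [T.card_eq, hll] at hk
  have hF : ∑ x ∈ T.Fs, ε x * T.M x x = -(2 * (T.q : ℤ)) * T.Fs.card := by
    rw [sum_congr rfl fun x hx => by rw [hεF x hx, (T.Fs_eq hf hx).1], sum_const, nsmul_eq_mul]
    ring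
  have h0 : ∑ x ∈ T.Z0, ε x * T.M x x = 2 * ((2 - (T.o : ℤ)) * T.q + 2) := by
    have hd : ∀ x ∈ T.Z0, 2 * (ε x * T.M x x) = (2 - (T.o : ℤ)) * T.q + 2 := fun x hx => by
      rw [T.mem_Z0] at hx
      have h := T.diag x
      rw [T.out_eq.1 x hx, T.good_G hx (by rw [hgood]; exact notMem_empty x), hMZ] at h
      rw [hε0 x hx]
      linarith
    have h := sum_congr rfl hd
    rw [← mul_sum, sum_const, T.card_Z0.1, nsmul_eq_mul] at h
    push_cast at h
    linarith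
  rw [hF, h0] at hsM
  rcases hq with h2 | h4
  · have hE := (T.card_Es hgood).2 (by omega)
    rw [card_eq_zero.mp hE, sum_empty, add_zero] at hsM
    rw [hE, h2] at hk
    rw [h2] at hsM
    push_cast at hk hsM
    omega
  · have hE := (T.card_Es hgood).1 h4
    have hG := hsG h4
    rw [T.disjoint_split, sum_eq_zero (s := T.Fs) fun x hx => by rw [(mem_filter.mp hx).2.2, mul_zero],
      add_zero, sum_congr rfl (g := fun x => 2 * ((T.q : ℤ) - 1)) (s₁ := T.Z0) (fun x hx => by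
        rw [hε0 x (T.mem_Z0.mp hx), one_mul,
          T.good_G (T.mem_Z0.mp hx) (by rw [hgood]; exact notMem_empty x)]),
      sum_const, T.card_Z0.1, sum_congr rfl (s₁ := T.Es) fun x hx => by rw [(T.Es_eq hx).1],
      ← sum_mul, nsmul_eq_mul] at hG
    have hq2 : (4 * ((T.q : ℤ) - 2)) ≠ 0 := by omega
    have hsum : ∑ x ∈ T.Es, ε x = -1 := by
      refine mul_right_cancel₀ hq2 ?_
      push_cast at hG
      linarith
    rw [sum_congr rfl (s₁ := T.Es) fun x hx => by rw [(T.Es_eq hx).2.1], ← sum_mul, hsum] at hsM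
    have hFo : (T.Fs.card : ℤ) = 2 - T.o := by
      refine mul_left_cancel₀ (show (2 * (T.q : ℤ)) ≠ 0 by omega) ?_
      linarith
    omega

end Table

end CfsgLib.Blocks.TameTwo
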