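import Cfsg.Agent.Lib.Blocks.TameTwo.LocalGroups
import Cfsg.Agent.Lib.Blocks.NilpotentStar
import Cfsg.Agent.Lib.Blocks.BlockSaturation

/-!
# The fusion of the rotations

A pair of the block on a rotation of order at least four is conjugate to the one on another rotation
only inside the defect group.
-/

set_option autoImplicit false
set_option linter.unusedSectionVars false

namespace CfsgLib.Blocks.TameTwo

open Cfsg
open scoped ComplexConjugate CfsgLib.Char

namespace Shape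

variable {G : Type*} [Group G] [Finite G] {D : Subgroup G} {q : ℕ} (S : Shape D q)

include S in
/-- Rotations of the same order generate the same subgroup. -/
theorem zpowers_eq_of_orderOf {i j : ZMod (2 * q)} (h : orderOf (S.r i) = orderOf (S.r j)) :
    Subgroup.zpowers (S.r i) = Subgroup.zpowers (S.r j) := by
  classical
  have : Fintype G := Fintype.ofFinite G
  let K := Subgroup.zpowers (S.r 1)
  set n := orderOf (S.r i) with hn
  have hle : ∀ l, orderOf (S.r l) = n →
      ((Subgroup.zpowers (S.r l)).subgroupOf K : Set K).toFinset ⊆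
        Finset.univ.filter fun a : K => a ^ n = 1 := by
    intro l hl a ha
    refine Finset.mem_filter.mpr ⟨Finset.mem_univ _, Subtype.ext ?_⟩
    have ha' : (a : G) ∈ Subgroup.zpowers (S.r l) := by simpa [Subgroup.mem_subgroupOf] using ha
    obtain ⟨k, hk⟩ := Subgroup.mem_zpowers_iff.mp ha'
    rw [Subgroup.coe_pow, ← hk, ← zpow_natCast, ← zpow_mul, mul_comm, zpow_mul, zpow_natCast, ← hl,
      pow_orderOf_eq_one, one_zpow, Subgroup.coe_one]
  have hcard : ∀ l, orderOf (S.r l) = n →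
      ((Subgroup.zpowers (S.r l)).subgroupOf K : Set K).toFinset.card = n := by
    intro l hl
    rw [Set.toFinset_card, ← Nat.card_eq_fintype_card]
    show Nat.card ((Subgroup.zpowers (S.r l)).subgroupOf K) = n
    rw [Nat.card_congr (Subgroup.subgroupOfEquivOfLe
      (Subgroup.zpowers_le.mpr (S.r_mem_zpowers l))).toEquiv, Nat.card_zpowers, hl]
  have hpos : 0 < n := orderOf_pos _
  have hup : (Finset.univ.filter fun a : K => a ^ n = 1).card ≤ n := IsCyclic.card_pow_eq_one_le hpos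
  have h1 := Finset.eq_of_subset_of_card_le (hle i rfl) (by rw [hcard i rfl]; exact hup)
  have h2 := Finset.eq_of_subset_of_card_le (hle j h.symm) (by rw [hcard j h.symm]; exact hup)
  have h3 := Set.toFinset_inj.mp (h1.trans h2.symm)
  have h4 := congrArg (Subgroup.map K.subtype) (SetLike.coe_injective h3)
  rwa [Subgroup.map_subgroupOf_eq_of_le (Subgroup.zpowers_le.mpr (S.r_mem_zpowers i)),
    Subgroup.map_subgroupOf_eq_of_le (Subgroup.zpowers_le.mpr (S.r_mem_zpowers j))] at h4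

theorem conj_rot {d : G} (hd : d ∈ D) (i : ZMod (2 * q)) :
    d * S.r i * d⁻¹ = S.r i ∨ d * S.r i * d⁻¹ = S.r (S.s * i) := by
  obtain ⟨l, rfl | rfl⟩ := S.cover d hd
  · left
    rw [S.r_comm l i, mul_inv_cancel_right]
  · right
    rw [S.outer_mul_r, mul_inv_eq_iff_eq_mul, ← mul_assoc, ← S.r_add, add_comm]

theorem mem_normalizer_rot {d : G} (hd : d ∈ D) (i : ZMod (2 * q)) :
    d ∈ Subgroup.normalizer (Subgroup.zpowers (S.r i) : Set G) := by
  have hmap : Subgroup.zpowers (d * S.r i * d⁻¹) = Subgroup.zpowers (S.r i) := by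
    have ho : orderOf (d * S.r i * d⁻¹) = orderOf (S.r i) := (MulAut.conj d).orderOf_eq _
    rcases S.conj_rot hd i with h | h
    · rw [h]
    · rw [h] at ho ⊢
      exact S.zpowers_eq_of_orderOf ho
  have : Fintype G := Fintype.ofFinite G
  refine Subgroup.mem_normalizer_iff.mpr fun z => ?_
  conv_rhs => rw [← hmap, ← map_zpowers_conj, mem_map_conj_iff,
    show d⁻¹ * (d * z * d⁻¹) * d = z by group]

end Shape

variable {M : Ideal AlgInt} [M.IsPrime] {G : Type*} [Group G] [Fintype G] {D : Subgroup G}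
  {e : Set (IrrCharacter (Subgroup.centralizer (D : Set G)))} {B : Set (IrrCharacter G)} {q : ℕ}

/-- Fusion of pairs on rotations. -/
theorem rotation_fusion (hM : IsPModular 2 M) (hmax : IsMaximalBrauerPair 2 M B D e) (S : Shape D q)
    {i j : ZMod (2 * q)} {g : G} (hg : g * S.r i * g⁻¹ = S.r j)
    (hpair : conjPair g (topPair 2 M D e (S.r i)) = topPair 2 M D e (S.r j)) :
    j = i ∨ j = S.s * i := by
  classical
  have hPe := hmax.1.1
  set Q := Subgroup.zpowers (S.r i) with hQ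
  obtain ⟨b, hb, hle⟩ := exists_topBlock hM hPe (S.r_mem i)
  have hQ' : Subgroup.zpowers (S.r j) = Q :=
    S.zpowers_eq_of_orderOf (by rw [← hg]; exact (MulAut.conj g).orderOf_eq _)
  have hgN : g ∈ Subgroup.normalizer (Q : Set G) := by
    refine Subgroup.mem_normalizer_iff.mpr fun z => ?_
    conv_rhs => rw [← hQ', ← hg, ← map_zpowers_conj, mem_map_conj_iff,
      show g⁻¹ * (g * z * g⁻¹) * g = z by group]
  have hgT : g ∈ blockT Q b := mem_blockT_of_carries hM hPe hle ⟨b, hle, by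
    show PairLE 2 M (conjPair g ⟨Subgroup.zpowers (S.r i), b⟩) ⟨D, e⟩
    rw [← hb, hpair]
    exact topPair_le hM hPe (S.r_mem j)⟩ hgN
  -- `D` is a defect group of the block of the stabilizer
  have hF := isBlockFusionSystemOn_blockFusion hM hmax
  have hDN : D ≤ Subgroup.normalizer (Q : Set G) := fun d hd => S.mem_normalizer_rot hd i
  have hn : (blockFusion hM hmax.1.1).IsFullyNormalized Q := by
    refine ⟨Subgroup.zpowers_le.mpr (S.r_mem i), fun R _ => ?_⟩
    refine le_trans (Subgroup.card_le_of_le (inf_le_left : D ⊓ Subgroup.normalizer (R : Set G) ≤ D))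
      (le_of_eq ?_)
    show Nat.card D = Nat.card ↥(D ⊓ Subgroup.normalizer (Q : Set G))
    rw [inf_eq_left.mpr hDN]
  have hQb := SubpairLE.isBrauerPair hle hPe
  obtain ⟨F, hFb, hFc⟩ := exists_blockT_block hM hQb
  have hd := (isFullyNormalized_block_iff hM hF hle rfl hFb hFc).mp hn
  obtain ⟨-, hidx⟩ := stable_local_defect hM hQb.2 centralizer_le_blockT blockT_le_normalizer
    hFb hFc hd
  rw [Subgroup.subgroupOf_map_subtype, inf_eq_left.mpr hDN] at hidx
  have hDT : D ≤ blockT Q b := fun d hd => mem_blockT.mpr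
    ⟨hDN hd, stabilizes_of_mem_normalizer hM hPe hle hd (hDN hd)⟩
  rw [inf_eq_left.mpr hDT] at hidx
  set H := Subgroup.centralizer (Q : Set G) ⊔ D with hH
  have hpow : ∀ t ∈ blockT Q b, ∃ k : ℤ, t * S.r i * t⁻¹ = S.r i ^ k := fun t ht => by
    obtain ⟨k, hk⟩ := Subgroup.mem_zpowers_iff.mp
      ((Subgroup.mem_normalizer_iff.mp (blockT_le_normalizer ht) (S.r i)).mp
        (Subgroup.mem_zpowers _))
    exact ⟨k, hk.symm⟩
  have hmemC : ∀ t : G, t * S.r i * t⁻¹ = S.r i → t ∈ Subgroup.centralizer (Q : Set G) := fun t ht =>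
    mem_centralizer_zpowers (mul_inv_eq_iff_eq_mul.mp ht).symm
  have hnormal : (H.subgroupOf (blockT Q b)).Normal := ⟨fun a ha t => by
    rw [Subgroup.mem_subgroupOf] at ha ⊢
    simp only [Subgroup.coe_mul, Subgroup.coe_inv]
    obtain ⟨k, hk⟩ := hpow (t : G) t.2
    obtain ⟨m, hm⟩ := hpow (t : G)⁻¹ (inv_mem t.2)
    obtain ⟨l, hl⟩ := hpow (a : G) a.2
    rw [inv_inv] at hm
    have hkm : S.r i ^ (k * m) = S.r i := by
      rw [zpow_mul, ← hk, conj_zpow, ← hm]
      group
    have hact : (t : G) * a * (t : G)⁻¹ * S.r i * ((t : G) * a * (t : G)⁻¹)⁻¹ = S.r i ^ l :=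
      calc (t : G) * a * (t : G)⁻¹ * S.r i * ((t : G) * a * (t : G)⁻¹)⁻¹
          = (t : G) * ((a : G) * ((t : G)⁻¹ * S.r i * t) * (a : G)⁻¹) * (t : G)⁻¹ := by group
        _ = (t : G) * ((a : G) * S.r i * (a : G)⁻¹) ^ m * (t : G)⁻¹ := by rw [hm, conj_zpow]
        _ = ((t : G) * S.r i * (t : G)⁻¹) ^ (l * m) := by rw [hl, ← zpow_mul, conj_zpow]
        _ = (S.r i ^ (k * m)) ^ l := by rw [hk, ← zpow_mul, ← zpow_mul]; congr 1; ring
        _ = S.r i ^ l := by rw [hkm]
    have hc : (a : G)⁻¹ * ((t : G) * a * (t : G)⁻¹) ∈ Subgroup.centralizer (Q : Set G) := by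
      refine hmemC _ ?_
      calc (a : G)⁻¹ * ((t : G) * a * (t : G)⁻¹) * S.r i * ((a : G)⁻¹ * ((t : G) * a * (t : G)⁻¹))⁻¹
          = (a : G)⁻¹ * ((t : G) * a * (t : G)⁻¹ * S.r i * ((t : G) * a * (t : G)⁻¹)⁻¹) * a := by group
        _ = (a : G)⁻¹ * ((a : G) * S.r i * (a : G)⁻¹) * a := by rw [hact, hl]
        _ = _ := by group
    have := H.mul_mem ha (Subgroup.mem_sup_left hc)
    rwa [mul_inv_cancel_left] at this⟩
  -- a power of two of `g` centralizes `Q`, and the index is odd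
  obtain ⟨k, hk⟩ := hpow g hgT
  obtain ⟨w, hw⟩ := S.exists_pow_orderOf (S.r_mem i)
  have hiter : ∀ n : ℕ, g ^ n * S.r i * (g ^ n)⁻¹ = S.r i ^ (k ^ n) := by
    intro n
    induction n with
    | zero => simp
    | succ n ih =>
      calc g ^ (n + 1) * S.r i * (g ^ (n + 1))⁻¹ = g * (g ^ n * S.r i * (g ^ n)⁻¹) * g⁻¹ := by
            rw [pow_succ']; group
        _ = (g * S.r i * g⁻¹) ^ (k ^ n) := by rw [ih, conj_zpow]
        _ = _ := by rw [hk, ← zpow_mul, pow_succ']
  have : NeZero (2 ^ w) := ⟨pow_ne_zero w two_ne_zero⟩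
  have hto : ∀ n, (k : ZMod (2 ^ w)) ^ n = 1 ↔ g ^ n * S.r i * (g ^ n)⁻¹ = S.r i := fun n => by
    rw [hiter, ← Int.cast_pow, ← Int.cast_one (R := ZMod (2 ^ w)), ZMod.intCast_eq_intCast_iff]
    conv_rhs => rhs; rw [← zpow_one (S.r i)]
    rw [zpow_eq_zpow_iff_modEq, hw]
  obtain ⟨v, hv⟩ := IsUnit.of_pow_eq_one ((hto (orderOf g)).mpr (by
    rw [pow_orderOf_eq_one, one_mul, inv_one, mul_one])) (orderOf_pos g).ne'
  obtain ⟨a, ha⟩ : ∃ a, Nat.totient (2 ^ w) = 2 ^ a := by
    rcases Nat.eq_zero_or_pos w with h | h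
    · exact ⟨0, by rw [h, pow_zero, Nat.totient_one]⟩
    · exact ⟨w - 1, by rw [Nat.totient_prime_pow Nat.prime_two h]; norm_num⟩
  have hgC : g ^ (2 ^ a) ∈ H := Subgroup.mem_sup_left (hmemC _ ((hto _).mp (by
    rw [← hv, ← Units.val_pow_eq_pow_val, ← ha, ZMod.pow_totient, Units.val_one])))
  have hgH : g ∈ H := by
    have h1 : (⟨g, hgT⟩ : blockT Q b) ^ (2 ^ a) ∈ H.subgroupOf (blockT Q b) := hgC
    have h2 : (⟨g, hgT⟩ : blockT Q b) ^ (H.relIndex (blockT Q b)) ∈ H.subgroupOf (blockT Q b) :=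
      Subgroup.pow_index_mem (H.subgroupOf (blockT Q b)) _
    rw [← QuotientGroup.eq_one_iff, QuotientGroup.mk_pow, ← orderOf_dvd_iff_pow_eq_one] at h1 h2
    have h3 := Nat.dvd_gcd h1 h2
    rw [Nat.Coprime.gcd_eq_one (Nat.Coprime.pow_left _
      ((Nat.prime_two.coprime_iff_not_dvd).mpr hidx)), Nat.dvd_one, orderOf_eq_one_iff,
      QuotientGroup.eq_one_iff] at h3
    exact h3
  have hset : H ≤ Subgroup.normalizer ({S.r i, S.r (S.s * i)} : Set G) := by
    refine sup_le (fun c hc => ?_) fun d hd => ?_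
    · refine Subgroup.centralizer_le_normalizer _ (Subgroup.centralizer_le ?_ hc)
      rintro z (rfl | rfl)
      · exact Subgroup.mem_zpowers _
      · show S.r (S.s * i) ∈ Q
        rcases S.conj_rot S.y_mem i with h | h
        · rw [← S.conj_r, h]; exact Subgroup.mem_zpowers _
        · rw [← h]
          exact (Subgroup.mem_normalizer_iff.mp (hDN S.y_mem) _).mp (Subgroup.mem_zpowers _)
    · have h2 : ∀ l : ZMod (2 * q), S.s * (S.s * l) = l := fun l => by
        rw [← mul_assoc, S.s_sq, one_mul]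
      have hfwd : ∀ d ∈ D, ∀ z ∈ ({S.r i, S.r (S.s * i)} : Set G),
          d * z * d⁻¹ ∈ ({S.r i, S.r (S.s * i)} : Set G) := by
        rintro d hd z (rfl | rfl)
        · exact (S.conj_rot hd i).imp id id
        · rcases S.conj_rot hd (S.s * i) with h | h
          · exact Or.inr h
          · exact Or.inl (by rw [h, h2])
      show ∀ z, z ∈ ({S.r i, S.r (S.s * i)} : Set G) ↔ d * z * d⁻¹ ∈ ({S.r i, S.r (S.s * i)} : Set G)
      intro z
      refine ⟨hfwd d hd z, fun h => ?_⟩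
      have := hfwd d⁻¹ (inv_mem hd) _ h
      rwa [show d⁻¹ * (d * z * d⁻¹) * d⁻¹⁻¹ = z by group] at this
  have hgset : ∀ z, z ∈ ({S.r i, S.r (S.s * i)} : Set G) ↔
      g * z * g⁻¹ ∈ ({S.r i, S.r (S.s * i)} : Set G) := hset hgH
  have hfin := (hgset (S.r i)).mp (Or.inl rfl)
  rw [hg] at hfin
  exact hfin.imp (fun h => S.r_inj h) fun h => S.r_inj h

end CfsgLib.Blocks.TameTwo
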