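import Cfsg.Agent.Lib.Blocks.TameTwo.RotData
import Cfsg.Agent.Lib.Blocks.TameTwo.Fusion
import Cfsg.Agent.Lib.Char.Artin

/-!
# The local blocks at the rotation of order four and at the central involution

At the rotation `x` of order four the local block is nilpotent with defect group the rotations, and
it has a member fixed by `y`; at the central involution of a dihedral group the local block is
nilpotent with defect group `D`.  Both give functions on the rotations.
-/

set_option autoImplicit false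
set_option linter.unusedSectionVars false

namespace CfsgLib.Blocks.TameTwo

open Cfsg
open scoped ComplexConjugate CfsgLib.Char

namespace Shape

variable {G : Type*} [Group G] [Finite G] {D : Subgroup G} {q : ℕ} (S : Shape D q)

/-- The index of a rotation of order four. -/
def xi (_S : Shape D q) : ZMod (2 * q) := ((q / 2 : ℕ) : ZMod (2 * q))

theorem xi_add_xi : S.xi + S.xi = (q : ZMod (2 * q)) := by
  obtain ⟨m, hm⟩ := S.two_dvd_q
  rw [xi, ← Nat.cast_add, show q / 2 + q / 2 = q by omega]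

theorem xi_ne_zero : S.xi ≠ 0 := fun h => S.half_ne_zero (by rw [← S.xi_add_xi, h, add_zero])

theorem xi_ne_half : S.xi ≠ (q : ZMod (2 * q)) := fun h =>
  S.half_ne_zero (by rw [← S.xi_add_xi, h, half_add_half])

/-- The rotation of order four. -/
def x : G := S.r S.xi

theorem x_mem : S.x ∈ D := S.r_mem _

theorem x_mul_x : S.x * S.x = S.z := by rw [x, ← S.r_add, S.xi_add_xi]; rfl

theorem orderOf_x : orderOf S.x = 4 := by
  rw [show (4 : ℕ) = 2 ^ (1 + 1) from rfl]
  refine orderOf_eq_prime_pow ?_ ?_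
  · rw [pow_one, sq, S.x_mul_x]
    exact S.z_ne_one
  · rw [show (2 : ℕ) ^ (1 + 1) = 2 * 2 from rfl, pow_mul, sq, sq, S.x_mul_x, S.z_sq]

/-- A rotation other than `1` and `z` generates a group containing `x`. -/
theorem x_mem_zpowers {i : ZMod (2 * q)} (h0 : i ≠ 0) (hh : i ≠ (q : ZMod (2 * q))) :
    S.x ∈ Subgroup.zpowers (S.r i) := by
  have := S.neZero
  obtain ⟨m, hm⟩ := S.exists_pow_orderOf (S.r_mem i)
  have hm2 : 2 ≤ m := by
    by_contra hlt
    have hdvd : orderOf (S.r i) ∣ 2 := by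
      rw [hm]; exact (pow_dvd_pow 2 (by omega : m ≤ 1)).trans (by norm_num)
    have h := orderOf_dvd_iff_pow_eq_one.mp hdvd
    rw [sq, ← S.r_add, S.r_eq_one_iff] at h
    rcases eq_half_of_add_self h with h | h
    exacts [h0 h, hh h]
  set n := 2 ^ (m - 2)
  have ho : orderOf (S.r i ^ n) = 4 := by
    rw [orderOf_pow' _ (pow_ne_zero _ two_ne_zero), hm,
      Nat.gcd_eq_right (pow_dvd_pow 2 (Nat.sub_le m 2)), Nat.pow_div (Nat.sub_le m 2) two_pos,
      show m - (m - 2) = 2 by omega]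
    rfl
  have h := S.zpowers_eq_of_orderOf (i := S.xi) (j := (n : ZMod (2 * q)) * i) (by
    rw [S.r_nsmul, ho]; exact S.orderOf_x)
  have hx : S.x ∈ Subgroup.zpowers (S.r ((n : ZMod (2 * q)) * i)) := h ▸ Subgroup.mem_zpowers _
  rw [S.r_nsmul] at hx
  exact (Subgroup.zpowers_le.mpr (Subgroup.npow_mem_zpowers _ _)) hx

theorem r_mem_cz_x (j : ZMod (2 * q)) : S.r j ∈ Subgroup.centralizer (Subgroup.zpowers S.x : Set G) :=
  Subgroup.mem_centralizer_iff.mpr fun h hh => by
    obtain ⟨m, rfl⟩ := Subgroup.mem_zpowers_iff.mp hh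
    exact ((show Commute S.x (S.r j) from S.r_comm S.xi j).zpow_left m).eq

theorem y_mem_normalizer_cz_x : S.y ∈ Subgroup.normalizer (Subgroup.zpowers S.x : Set G) :=
  S.mem_normalizer_rot S.y_mem S.xi

end Shape

theorem odd_orderOf_of_isPRegular {G : Type*} [Group G] {x : G} (h : IsPRegular 2 x) :
    Odd (orderOf x) :=
  Nat.not_even_iff_odd.mp fun he => h he.two_dvd

variable {M : Ideal AlgInt} [M.IsPrime] {G : Type*} [Group G] [Fintype G] {D : Subgroup G}
  {e : Set (IrrCharacter (Subgroup.centralizer (D : Set G)))} {B : Set (IrrCharacter G)} {q : ℕ}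

theorem card_inf_cz_x (S : Shape D q) : Nat.card ↥(D ⊓ cz S.x) = 2 * q := by
  have := S.neZero
  refine (Nat.card_congr (Equiv.subtypeEquivRight fun d => ?_)).trans
    ((Nat.card_range_of_injective S.r_inj).trans (Nat.card_zmod _))
  rw [Subgroup.mem_inf, mem_cz_iff, Shape.x, S.cent_r S.xi_ne_zero S.xi_ne_half]
  exact ⟨fun ⟨i, hi⟩ => ⟨i, hi.symm⟩, fun ⟨i, hi⟩ => ⟨i, hi.symm⟩⟩

theorem cz_r_le_cz_x (S : Shape D q) {i : ZMod (2 * q)} (h0 : i ≠ 0)
    (hh : i ≠ (q : ZMod (2 * q))) : cz (S.r i) ≤ cz S.x :=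
  Subgroup.centralizer_le (SetLike.coe_subset_coe.mpr (Subgroup.zpowers_le.mpr (S.x_mem_zpowers h0 hh)))

theorem exists_localPair_x (hM : IsPModular 2 M) (hmax : IsMaximalBrauerPair 2 M B D e)
    (S : Shape D q) [Fintype (cz S.x)] :
    ∃ b f, IsLocalPair 2 M D e S.x b f ∧ IsNilpotentBlock 2 M b := by
  have hord : ∀ u', IsConj S.x u' → orderOf u' = 4 := fun u' h => by
    obtain ⟨c, rfl⟩ := isConj_iff.mp h
    exact ((MulAut.conj c).orderOf_eq S.x).trans S.orderOf_x
  obtain ⟨b, f, hloc⟩ := exists_localPair hM hmax S.x_mem fun u' hu' hc => by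
    rw [card_inf_cz_x S, cz_eq u']
    exact (S.cent_order_four hu' (hord u' hc)).2
  refine ⟨b, f, hloc, isNilpotentBlock_local hM hmax hloc.le fun u' hu' hc T hT _ hcomm w hw hn _ => ?_⟩
  obtain ⟨⟨c, hcyc⟩, -⟩ := S.cent_order_four hu' (hord u' hc)
  exact Shape.fix_of_cyclic hT (fun z hz => hcyc z (hT hz) (hcomm z hz)) (odd_orderOf_of_isPRegular hw)
    hn S

/-- The local block at `x` has a member of height zero fixed by `y`. -/
theorem exists_fixed_base (hM : IsPModular 2 M) (hmax : IsMaximalBrauerPair 2 M B D e) (S : Shape D q)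
    [Fintype (cz S.x)] [Fintype ↥(locA D S.x)] {b : Set (IrrCharacter (cz S.x))}
    {f : Set (IrrCharacter (Subgroup.centralizer (locA D S.x : Set (cz S.x))))}
    (hloc : IsLocalPair 2 M D e S.x b f) (hnil : IsNilpotentBlock 2 M b) :
    ∃ χ₀ ∈ b, blockHeight 2 b (χ₀ : cz S.x → ℂ) = 0 ∧
      ∀ z : G, extendByZero (cz S.x) (χ₀ : cz S.x → ℂ) (S.y * z * S.y⁻¹) =
        extendByZero (cz S.x) (χ₀ : cz S.x → ℂ) z := by
  classical
  have hPe := hmax.1.1
  have hblock := hloc.isPBlock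
  have hK : ∀ g, S.y * g * S.y⁻¹ ∈ cz S.x ↔ g ∈ cz S.x :=
    conj_mem_iff_of_mem_normalizer (mem_normalizer_centralizer S.y_mem_normalizer_cz_x)
  -- `y` stabilizes the block
  have hstab : conjSet S.y (cz S.x) (cz S.x) b = b := by
    have h := subpairLE_conjPair S.y (hloc.le : PairLE 2 M ⟨Subgroup.zpowers S.x, b⟩ ⟨D, e⟩)
    rw [conjPair_top S.y_mem, conjPair_of_mem_normalizer S.y_mem_normalizer_cz_x] at h
    exact (existsUnique_subpair hM hPe (Subgroup.zpowers_le.mpr S.x_mem)).unique h hloc.le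
  set π : IrrCharacter (cz S.x) → IrrCharacter (cz S.x) := conjIrr hK
  have hπb : ∀ η ∈ b, π η ∈ b := fun η hη => hstab.subset (conjIrr_mem_conjSet hK hη)
  have hπv : ∀ (η : IrrCharacter (cz S.x)) (c : cz S.x),
      (π η : cz S.x → ℂ) ⟨S.y * c * S.y⁻¹, (hK c).mpr c.2⟩ = (η : cz S.x → ℂ) c :=
    fun η c => conjIrr_apply hK η rfl
  -- `y * y` is a rotation, so the action is an involution
  have hπ2 : ∀ η, π (π η) = η := fun η => Subtype.ext (funext fun c => by
    have hy : S.y * S.y ∈ cz S.x := by rw [S.y_sq]; exact S.r_mem_cz_x S.c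
    set d : cz S.x := ⟨S.y⁻¹ * (S.y⁻¹ * c * S.y) * S.y, by
      have h1 : S.y⁻¹ * c * S.y ∈ cz S.x := (hK _).mp (by simp [mul_assoc])
      exact (hK _).mp (by simpa [mul_assoc] using h1)⟩
    have e1 := hπv (π η) ⟨S.y * d * S.y⁻¹, (hK d).mpr d.2⟩
    rw [hπv η d] at e1
    have e2 : (π (π η) : cz S.x → ℂ) c = (η : cz S.x → ℂ) d := by
      rw [← e1]
      exact congrArg (π (π η) : cz S.x → ℂ) (Subtype.ext (by simp [d, mul_assoc]))
    rw [e2, show d = ⟨S.y * S.y, hy⟩⁻¹ * c * ⟨S.y * S.y, hy⟩ from Subtype.ext (by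
      simp [d, mul_assoc])]
    have := irr_classFunction η c ⟨S.y * S.y, hy⟩⁻¹
    rwa [inv_inv] at this)
  -- all members have the same values on the regular elements
  obtain ⟨χ₁, hχ₁, h₁⟩ := exists_blockHeight_eq_zero hM hblock
  obtain ⟨Ψ, hΨ⟩ := exists_nilImage hM hloc.max hnil hχ₁ h₁
  have hab : ∀ a a' : ↥(locA D S.x), a * a' = a' * a := by
    have hrot : ∀ a : ↥(locA D S.x), ∃ i, ((a : cz S.x) : G) = S.r i := fun a =>
      (S.cent_r S.xi_ne_zero S.xi_ne_half _).mp ⟨a.2, mem_cz_iff.mp (a : cz S.x).2⟩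
    intro a a'
    obtain ⟨i, hi⟩ := hrot a
    obtain ⟨j, hj⟩ := hrot a'
    refine Subtype.ext (Subtype.ext ?_)
    simp only [Subgroup.coe_mul, hi, hj, S.r_comm]
  have hreg : ∀ η ∈ b, ∀ g, IsPRegular 2 g → (η : cz S.x → ℂ) g = (χ₁ : cz S.x → ℂ) g := by
    intro η hη g hg
    obtain ⟨θ, rfl⟩ := hΨ.surj η hη
    rw [hΨ.regular θ g hg, Char.degree_one_of_comm hab θ, one_mul]
  have hht : ∀ η ∈ b, blockHeight 2 b (η : cz S.x → ℂ) = 0 := by
    intro η hη
    have hdeg : charDegree (η : cz S.x → ℂ) = charDegree (χ₁ : cz S.x → ℂ) := by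
      rw [charDegree, charDegree, hreg η hη 1 (by simp [IsPRegular])]
    rwa [blockHeight, hdeg]
  -- a member of height zero of `B` gives an odd number of constituents
  obtain ⟨χ, hχ, h0⟩ := exists_blockHeight_eq_zero hM hmax.1.2.1
  obtain ⟨s, hs, hunit⟩ := exists_res_unit_cz hM hχ h0
    (exists_pow_orderOf_mem hM hPe.1 ⟨S.x, S.x_mem⟩)
    ((SubpairLE.isBrauerPairOf_iff hM hloc.le hmax.1.2.1).mp hmax.1)
  choose m hm using fun η : IrrCharacter (cz S.x) => Char.exists_int_classInner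
    (Char.isGeneralized_of_isCharacter
      (Char.isCharacter_restrict (cz S.x) (Char.isCharacter_of_isIrr χ.2)))
    (Char.isGeneralized_of_isIrr η.2)
  have hmπ : ∀ η, m (π η) = m η := fun η => by
    have h : ((m (π η) : ℤ) : ℂ) = (m η : ℂ) := by
      rw [← hm, ← hm, classInner, classInner]
      congr 1
      refine (Fintype.sum_equiv (conjIso hK).toEquiv _ _ fun c => ?_).symm
      have e1 : (χ : G → ℂ) ((conjIso hK c : cz S.x) : G) = (χ : G → ℂ) c := by
        show (χ : G → ℂ) (S.y * c * S.y⁻¹) = _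
        exact irr_classFunction χ (c : G) S.y
      show _ = (χ : G → ℂ) ((conjIso hK c : cz S.x) : G) * conj ((π η : cz S.x → ℂ) (conjIso hK c))
      rw [e1, conjIrr_apply hK η (c := c) (c' := conjIso hK c) rfl]
    exact_mod_cast h
  set T := Finset.univ.filter fun η : IrrCharacter (cz S.x) => η ∈ b
  have hodd : ¬ (2 : ℤ) ∣ ∑ η ∈ T, m η := by
    intro h2
    refine hunit ?_
    rw [blockPart_eq_filter, Finset.sum_congr rfl (g := fun η => (m η : ℂ) * (χ₁ : cz S.x → ℂ) s)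
      fun η hη => by rw [hm η, hreg η (Finset.mem_filter.mp hη).2 s hs], ← Finset.sum_mul,
      ← Int.cast_sum]
    exact memLocalIdeal_mul_right ((memLocalIdeal_intCast_iff hM).mpr h2)
      (memLocalRing_of_isIntegral (irr_isIntegral χ₁.2 s))
  obtain ⟨η, hη, hfix⟩ : ∃ η ∈ T, π η = η := by
    by_contra hno
    push Not at hno
    refine hodd ?_
    have h : ∑ η ∈ T, ((m η : ℤ) : ZMod 2) = 0 :=
      Finset.sum_involution (fun η _ => π η) (fun η _ => by
          rw [hmπ]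
          exact (show ∀ a : ZMod 2, a + a = 0 by decide) _)
        (fun η hη _ => hno η hη)
        (fun η hη => Finset.mem_filter.mpr ⟨Finset.mem_univ _, hπb η (Finset.mem_filter.mp hη).2⟩)
        fun η _ => hπ2 η
    rw [← Int.cast_sum, ZMod.intCast_zmod_eq_zero_iff_dvd] at h
    exact_mod_cast h
  have hηb := (Finset.mem_filter.mp hη).2
  refine ⟨η, hηb, hht η hηb, fun z => ?_⟩
  by_cases hz : z ∈ cz S.x
  · rw [show extendByZero (cz S.x) (η : cz S.x → ℂ) z = (η : cz S.x → ℂ) ⟨z, hz⟩ from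
        extendByZero_apply _ _ ⟨z, hz⟩,
      show extendByZero (cz S.x) (η : cz S.x → ℂ) (S.y * z * S.y⁻¹) =
        (η : cz S.x → ℂ) ⟨_, (hK z).mpr hz⟩ from extendByZero_apply _ _ ⟨_, (hK z).mpr hz⟩]
    conv_lhs => rw [← hfix]
    exact hπv η ⟨z, hz⟩
  · rw [extendByZero_eq_zero _ _ hz, extendByZero_eq_zero _ _ fun h => hz ((hK z).mp h)]

variable [NeZero q]

/-- The functions on the rotations from the local block at `x`, with the local data. -/
theorem exists_rotData_x_local (hM : IsPModular 2 M) (hmax : IsMaximalBrauerPair 2 M B D e)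
    (S : Shape D q) [Fintype (cz S.x)] [Fintype ↥(locA D S.x)] :
    ∃ (b : Set (IrrCharacter (cz S.x)))
      (f : Set (IrrCharacter (Subgroup.centralizer (locA D S.x : Set (cz S.x)))))
      (χ₀ : IrrCharacter (cz S.x)) (Ψ : IrrCharacter ↥(locA D S.x) → IrrCharacter (cz S.x))
      (n : ↥B → ZMod (2 * q) → ℤ),
      IsLocalPair 2 M D e S.x b f ∧ IsNilImage 2 M (locA D S.x) f b χ₀ Ψ ∧ χ₀ ∈ b ∧
        RotData M e B S (fun χ => rotF S S.r_mem_cz_x Ψ ((χ : IrrCharacter G) : G → ℂ)) n := by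
  classical
  obtain ⟨b, f, hloc, hnil⟩ := exists_localPair_x hM hmax S
  obtain ⟨χ₀, hχ₀, h₀, hfix⟩ := exists_fixed_base hM hmax S hloc hnil
  obtain ⟨Ψ, hΨ⟩ := exists_nilImage hM hloc.max hnil hχ₀ h₀
  refine Exists.elim (exists_rotData hM hmax S.x_mem hloc hΨ hnil hχ₀ h₀ S S.r_mem_cz_x
    (fun r h0 hh => cz_r_le_cz_x S h0 hh) fun χ r => ?_) fun n hn => ⟨b, f, χ₀, Ψ, n, hloc, hΨ, hχ₀, hn⟩
  by_cases hr : r = 0 ∨ r = (q : ZMod (2 * q))
  · rw [S.s_mul_fix hr]
  push Not at hr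
  have hne : S.s * r ≠ 0 ∧ S.s * r ≠ (q : ZMod (2 * q)) := by
    constructor <;> intro h <;> have h' := congrArg (S.s * ·) h <;>
      simp only [← mul_assoc, S.s_sq, one_mul, mul_zero, S.s_mul_half] at h'
    exacts [hr.1 h', hr.2 h']
  have hw := irr_classFunction (χ : IrrCharacter G)
  rw [rotF, rotF, ← mixSum_base hM hloc hΨ hmax hnil hχ₀ h₀
      (w := rotHom S S.r_mem_cz_x (Multiplicative.ofAdd (S.s * r))) (cz_r_le_cz_x S hne.1 hne.2) hw,
    ← mixSum_base hM hloc hΨ hmax hnil hχ₀ h₀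
      (w := rotHom S S.r_mem_cz_x (Multiplicative.ofAdd r)) (cz_r_le_cz_x S hr.1 hr.2) hw]
  show mixSum 2 (topPair 2 M D e (S.r (S.s * r))) (S.r (S.s * r)) _ _ * centRatio D (S.r (S.s * r)) =
    mixSum 2 (topPair 2 M D e (S.r r)) (S.r r) _ _ * centRatio D (S.r r)
  have hcr := centRatio_conj (inv_mem S.y_mem) (S.r r)
  rw [inv_inv, S.conj_r] at hcr
  rw [hcr]
  congr 1
  obtain ⟨b', hb', hle⟩ := exists_topBlock hM hmax.1.1 (S.r_mem r)
  have hconj : conjPair S.y (topPair 2 M D e (S.r r)) = topPair 2 M D e (S.r (S.s * r)) := by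
    refine eq_topPair hM hmax.1.1 (S.r_mem _) ?_ ?_
    · show (topPair 2 M D e (S.r r)).1.map _ = _
      rw [topPair_fst, map_zpowers_conj, S.conj_r]
    · have h := subpairLE_conjPair S.y (topPair_le hM hmax.1.1 (S.r_mem r))
      rwa [conjPair_top S.y_mem] at h
  rw [← hconj, ← S.conj_r, mixSum_conj]
  have e1 : (fun z => ((χ : IrrCharacter G) : G → ℂ) (S.y * z * S.y⁻¹)) =
      ((χ : IrrCharacter G) : G → ℂ) := funext fun z => hw z S.y
  rw [e1, funext hfix]

/-- The functions on the rotations from the local block at `x`. -/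
theorem exists_rotData_x (hM : IsPModular 2 M) (hmax : IsMaximalBrauerPair 2 M B D e) (S : Shape D q) :
    ∃ F n, RotData M e B S F n := by
  classical
  obtain ⟨b, f, χ₀, Ψ, n, -, -, -, hn⟩ := exists_rotData_x_local hM hmax S
  exact ⟨_, n, hn⟩

/-- The local block at the central involution of a dihedral group. -/
theorem exists_localPair_z (hM : IsPModular 2 M) (hmax : IsMaximalBrauerPair 2 M B D e) (S : Shape D q)
    (hS : S.IsDih) [Fintype (cz S.z)] :
    ∃ b f, IsLocalPair 2 M D e S.z b f ∧ IsNilpotentBlock 2 M b := by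
  obtain ⟨b, f, hloc⟩ := exists_localPair hM hmax S.z_mem fun u' hu' _ =>
    Subgroup.card_le_of_le (fun d hd => ⟨hd.1, mem_cz_iff.mpr (S.z_commute hd.1)⟩)
  refine ⟨b, f, hloc, isNilpotentBlock_local hM hmax hloc.le fun u' hu' hc T hT huT _ w hw hn hwu => ?_⟩
  refine S.fix_of_dihedral hS hT huT ?_ (odd_orderOf_of_isPRegular hw) hn hwu
  rintro rfl
  obtain ⟨c, hc⟩ := isConj_iff.mp hc
  exact S.z_ne_one (conj_eq_one_iff.mp hc)

/-- The functions on the rotations from the local block at the central involution. -/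
theorem exists_rotData_z (hM : IsPModular 2 M) (hmax : IsMaximalBrauerPair 2 M B D e) (S : Shape D q)
    (hS : S.IsDih) :
    ∃ F n, RotData M e B S F n ∧ ∀ χ ψ : ↥B,
      pm 2 M (S.z, topPair 2 M D e S.z) (χ : IrrCharacter G) (ψ : IrrCharacter G) =
        F χ (q : ZMod (2 * q)) * conj (F ψ (q : ZMod (2 * q))) / ((4 * q : ℕ) : ℂ) := by
  classical
  obtain ⟨b, f, hloc, hnil⟩ := exists_localPair_z hM hmax S hS
  obtain ⟨χ₀, hχ₀, h₀⟩ := exists_blockHeight_eq_zero hM hloc.isPBlock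
  obtain ⟨Ψ, hΨ⟩ := exists_nilImage hM hloc.max hnil hχ₀ h₀
  have hrot : ∀ j, S.r j ∈ cz S.z := fun j => mem_cz_iff.mpr (S.r_comm j _)
  have hyz : S.y ∈ cz S.z := mem_cz_iff.mpr (S.z_commute S.y_mem)
  have hcz : ∀ r : ZMod (2 * q), r ≠ 0 → r ≠ (q : ZMod (2 * q)) → cz (S.r r) ≤ cz S.z :=
    fun r h0 hh => (cz_r_le_cz_x S h0 hh).trans (Subgroup.centralizer_le
      (SetLike.coe_subset_coe.mpr (Subgroup.zpowers_le.mpr (by
        rw [← S.x_mul_x]; exact mul_mem (Subgroup.mem_zpowers _) (Subgroup.mem_zpowers _)))))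
  obtain ⟨n, hn⟩ := exists_rotData hM hmax S.z_mem hloc hΨ hnil hχ₀ h₀ S hrot hcz fun χ r => by
    refine Finset.sum_congr rfl fun θ _ => congrArg _ ?_
    have e1 : rotHom (u := S.z) S hrot (Multiplicative.ofAdd (S.s * r)) =
        (⟨⟨S.y, hyz⟩, S.y_mem⟩ : ↥(locA D S.z)) * rotHom (u := S.z) S hrot (Multiplicative.ofAdd r) *
          (⟨⟨S.y, hyz⟩, S.y_mem⟩ : ↥(locA D S.z))⁻¹ :=
      Subtype.ext (Subtype.ext (S.conj_r r).symm)
    rw [e1]
    exact irr_classFunction θ _ _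
  refine ⟨_, n, hn, fun χ ψ => ?_⟩
  have hcard : Nat.card ↥(D ⊓ cz S.z) = 4 * q := by
    rw [inf_eq_left.mpr fun d hd => mem_cz_iff.mpr (S.z_commute hd)]
    let g : ZMod (2 * q) ⊕ ZMod (2 * q) → D := Sum.elim (fun j => ⟨S.r j, S.r_mem j⟩)
      fun j => ⟨S.r j * S.y, S.outer_mem j⟩
    have hg : Function.Bijective g := by
      constructor
      · rintro (i | i) (j | j) h <;> simp only [g, Sum.elim_inl, Sum.elim_inr, Subtype.mk.injEq] at h
        · rw [S.r_inj h]
        · exact absurd h.symm (S.outer_ne j i)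
        · exact absurd h (S.outer_ne i j)
        · rw [S.outer_inj h]
      · rintro ⟨d, hd⟩
        obtain ⟨j, rfl | rfl⟩ := S.cover d hd
        exacts [⟨Sum.inl j, rfl⟩, ⟨Sum.inr j, rfl⟩]
    rw [← Nat.card_eq_of_bijective g hg, Nat.card_sum, Nat.card_zmod]
    omega
  refine (pm_topPair hM hloc hΨ hmax hnil hχ₀ h₀
    (w := rotHom S hrot (Multiplicative.ofAdd (q : ZMod (2 * q)))) le_rfl
    (irr_classFunction (χ : IrrCharacter G)) (irr_classFunction (ψ : IrrCharacter G))).trans ?_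
  show _ / (Nat.card ↥(D ⊓ cz S.z) : ℂ) = _
  rw [hcard]
  rfl

end CfsgLib.Blocks.TameTwo
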