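import Cfsg.Agent.Lib.Blocks.TameTwo.Dihedral
import Cfsg.Agent.Lib.Blocks.CentralQuotientBlock
import Cfsg.Agent.Lib.Blocks.QuotientDefect
import Cfsg.Agent.Lib.Blocks.CardBound
import Cfsg.Agent.Lib.Blocks.CoreKernel

/-!
# The members trivial at a central involution

They are those of the dominated block of the quotient by the involution, whose defect group is
dihedral, or a four-group for the quaternion group of order eight.
-/

set_option autoImplicit false
set_option linter.unusedSectionVars false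

namespace CfsgLib.Blocks.TameTwo

open Cfsg
open scoped ComplexConjugate CfsgLib.Char

theorem mem_zpowers_cases {G : Type*} [Group G] {z u : G} (hz2 : z * z = 1)
    (h : u ∈ Subgroup.zpowers z) : u = 1 ∨ u = z := by
  obtain ⟨k, rfl⟩ := Subgroup.mem_zpowers_iff.mp h
  rcases Int.even_or_odd' k with ⟨m, rfl | rfl⟩
  · exact Or.inl (by rw [zpow_mul, zpow_two, hz2, one_zpow])
  · exact Or.inr (by rw [zpow_add, zpow_mul, zpow_two, hz2, one_zpow, one_mul, zpow_one])

namespace Shape

variable {G : Type*} [Group G] {D : Subgroup G} {q : ℕ} (S : Shape D q)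

theorem orderOf_z : orderOf S.z = 2 :=
  orderOf_eq_prime (by rw [sq, S.z_sq]) S.z_ne_one

variable {G' : Type*} [Group G'] (π : G →* G') (hker : π.ker = Subgroup.zpowers S.z)
include hker

theorem map_eq_one_iff {j : ZMod (2 * q)} :
    π (S.r j) = 1 ↔ j = 0 ∨ j = (q : ZMod (2 * q)) := by
  rw [← MonoidHom.mem_ker, hker]
  constructor
  · intro h
    rcases mem_zpowers_cases S.z_sq h with h | h
    · exact Or.inl (S.r_eq_one_iff.mp h)
    · exact Or.inr (S.r_inj h)
  · rintro (rfl | rfl)
    · rw [S.r_zero]; exact one_mem _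
    · exact Subgroup.mem_zpowers _

/-- The image of a subgroup containing the involution has half its order. -/
theorem card_map_eq [Finite G] {P : Subgroup G} (hz : S.z ∈ P) :
    Nat.card P = 2 * Nat.card (P.map π) := by
  have h := (π.subgroupMap P).ker.card_mul_index
  rw [Subgroup.index_ker, MonoidHom.range_eq_top.mpr (π.subgroupMap_surjective P),
    Nat.card_congr Subgroup.topEquiv.toEquiv] at h
  have hle : π.ker ≤ P := by rw [hker]; exact Subgroup.zpowers_le.mpr hz
  have e : Nat.card (π.subgroupMap P).ker = 2 := by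
    rw [← S.orderOf_z, ← Nat.card_zpowers, ← hker]
    exact Nat.card_congr ⟨fun t => ⟨(t.1 : G), congrArg Subtype.val t.2⟩,
      fun t => ⟨⟨t.1, hle t.2⟩, Subtype.ext t.2⟩, fun _ => rfl, fun _ => rfl⟩
  rw [← h, e]

/-- The image in the quotient by the involution is dihedral. -/
theorem exists_quotient [Finite G] [Finite G'] (hD : Nat.card D = 4 * q) (h4 : 4 ≤ q) :
    ∃ S' : Shape (D.map π) (q / 2), S'.IsDih := by
  obtain ⟨k, hk⟩ := S.two
  obtain ⟨k, rfl⟩ : ∃ l, k = l + 1 := ⟨k - 1, by
    rcases k with _ | k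
    · norm_num at hk; omega
    · rfl⟩
  have hq2 : q / 2 = 2 ^ (k + 1) := by rw [hk, pow_succ, Nat.mul_div_cancel _ two_pos]
  have hpow : ∀ m : ℕ, π (S.r 1) ^ m = π (S.r (m : ZMod (2 * q))) := fun m => by
    rw [← map_pow, ← S.r_nsmul, mul_one]
  have hqq : 2 * (q / 2) = q := by rw [hq2, hk, ← pow_succ']
  have hoa : orderOf (π (S.r 1)) = 2 * (q / 2) := by
    rw [hqq]
    refine (orderOf_eq_prime_pow (p := 2) (n := k + 1) ?_ ?_).trans hk.symm
    · rw [hpow, S.map_eq_one_iff π hker]
      rintro (h | h)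
      · rw [ZMod.natCast_eq_zero_iff] at h
        have := Nat.le_of_dvd (by positivity) h
        rw [hk, pow_succ] at this
        omega
      · rw [ZMod.natCast_eq_natCast_iff', Nat.mod_eq_of_lt (by rw [hk, pow_succ]; omega),
          Nat.mod_eq_of_lt (by omega), hk, pow_succ] at h
        have := Nat.one_le_two_pow (n := k + 1)
        omega
    · rw [hpow, S.map_eq_one_iff π hker, ← hk]
      exact Or.inr rfl
  have hs1 : S.s + 1 = 0 ∨ S.s + 1 = (q : ZMod (2 * q)) := by
    rcases S.kind with ⟨h, -⟩ | ⟨h, -⟩ | ⟨h, -, -⟩ <;> rw [h]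
    exacts [Or.inl (neg_add_cancel 1), Or.inl (neg_add_cancel 1), Or.inr (sub_add_cancel _ _)]
  obtain ⟨S', h1, h2⟩ := exists_of_generators (D := D.map π) (q := q / 2) ⟨k, hq2⟩
    (Subgroup.mem_map_of_mem π (S.r_mem 1)) (Subgroup.mem_map_of_mem π S.y_mem) hoa
    (fun h => by
      obtain ⟨m, hm⟩ := (mem_powers_iff_mem_zpowers.mpr h : π S.y ∈ Submonoid.powers (π (S.r 1)))
      have hm' : π (S.r (m : ZMod (2 * q))) = π S.y := (hpow m).symm.trans hm
      have hin : S.y * (S.r (m : ZMod (2 * q)))⁻¹ ∈ π.ker := by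
        rw [MonoidHom.mem_ker, map_mul, map_inv, hm', mul_inv_cancel]
      rw [hker] at hin
      rcases mem_zpowers_cases S.z_sq hin with h' | h'
      · exact S.y_ne _ (mul_inv_eq_one.mp h')
      · refine S.y_ne ((q : ZMod (2 * q)) + m) ?_
        rw [S.r_add]
        exact mul_inv_eq_iff_eq_mul.mp h')
    (by
      have := S.card_map_eq π hker (P := D) S.z_mem
      rw [hD] at this
      omega)
    (-1) 0
    (by
      rw [zpow_neg_one, ← map_inv, ← map_inv, ← map_mul, ← map_mul, S.conj_r, mul_one,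
        ← mul_inv_eq_one, ← map_inv, ← map_mul, inv_inv, ← S.r_add, S.map_eq_one_iff π hker]
      exact hs1)
    (by
      rw [zpow_zero, ← map_mul, S.y_sq, S.map_eq_one_iff π hker]
      rcases S.kind with ⟨-, h⟩ | ⟨-, h⟩ | ⟨-, h, -⟩
      exacts [Or.inl h, Or.inr h, Or.inl h])
    (Or.inl ⟨by simp, by simp⟩)
  exact ⟨S', by rw [h1]; simp, by rw [h2]; simp⟩

end Shape

variable {M : Ideal AlgInt} [M.IsPrime] {G : Type*} [Group G] [Fintype G] {D : Subgroup G}
  {e : Set (IrrCharacter (Subgroup.centralizer (D : Set G)))} {B : Set (IrrCharacter G)} {q : ℕ}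

/-- The members trivial at a central involution of the shape. -/
theorem quotient_count (hM : IsPModular 2 M) (hmax : IsMaximalBrauerPair 2 M B D e) (S : Shape D q)
    (hcent : ∀ g : G, Commute S.z g) :
    (∃ χ ∈ B, blockHeight 2 B (χ : G → ℂ) = 0 ∧ (χ : G → ℂ) S.z = (χ : G → ℂ) 1) ∧
      (q = 2 → Nat.card {χ : IrrCharacter G // χ ∈ B ∧ (χ : G → ℂ) S.z = (χ : G → ℂ) 1} ≤ 4) ∧
      (4 ≤ q →
        Nat.card {χ : IrrCharacter G // χ ∈ B ∧ (χ : G → ℂ) S.z = (χ : G → ℂ) 1} = q / 2 + 3) := by
  classical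
  have : Fact (Nat.Prime 2) := ⟨Nat.prime_two⟩
  have := S.neZero
  have hB := hmax.1.2.1
  set N := Subgroup.zpowers S.z with hN
  have : N.Normal := ⟨fun n hn g => by
    have hng : Commute n g := by
      rcases mem_zpowers_cases S.z_sq hn with rfl | rfl
      exacts [Commute.one_left g, hcent g]
    rwa [← hng.eq, mul_inv_cancel_right]⟩
  let : Fintype (G ⧸ N) := Fintype.ofFinite _
  set π := QuotientGroup.mk' N
  have hπ : Function.Surjective π := QuotientGroup.mk'_surjective N
  have hker : π.ker = Subgroup.zpowers S.z := QuotientGroup.ker_mk' N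
  have hkerc : Nat.card π.ker = 2 := by rw [hker, Nat.card_zpowers, S.orderOf_z]
  have hp : IsPGroup 2 π.ker := IsPGroup.of_card (n := 1) (by rw [hkerc, pow_one])
  have hc : ∀ k ∈ π.ker, ∀ g : G, Commute k g := fun k hk g => by
    rw [hker] at hk
    rcases mem_zpowers_cases S.z_sq hk with rfl | rfl
    exacts [Commute.one_left g, hcent g]
  have hpre := CentralQuot.isPBlock_pre π hπ hM hp hc hB
  set b := CentralQuot.pre π hπ B
  have hdefect : blockDefect 2 B = blockDefect 2 b + 1 := by
    have h := CentralQuot.blockDefect_pre π hπ hM hp hc hB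
    rwa [hkerc, Nat.prime_two.factorization_self] at h
  have hDg := isDefectGroup_of_maximal hM hmax
  have hcard : 4 * q = 2 ^ blockDefect 2 B :=
    S.card_eq.symm.trans (IsDefectGroup.card_eq hM hB hDg)
  have hcount : Nat.card b =
      Nat.card {χ : IrrCharacter G // χ ∈ B ∧ (χ : G → ℂ) S.z = (χ : G → ℂ) 1} := by
    refine Nat.card_eq_of_bijective (fun η => ⟨inflate π hπ η.1, η.2, ?_⟩) ⟨?_, ?_⟩
    · show (η.1 : G ⧸ N → ℂ) (π S.z) = (η.1 : G ⧸ N → ℂ) (π 1)
      rw [show π S.z = 1 from MonoidHom.mem_ker.mp (by rw [hker]; exact Subgroup.mem_zpowers _),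
        map_one]
    · exact fun η η' h => Subtype.ext (inflate_injective π hπ (congrArg Subtype.val h))
    · rintro ⟨χ, hχ, hz⟩
      obtain ⟨η, rfl⟩ := exists_inflate_eq_of_ker N χ fun u hu => by
        rcases mem_zpowers_cases S.z_sq hu with rfl | rfl
        exacts [rfl, hz]
      exact ⟨⟨η, hχ⟩, rfl⟩
  refine ⟨?_, fun h2 => ?_, fun h4 => ?_⟩
  · obtain ⟨η, hη, h0⟩ := exists_blockHeight_eq_zero hM hpre
    refine ⟨inflate π hπ η, hη, ?_, ?_⟩
    · have h1 := degree_exponent_eq hM hB (χ := inflate π hπ η) hη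
      have h1' := degree_exponent_eq hM hpre hη
      have hdeg : charDegree (inflate π hπ η : G → ℂ) = charDegree (η : G ⧸ N → ℂ) := by
        show ⌊((η : G ⧸ N → ℂ) (π 1)).re⌋₊ = _
        rw [map_one]; rfl
      have hG : (Nat.card G).factorization 2 = (Nat.card (G ⧸ N)).factorization 2 + 1 := by
        rw [Subgroup.card_eq_card_quotient_mul_card_subgroup N,
          Nat.factorization_mul Nat.card_pos.ne' Nat.card_pos.ne', Finsupp.add_apply, hN,
          Nat.card_zpowers, S.orderOf_z, Nat.prime_two.factorization_self]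
      rw [hdeg, h1', h0, hdefect, hG] at h1
      omega
    · show (η : G ⧸ N → ℂ) (π S.z) = (η : G ⧸ N → ℂ) (π 1)
      rw [show π S.z = 1 from MonoidHom.mem_ker.mp (by rw [hker]; exact Subgroup.mem_zpowers _),
        map_one]
  · rw [← hcount]
    have hd : blockDefect 2 b = 2 := by
      have : blockDefect 2 B = 3 :=
        Nat.pow_right_injective le_rfl (show 2 ^ blockDefect 2 B = 2 ^ 3 by rw [← hcard, h2])
      omega
    exact (card_block_le hM 2 (G ⧸ N) b hpre hd).1 le_rfl
  · rw [← hcount]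
    obtain ⟨η, hη⟩ := IsPBlock.nonempty hpre
    obtain ⟨g, P, -, hP, hu, hsyl⟩ := exists_defectClass_image hM N hB η hη
    obtain ⟨D', hD'⟩ := exists_isDefectGroup hM hpre
    obtain ⟨y, hgy, hy⟩ := IsDefectGroup.exists_isConj_centralizing hM hpre hD' hη hu
    obtain ⟨x, hx⟩ := IsSylowCent.exists_conj_le_of_isConj hsyl hgy
      (IsDefectGroup.isPGroup hM hD') hy
    have hzP : S.z ∈ P := IsDefectGroup.normal_le hM hB hP N
      (IsPGroup.of_card (n := 1) (by rw [hN, Nat.card_zpowers, S.orderOf_z, pow_one]))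
      (Subgroup.mem_zpowers _)
    have hxeq : D' = (P.map π).map (MulAut.conj x).toMonoidHom := by
      refine Subgroup.eq_of_le_of_card_ge hx ?_
      rw [card_map_conj, IsDefectGroup.card_eq hM hpre hD']
      have := S.card_map_eq π hker hzP
      rw [IsDefectGroup.card_eq hM hB hP, hdefect, pow_succ] at this
      omega
    obtain ⟨c, hcD⟩ := IsDefectGroup.exists_conj_eq hM hB hP hDg
    have hDbar : IsDefectGroup 2 M b (D.map π) := by
      have h := IsDefectGroup.conj hM hD' (π c * x⁻¹)
      rwa [hxeq, Subgroup.map_map, show ((MulAut.conj (π c * x⁻¹)).toMonoidHom.comp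
          (MulAut.conj x).toMonoidHom) = (MulAut.conj (π c)).toMonoidHom from MonoidHom.ext fun t => by
            simp [mul_assoc],
        ← map_conj_mk, ← hcD] at h
    obtain ⟨e', he'⟩ := exists_pair_of_defectGroup hM hpre hDbar
    obtain ⟨S', hS'⟩ := S.exists_quotient π hker S.card_eq h4
    exact (dihedral_invariants hM (isMaximalBrauerPair_of_defectGroup hM hDbar he') S' hS').1

end CfsgLib.Blocks.TameTwo
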