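import Cfsg.Agent.Lib.Blocks.TameTwo.Sign
import Cfsg.Agent.Lib.Blocks.TameTwo.Quotient

/-!
# The rank and the other classes when the involution is central

The signs at the central involution sum to one more than the number of other classes, and the
members with sign one are those of the quotient block.
-/

set_option autoImplicit false
set_option linter.unusedSectionVars false

namespace CfsgLib.Blocks.TameTwo

open Cfsg
open scoped ComplexConjugate CfsgLib.Char

namespace Shape

variable {G : Type*} [Group G] {D : Subgroup G} {q : ℕ} (S : Shape D q)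

theorem s_mul_xi [Finite G] : S.s * S.xi = S.xi + (q : ZMod (2 * q)) := by
  have h2 := S.xi_add_xi
  have h0 := half_add_half (q := q)
  rcases S.kind with ⟨h, -⟩ | ⟨h, -⟩ | ⟨h, -, h4⟩ <;> rw [h]
  · linear_combination -h2 - h0
  · linear_combination -h2 - h0
  · have e : (q : ZMod (2 * q)) * S.xi = 0 := by
      obtain ⟨k, hk⟩ := S.two
      rw [xi, ← Nat.cast_mul, ZMod.natCast_eq_zero_iff, mul_comm 2 q]
      refine Nat.mul_dvd_mul_left q ⟨q / 4, ?_⟩
      rcases k with _ | k
      · norm_num at hk; omega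
      · rw [pow_succ, pow_succ] at hk; omega
    linear_combination e - h2 - h0

/-- The rotations sent to their translates by `z`. -/
theorem s_mul_eq_translate_iff [Finite G] [NeZero q] {r : ZMod (2 * q)} :
    S.s * r = r + (q : ZMod (2 * q)) ↔ r = S.xi ∨ r = S.xi + (q : ZMod (2 * q)) := by
  constructor
  · intro h
    have h' : S.s * (r - S.xi) = r - S.xi := by linear_combination h - S.s_mul_xi
    rcases S.s_fix h' with h'' | h''
    · exact Or.inl (sub_eq_zero.mp h'')
    · exact Or.inr (by linear_combination h'')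
  · rintro (rfl | rfl)
    · exact S.s_mul_xi
    · rw [mul_add, S.s_mul_xi, S.s_mul_half]

end Shape

variable {M : Ideal AlgInt} [M.IsPrime] {G : Type*} [Group G] [Fintype G] {D : Subgroup G}
  {e : Set (IrrCharacter (Subgroup.centralizer (D : Set G)))} {B : Set (IrrCharacter G)} {q : ℕ}

/-- The rank and the number of other classes add up to three. -/
theorem central_sum [NeZero q] (hM : IsPModular 2 M) (hmax : IsMaximalBrauerPair 2 M B D e)
    (S : Shape D q) (hcent : ∀ g : G, Commute S.z g) :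
    blockRank 2 B + (outerReps M e S).card = 3 := by
  classical
  have : Fintype ↥B := Fintype.ofFinite _
  have : Fintype (cz S.x) := Fintype.ofFinite _
  have : Fintype ↥(locA D S.x) := Fintype.ofFinite _
  have hB := hmax.1.2.1
  have hq0 : (q : ℂ) ≠ 0 := Nat.cast_ne_zero.mpr (NeZero.ne q)
  obtain ⟨b, f, χ₀, Ψ, n, hloc, hΨ, hχ₀, hd⟩ := exists_rotData_x_local hM hmax S
  obtain ⟨T, hTq, hTh, hTl, hTlz, hTM, hTZ, hTG, hTa, hTo⟩ := exists_table hd hM hmax
  obtain ⟨μ, hμ, htrans⟩ := exists_rotF_translate hM hloc hΨ hχ₀ hcent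
  choose ε hε hεv using fun χ : ↥B => exists_sign hcent S.z_sq (χ : IrrCharacter G)
  set F : ↥B → ZMod (2 * q) → ℂ := fun χ => rotF S S.r_mem_cz_x Ψ ((χ : IrrCharacter G) : G → ℂ)
  have hF : ∀ χ r, F χ (r + (q : ZMod (2 * q))) = ((μ * ε χ : ℤ) : ℂ) * F χ r := fun χ r =>
    htrans _ _ (hεv χ) r
  -- the projections at `1` and at `z`
  set P : ↥B → ↥B → ℂ := fun χ ψ =>
    pm 2 M (pt M D e (1 : G)) ((χ : IrrCharacter G) : G → ℂ) ((ψ : IrrCharacter G) : G → ℂ) with hP
  have hPz : ∀ χ ψ : ↥B, pm 2 M (pt M D e S.z) ((χ : IrrCharacter G) : G → ℂ)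
      ((ψ : IrrCharacter G) : G → ℂ) = ((ε χ : ℂ) * (ε ψ : ℂ)) * P χ ψ := by
    intro χ ψ
    simp only [hP, pt]
    rw [pm_central hM hmax S.z_mem hcent χ.2 ψ.2,
      pm_central hM hmax (one_mem D) (fun g => Commute.one_left g) χ.2 ψ.2,
      mul_left_comm ((ε χ : ℂ) * (ε ψ : ℂ))]
    congr 1
    rw [Finset.mul_sum]
    refine Finset.sum_congr rfl fun g _ => ?_
    rw [(hcent g).eq, hεv, hεv, one_mul, map_mul, map_intCast]
    ring
  have hR := isReps_repsFun hM hmax S
  let i1 : ↥S.rotK ⊕ ↥(outerReps M e S) := Sum.inl ⟨0, Finset.mem_insert_self _ _⟩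
  let iz : ↥S.rotK ⊕ ↥(outerReps M e S) :=
    Sum.inl ⟨(q : ZMod (2 * q)), Finset.mem_insert_of_mem (Finset.mem_insert_self _ _)⟩
  have hi1 : repsFun M e S i1 = pt M D e (1 : G) := by
    simp only [i1, repsFun, Sum.elim_inl, S.r_zero]
  have hiz : repsFun M e S iz = pt M D e S.z := rfl
  have hne : i1 ≠ iz := fun h => S.half_ne_zero (congrArg Subtype.val (Sum.inl.inj h)).symm
  have hPEP : ∀ χ : ↥B, ∑ φ, (ε φ : ℂ) * (P χ φ * P φ χ) = 0 := by
    intro χ
    have h := pm_mul hM hB hR i1 iz χ χ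
    rw [if_neg hne, hi1, hiz] at h
    simp only [hPz] at h
    have h' : (ε χ : ℂ) * ∑ φ, (ε φ : ℂ) * (P χ φ * P φ χ) = 0 := by
      rw [Finset.mul_sum, ← h]
      exact Finset.sum_congr rfl fun φ _ => by simp only [hP]; ring
    exact (mul_eq_zero.mp h').resolve_left (by rcases hε χ with h | h <;> rw [h] <;> norm_num)
  have htr : ∑ χ, (ε χ : ℂ) * P χ χ = 0 := by
    calc ∑ χ, (ε χ : ℂ) * P χ χ = ∑ χ, ∑ φ, (ε χ : ℂ) * (P φ χ * P χ φ) :=
        Finset.sum_congr rfl fun χ _ => by
          have h := pm_mul hM hB hR i1 i1 χ χ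
          rw [if_pos rfl, hi1] at h
          rw [← Finset.mul_sum]
          congr 1
          exact h.symm.trans (Finset.sum_congr rfl fun φ _ => mul_comm _ _)
      _ = ∑ φ, ∑ χ, (ε χ : ℂ) * (P φ χ * P χ φ) := Finset.sum_comm
      _ = 0 := Finset.sum_eq_zero fun φ _ => hPEP φ
  have hZM : ∀ χ, T.Z χ χ = T.M χ χ := fun χ => by
    have h : (T.Z χ χ : ℂ) = (T.M χ χ : ℂ) := by
      rw [hTM, hTZ, hPz, cast_sign_mul_self (hε χ), one_mul]
    exact_mod_cast h
  have hsM : ∑ χ, ε χ * T.M χ χ = 0 := by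
    have h : ((∑ χ, ε χ * T.M χ χ : ℤ) : ℂ) = 0 := by
      push_cast
      rw [Finset.sum_congr rfl (g := fun χ => 4 * (q : ℂ) * ((ε χ : ℂ) * P χ χ)) fun χ _ => by
        rw [hTM]; simp only [hP]; ring, ← Finset.mul_sum, htr, mul_zero]
    exact_mod_cast h
  have hll : T.lz = T.l := by
    have h := T.majorZ.trace
    rw [Finset.sum_congr rfl fun χ _ => hZM χ, T.majorM.trace] at h
    have h2 : (T.l : ℤ) = T.lz :=
      mul_left_cancel₀ (mul_ne_zero (by norm_num) (by have := T.two_le; omega)) h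
    exact_mod_cast h2.symm
  -- the sign on the members of height zero
  have hεμ : ∀ χ, T.h χ = 0 → μ * ε χ = 1 := by
    intro χ hχ
    set O := Finset.univ.filter fun x : ZMod (2 * q) => ¬ Shape.par x = 0 with hO
    have hsum : ∑ x ∈ O, F χ (x + (q : ZMod (2 * q))) = ∑ x ∈ O, F χ x :=
      Finset.sum_equiv (Equiv.addRight (q : ZMod (2 * q))) (fun x => by
        simp only [hO, Finset.mem_filter, Finset.mem_univ, true_and, Equiv.coe_addRight]
        rw [show Shape.par (x + (q : ZMod (2 * q))) = Shape.par x by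
          have hp := S.par_half
          simp only [Shape.par, map_add] at hp ⊢
          rw [hp, add_zero]]) fun x _ => rfl
    rw [Finset.sum_congr rfl fun x _ => hF χ x, ← Finset.mul_sum, ← coeff_diff (hd.expand χ)] at hsum
    have ha : (n χ 0 : ℂ) - (n χ (q : ZMod (2 * q)) : ℂ) ≠ 0 := by
      intro h
      have h' : (pattern S).a (n χ) = 0 := by
        show n χ 0 - n χ (q : ZMod (2 * q)) = 0
        exact_mod_cast h
      have := T.odd_a χ hχ
      rw [hTa, h'] at this
      exact absurd this (by decide)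
    have h1 : ((μ * ε χ : ℤ) : ℂ) = ((1 : ℤ) : ℂ) := mul_right_cancel₀ (mul_ne_zero hq0 ha)
      (by rw [hsum, Int.cast_one, one_mul])
    exact_mod_cast h1
  obtain ⟨hwit, hle4, hquot⟩ := quotient_count hM hmax S hcent
  have hεone : ∀ χ, ε χ = 1 ↔
      ((χ : IrrCharacter G) : G → ℂ) S.z = ((χ : IrrCharacter G) : G → ℂ) 1 := fun χ => by
    have h1 := hεv χ 1
    rw [one_mul] at h1
    rw [h1]
    refine ⟨fun h => by rw [h]; simp, fun h => ?_⟩
    have h2 : ((ε χ : ℤ) : ℂ) = ((1 : ℤ) : ℂ) :=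
      mul_right_cancel₀ (Char.irr_degree_ne_zero (χ : IrrCharacter G).2) (by simpa using h)
    exact_mod_cast h2
  have hμ1 : μ = 1 := by
    obtain ⟨χ, hχ, h0, hz⟩ := hwit
    have h := hεμ ⟨χ, hχ⟩ (by rw [hTh]; exact h0)
    rwa [(hεone ⟨χ, hχ⟩).mpr hz, mul_one] at h
  subst hμ1
  have hε0 : ∀ χ, T.h χ = 0 → ε χ = 1 := fun χ h => by
    have := hεμ χ h
    rwa [one_mul] at this
  -- the signs against the rotations
  have hsG : ∑ χ, ε χ * T.G χ = 4 * (q : ℤ) := by
    set Adm := Finset.univ.filter fun r : ZMod (2 * q) => r ≠ 0 ∧ r ≠ (q : ZMod (2 * q)) with hAdm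
    have h : ((∑ χ, ε χ * T.G χ : ℤ) : ℂ) = ((4 * (q : ℤ) : ℤ) : ℂ) := by
      rw [Int.cast_sum]
      calc ∑ χ, ((ε χ * T.G χ : ℤ) : ℂ)
          = ∑ χ, ∑ r ∈ Adm, F χ (r + (q : ZMod (2 * q))) * conj (F χ r) :=
            Finset.sum_congr rfl fun χ _ => by
              rw [hTG, Int.cast_mul, ← sum_normSq_rot (hd.expand χ) S, Finset.mul_sum]
              refine Finset.sum_congr rfl fun r _ => ?_
              rw [hF χ r, one_mul, mul_assoc]
        _ = ∑ r ∈ Adm, if r = S.xi ∨ r = S.xi + (q : ZMod (2 * q)) then ((2 * q : ℕ) : ℂ) else 0 := by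
            rw [Finset.sum_comm]
            refine Finset.sum_congr rfl fun r hr => ?_
            obtain ⟨h0, hh⟩ := (Finset.mem_filter.mp hr).2
            rw [hd.sum_mul hM hmax h0 hh
              (fun h => hh (by linear_combination h - Shape.half_add_half (q := q)))
              (fun h => h0 (by linear_combination h))]
            refine if_congr ?_ rfl rfl
            rw [← S.s_mul_eq_translate_iff]
            exact ⟨fun h => h.elim (fun h => absurd (by linear_combination h) S.half_ne_zero) Eq.symm,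
              fun h => Or.inr h.symm⟩
        _ = _ := by
            rw [← Finset.sum_filter, show Adm.filter (fun r => r = S.xi ∨
                r = S.xi + (q : ZMod (2 * q))) = {S.xi, S.xi + (q : ZMod (2 * q))} from ?_,
              Finset.sum_pair fun h => S.half_ne_zero (by linear_combination -h)]
            · push_cast; ring
            · ext r
              simp only [hAdm, Finset.mem_filter, Finset.mem_univ, true_and, Finset.mem_insert,
                Finset.mem_singleton]
              refine ⟨fun h => h.2, fun h => ⟨?_, h⟩⟩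
              rcases h with rfl | rfl
              · exact ⟨S.xi_ne_zero, S.xi_ne_half⟩
              · exact ⟨fun h => S.xi_ne_half (by linear_combination h - Shape.half_add_half (q := q)),
                  fun h => S.xi_ne_zero (by linear_combination h)⟩
    exact_mod_cast h
  -- the sum of the signs
  have hout : ∀ χ, ε χ * T.out χ = T.out χ := fun χ => by
    by_cases h : T.h χ = 0
    · rw [hε0 χ h, one_mul]
    · rw [T.out_eq.2 χ h, mul_zero]
  have hsum : ∑ χ, ε χ = 1 + (T.o : ℤ) := by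
    refine mul_left_cancel₀ (show (4 * (q : ℤ)) ≠ 0 by
      have := S.two_le
      omega) ?_
    rw [Finset.mul_sum, Finset.sum_congr rfl (g := fun χ =>
      ε χ * T.M χ χ + ε χ * T.M χ χ + ε χ * T.G χ + (q : ℤ) * (ε χ * T.out χ)) fun χ _ => by
        have hdg := T.diag χ
        rw [hZM, hTq] at hdg
        rw [← hdg]; ring]
    simp only [Finset.sum_add_distrib, ← Finset.mul_sum, hsM, hsG, hout, T.sum_out]
    ring
  set N := Finset.univ.filter fun χ : ↥B => ε χ = 1 with hN
  have hNsum : ∑ χ, ε χ = 2 * (N.card : ℤ) - Fintype.card ↥B := by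
    rw [Finset.sum_congr rfl (g := fun χ => 2 * (if ε χ = 1 then (1 : ℤ) else 0) - 1) fun χ _ => by
      rcases hε χ with h | h <;> rw [h] <;> norm_num, Finset.sum_sub_distrib, ← Finset.mul_sum,
      Finset.sum_boole, Finset.sum_const, nsmul_one, Finset.card_univ]
  have hNq : N.card =
      Nat.card {χ : IrrCharacter G // χ ∈ B ∧ (χ : G → ℂ) S.z = (χ : G → ℂ) 1} := by
    rw [hN, ← Fintype.card_subtype, ← Nat.card_eq_fintype_card]
    exact Nat.card_congr ((Equiv.subtypeEquivRight hεone).trans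
      (Equiv.subtypeSubtypeEquivSubtypeInter (fun χ : IrrCharacter G => χ ∈ B)
        fun χ => (χ : G → ℂ) S.z = (χ : G → ℂ) 1))
  have hk := T.card_eq_ranks
  rw [hll, hTq, hTl, hTo] at hk
  rw [hTo] at hsum
  have hN6 : 2 * N.card = q + 6 := by
    obtain ⟨k, hq⟩ := S.two
    rcases k with _ | k
    · have h4 : 4 ≤ N.card := T.card_Z0.1 ▸ Finset.card_le_card fun χ hχ =>
        Finset.mem_filter.mpr ⟨Finset.mem_univ _, hε0 χ (T.mem_Z0.mp hχ)⟩
      have := hle4 hq
      rw [← hNq] at this
      norm_num at hq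
      omega
    · have h4 : 4 ≤ q := by
        rw [hq, pow_succ, pow_succ]
        have := Nat.one_le_two_pow (n := k)
        omega
      have := hquot h4
      have h2 : 2 ∣ q := S.two_dvd_q
      omega
  omega

end CfsgLib.Blocks.TameTwo
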