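import Cfsg.Agent.Lib.Blocks.PairVal
import Cfsg.Agent.Lib.Blocks.SubsectionBound
import Cfsg.Agent.Lib.Blocks.SectionOrth

/-!
# The projections of the subsections of a block

For a `p`-element `v` and a pair `a` of the block on `⟨v⟩` the matrix `pm (v, a)` of the scalar
products of the parts of the members of the block is a projection; over representatives of the
classes of these pairs the projections are orthogonal and add up to the identity.
-/

set_option autoImplicit false
set_option linter.unusedSectionVars false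

namespace CfsgLib.Blocks.TameTwo

open Cfsg
open CfsgLib.GrpRing
open scoped ComplexConjugate CfsgLib.Char

/-- Gram matrices adding up to the identity whose diagonal squares are the diagonals are
orthogonal projections. -/
theorem gram_projections {X ι S : Type*} [Fintype X] [DecidableEq X] [Fintype ι] [DecidableEq ι]
    [Fintype S] (f : ι → X → S → ℂ) (c : ι → ℝ) (hc : ∀ i, 0 < c i) (P : ι → X → X → ℂ)
    (hP : ∀ i x y, P i x y = (c i : ℂ) * ∑ r, f i x r * conj (f i y r))
    (hsum : ∀ x y, ∑ i, P i x y = if x = y then 1 else 0)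
    (hdiag : ∀ i x, ∑ y, P i x y * P i y x = P i x x) (i j : ι) (x z : X) :
    ∑ y, P i x y * P j y z = if i = j then P i x z else 0 := by
  classical
  set T : ι → ι → ℂ := fun i j => ∑ x, ∑ y, P i x y * P j y x with hT
  set A : ι → ι → S → S → ℂ := fun i j r s => ∑ x, f i x r * conj (f j x s) with hA
  have hTA : ∀ i j, T i j = ((c i * c j * ∑ r, ∑ s, Complex.normSq (A i j r s) : ℝ) : ℂ) := by
    intro i j
    simp only [hT, hP, Finset.mul_sum, Finset.sum_mul]
    push_cast
    simp only [← Complex.mul_conj, hA, map_sum, map_mul, Complex.conj_conj, Finset.mul_sum,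
      Finset.sum_mul]
    rw [Finset.sum_congr rfl fun x _ => Finset.sum_congr rfl fun y _ => Finset.sum_comm]
    rw [Finset.sum_congr rfl fun x _ => Finset.sum_comm]
    rw [Finset.sum_comm]
    refine Finset.sum_congr rfl fun r _ => ?_
    rw [Finset.sum_congr rfl fun x _ => Finset.sum_comm]
    rw [Finset.sum_comm]
    refine Finset.sum_congr rfl fun s _ => ?_
    rw [Finset.sum_comm]
    exact Finset.sum_congr rfl fun x _ => Finset.sum_congr rfl fun y _ => by ring
  have hrow : ∀ i, ∑ j, T i j = T i i := fun i => by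
    simp only [hT]
    rw [Finset.sum_comm]
    refine Finset.sum_congr rfl fun x _ => ?_
    rw [Finset.sum_comm, hdiag i x, Finset.sum_congr rfl fun y _ => by rw [← Finset.mul_sum, hsum y x]]
    simp
  have hzero : ∀ i j, i ≠ j → ∀ r s, A i j r s = 0 := by
    intro i j hij r s
    have h := hrow i
    simp only [hTA, ← Complex.ofReal_sum, Complex.ofReal_inj] at h
    rw [← Finset.sum_erase_add _ _ (Finset.mem_univ i), add_eq_right] at h
    have hnn : ∀ j, 0 ≤ c i * c j * ∑ r, ∑ s, Complex.normSq (A i j r s) := fun j =>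
      mul_nonneg (mul_nonneg (hc i).le (hc j).le)
        (Finset.sum_nonneg fun _ _ => Finset.sum_nonneg fun _ _ => Complex.normSq_nonneg _)
    have h1 := (Finset.sum_eq_zero_iff_of_nonneg fun j _ => hnn j).mp h j
      (Finset.mem_erase.mpr ⟨hij.symm, Finset.mem_univ _⟩)
    have h2 := (mul_eq_zero.mp h1).resolve_left (mul_pos (hc i) (hc j)).ne'
    rw [Finset.sum_eq_zero_iff_of_nonneg
      fun _ _ => Finset.sum_nonneg fun _ _ => Complex.normSq_nonneg _] at h2
    exact Complex.normSq_eq_zero.mp ((Finset.sum_eq_zero_iff_of_nonneg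
      fun _ _ => Complex.normSq_nonneg _).mp (h2 r (Finset.mem_univ r)) s (Finset.mem_univ s))
  have horth : ∀ i j, i ≠ j → ∀ x z, ∑ y, P i x y * P j y z = 0 := by
    intro i j hij x z
    have h : ∀ r s, ∑ y, conj (f i y r) * f j y s = 0 := fun r s => by
      have := congrArg conj (hzero i j hij r s)
      simpa [hA, map_sum] using this
    simp only [hP, Finset.mul_sum, Finset.sum_mul]
    rw [Finset.sum_comm]
    refine Finset.sum_eq_zero fun r _ => ?_
    rw [Finset.sum_comm]
    refine Finset.sum_eq_zero fun s _ => ?_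
    rw [Finset.sum_congr rfl (g := fun y => ((c i : ℂ) * c j * f i x s * conj (f j z r)) *
      (conj (f i y s) * f j y r)) fun y _ => by ring, ← Finset.mul_sum, h, mul_zero]
  split_ifs with hij
  · subst hij
    rw [← Finset.sum_eq_single (f := fun k => ∑ y, P i x y * P k y z) i
      (fun k _ hk => horth i k hk.symm x z) (fun h => absurd (Finset.mem_univ i) h), Finset.sum_comm,
      Finset.sum_congr rfl fun y _ => by rw [← Finset.mul_sum, hsum y z]]
    simp
  · exact horth i j hij x z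

variable {p : ℕ} {M : Ideal AlgInt} [M.IsPrime] {G : Type*} [Group G] [Fintype G]

variable (p M) in
/-- The scalar products of the parts at a pair. -/
noncomputable def pm (i : G × BrauerPairIdx G) (χ ψ : G → ℂ) : ℂ :=
  (Nat.card (cz i.1) : ℂ)⁻¹ * pairSum p M χ ψ i.1 i.2

variable (p M) in
/-- A `p`-element with a pair of the block on the group it generates. -/
def IsBPt (B : Set (IrrCharacter G)) (i : G × BrauerPairIdx G) : Prop :=
  (∃ k : ℕ, orderOf i.1 = p ^ k) ∧ i.2.1 = Subgroup.zpowers i.1 ∧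
    IsBrauerPairOf p M B i.2.1 i.2.2

/-- Conjugacy of such pairs. -/
def PtConj (i j : G × BrauerPairIdx G) : Prop :=
  ∃ x : G, x * i.1 * x⁻¹ = j.1 ∧ conjPair x i.2 = j.2

theorem PtConj.refl (i : G × BrauerPairIdx G) : PtConj i i := ⟨1, by simp, conjPair_one _⟩

theorem PtConj.symm {i j : G × BrauerPairIdx G} (h : PtConj i j) : PtConj j i := by
  obtain ⟨x, h1, h2⟩ := h
  exact ⟨x⁻¹, by rw [← h1]; group, by rw [← h2, conjPair_conjPair, inv_mul_cancel, conjPair_one]⟩

theorem PtConj.trans {i j k : G × BrauerPairIdx G} (h : PtConj i j) (h' : PtConj j k) :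
    PtConj i k := by
  obtain ⟨x, h1, h2⟩ := h
  obtain ⟨y, h3, h4⟩ := h'
  exact ⟨y * x, by rw [← h3, ← h1]; group, by rw [← h4, ← h2, conjPair_conjPair]⟩

variable (p M) in
/-- Representatives of the classes of the pairs of a block. -/
structure IsReps (B : Set (IrrCharacter G)) {ι : Type*} (R : ι → G × BrauerPairIdx G) : Prop where
  mem : ∀ i, IsBPt p M B (R i)
  inj : ∀ i j, PtConj (R i) (R j) → i = j
  surj : ∀ t, IsBPt p M B t → ∃ i, PtConj (R i) t

theorem IsBPt.exists_eq {B : Set (IrrCharacter G)} {i : G × BrauerPairIdx G}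
    (h : IsBPt p M B i) : ∃ b : Set (IrrCharacter (cz i.1)),
      i = (i.1, ⟨Subgroup.zpowers i.1, b⟩) ∧ IsPBlock M b ∧
        IsBrauerPairOf p M B (Subgroup.zpowers i.1) b := by
  obtain ⟨v, Q, b⟩ := i
  obtain ⟨h1, h2, h3⟩ := h
  dsimp only at h2 h3 ⊢
  subst h2
  exact ⟨b, rfl, h3.1.2, h3⟩

theorem conjPair_self_of_cz {v c : G} (hc : c ∈ cz v) {a : BrauerPairIdx G}
    (ha : a.1 = Subgroup.zpowers v) : conjPair c a = a := by
  obtain ⟨Q, f⟩ := a
  subst ha
  rw [conjPair_of_mem_normalizer (Subgroup.centralizer_le_normalizer _ hc), conjSet_of_mem hc]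

theorem isBPt_conj {B : Set (IrrCharacter G)} {i : G × BrauerPairIdx G} (h : IsBPt p M B i)
    (x : G) : IsBPt p M B (x * i.1 * x⁻¹, conjPair x i.2) := by
  obtain ⟨⟨k, hk⟩, h2, h3⟩ := h
  refine ⟨⟨k, by rw [← hk]; exact (MulAut.conj x).orderOf_eq i.1⟩, ?_, isBrauerPairOf_conjPair x h3⟩
  show i.2.1.map _ = _
  rw [h2, map_zpowers_conj]

variable {B : Set (IrrCharacter G)}

theorem pm_conj {χ ψ : G → ℂ} (hχ : IsClassFunction G χ) (hψ : IsClassFunction G ψ)
    {i : G × BrauerPairIdx G} (h : IsBPt p M B i) {j : G × BrauerPairIdx G} (hc : PtConj i j) :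
    pm p M j χ ψ = pm p M i χ ψ := by
  obtain ⟨x, h1, h2⟩ := hc
  obtain ⟨v, a⟩ := j
  dsimp only at h1 h2
  subst h1 h2
  have hcard : Nat.card (cz (x * i.1 * x⁻¹)) = Nat.card (cz i.1) :=
    (Nat.card_congr ((MulAut.conj x).toEquiv.subtypeEquiv fun t => by
      show t ∈ cz i.1 ↔ x * t * x⁻¹ ∈ _
      simpa using (conj_mem_cz_iff (u := i.1) (t := t) (a := x⁻¹)).symm)).symm
  rw [pm, pm, hcard, pairSum_conj hχ hψ (by rw [h.2.1]; exact Subgroup.mem_zpowers _) h.2.2.1.2]

theorem pm_comm (i : G × BrauerPairIdx G) (χ ψ : G → ℂ) :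
    conj (pm p M i χ ψ) = pm p M i ψ χ := by
  simp only [pm, map_mul, map_inv₀, map_natCast, pairSum, map_sum]
  congr 1
  refine Finset.sum_congr rfl fun r _ => ?_
  split_ifs
  · rw [map_mul, Complex.conj_conj, mul_comm]
  · exact map_zero _

variable (p M) in
/-- The part at a pair. -/
noncomputable def part (i : G × BrauerPairIdx G) (χ : G → ℂ) (r : G) : ℂ :=
  open Classical in if IsPRegular p r ∧ r ∈ Subgroup.centralizer (i.2.1 : Set G) then
    blkTrace χ (i.1 * r) (blkK M (Subgroup.centralizer (i.2.1 : Set G)) i.2.2) else 0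

theorem pm_eq_gram (i : G × BrauerPairIdx G) (χ ψ : G → ℂ) :
    pm p M i χ ψ = ((Nat.card (cz i.1) : ℝ)⁻¹ : ℝ) * ∑ r, part p M i χ r * conj (part p M i ψ r) := by
  rw [pm, pairSum]
  push_cast
  congr 1
  refine Finset.sum_congr rfl fun r _ => ?_
  rw [part, part]
  split_ifs <;> simp

open Classical in
theorem pm_mk {χ ψ : G → ℂ} (hχ : IsClassFunction G χ) (hψ : IsClassFunction G ψ) (v : G)
    {b : Set (IrrCharacter (cz v))} (hb : IsPBlock M b) :
    pm p M (v, ⟨Subgroup.zpowers v, b⟩) χ ψ = (Nat.card (cz v) : ℂ)⁻¹ *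
      ∑ s : cz v with IsPRegular p s, blockPart b (sect χ v) s * conj (blockPart b (sect ψ v) s) := by
  rw [pm, pairSum_eq hχ hψ v hb]

/-- The unit weight reproduces a class function. -/
theorem starChar_const_one (hp : p.Prime) {χ : G → ℂ} (hχ : IsClassFunction G χ) :
    starChar p M χ (fun _ _ => 1) = χ := by
  classical
  funext g
  obtain ⟨u, r, h, rfl⟩ := exists_sectionPoint hp g
  rw [starChar_eq hp _ _ h, starPart_one hχ _ h, subBlocks_eq,
    Finset.sum_congr rfl fun b _ => one_mul _]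
  exact sum_blockPart (isClassFunction_sect hχ u) ⟨r, mem_centralizer_zpowers h.comm⟩

open Classical in
/-- The scalar product as a sum over the representatives. -/
theorem sum_pm {ι : Type*} [Fintype ι] {R : ι → G × BrauerPairIdx G} (hM : IsPModular p M)
    (hB : IsPBlock M B) (hR : IsReps p M B R) {χ : IrrCharacter G} (hχ : χ ∈ B)
    (ψ : IrrCharacter G) :
    ∑ i, pm p M (R i) (χ : G → ℂ) (ψ : G → ℂ) = classInner (χ : G → ℂ) (ψ : G → ℂ) := by
  have hχc := irr_classFunction χ
  have hψc := irr_classFunction ψ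
  set f : G × BrauerPairIdx G → ℂ := fun t => pairSum p M (χ : G → ℂ) (ψ : G → ℂ) t.1 t.2 with hf
  let g : ι × G → G × BrauerPairIdx G := fun t =>
    (t.2 * (R t.1).1 * t.2⁻¹, conjPair t.2 (R t.1).2)
  have hG : (Nat.card G : ℂ) ≠ 0 := Nat.cast_ne_zero.mpr Nat.card_pos.ne'
  have hT : ∑ v : G with ∃ k : ℕ, orderOf v = p ^ k,
      ∑ b ∈ subBlocks M (cz v), f (v, ⟨Subgroup.zpowers v, b⟩) =
        ∑ c ∈ Finset.univ.image g, f c := by
    rw [Finset.sum_sigma', ← Finset.sum_filter_of_ne (p := fun σ : (v : G) ×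
      Set (IrrCharacter (cz v)) => IsBrauerPairOf p M B (Subgroup.zpowers σ.1) σ.2) fun σ hσ h => by
        by_contra hn
        obtain ⟨h1, h2⟩ := Finset.mem_sigma.mp hσ
        refine h ?_
        simp only [hf]
        rw [pairSum_eq hχc hψc _ (mem_subBlocks.mp h2)]
        refine Finset.sum_eq_zero fun s hs => ?_
        rw [blockPart_sect_eq_zero hM hB hχ (Finset.mem_filter.mp h1).2 (mem_subBlocks.mp h2) hn
          (Finset.mem_filter.mp hs).2, zero_mul]]
    refine Finset.sum_bij (fun σ _ => (σ.1, (⟨Subgroup.zpowers σ.1, σ.2⟩ : BrauerPairIdx G)))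
      ?_ ?_ ?_ (fun _ _ => rfl)
    · rintro ⟨v, b⟩ hσ
      obtain ⟨h1, h2⟩ := Finset.mem_filter.mp hσ
      obtain ⟨i, x, hx1, hx2⟩ := hR.surj (v, ⟨Subgroup.zpowers v, b⟩)
        ⟨(Finset.mem_filter.mp (Finset.mem_sigma.mp h1).1).2, rfl, h2⟩
      exact Finset.mem_image.mpr ⟨(i, x), Finset.mem_univ _, Prod.ext hx1 hx2⟩
    · rintro ⟨v, b⟩ _ ⟨v', b'⟩ _ h
      obtain ⟨rfl, h2⟩ := Prod.mk.inj h
      obtain rfl := eq_of_heq (Sigma.mk.inj h2).2
      rfl
    · rintro c hc
      obtain ⟨⟨i, x⟩, -, rfl⟩ := Finset.mem_image.mp hc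
      have hp' := isBPt_conj (hR.mem i) x
      obtain ⟨b, hb, hblock, hpair⟩ := hp'.exists_eq
      exact ⟨⟨_, b⟩, Finset.mem_filter.mpr ⟨Finset.mem_sigma.mpr ⟨Finset.mem_filter.mpr
        ⟨Finset.mem_univ _, hp'.1⟩, mem_subBlocks.mpr hblock⟩, hpair⟩, hb.symm⟩
  have hfib : ∀ c ∈ Finset.univ.image g, ∀ i x, g (i, x) = c →
      Finset.univ.filter (fun t => g t = c) =
        Finset.image (fun s : cz (R i).1 => (i, x * (s : G))) Finset.univ := by
    rintro c - i x rfl
    ext ⟨j, y⟩
    simp only [Finset.mem_filter, Finset.mem_univ, true_and, Finset.mem_image]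
    constructor
    · intro h
      obtain ⟨h1, h2⟩ := Prod.mk.inj h
      dsimp only at h1 h2
      obtain rfl : j = i := hR.inj j i ⟨x⁻¹ * y, by
        calc x⁻¹ * y * (R j).1 * (x⁻¹ * y)⁻¹ = x⁻¹ * (y * (R j).1 * y⁻¹) * x := by group
          _ = (R i).1 := by rw [h1]; group, by
        rw [← conjPair_conjPair, h2, conjPair_conjPair, inv_mul_cancel, conjPair_one]⟩
      refine ⟨⟨x⁻¹ * y, mem_cz_iff.mpr ?_⟩, Prod.ext rfl (mul_inv_cancel_left x y)⟩
      calc x⁻¹ * y * (R j).1 = x⁻¹ * (y * (R j).1 * y⁻¹) * y := by group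
        _ = _ := by rw [h1]; group
    · rintro ⟨s, hs⟩
      obtain ⟨rfl, rfl⟩ := Prod.mk.inj hs
      refine Prod.ext ?_ ?_
      · show x * (s : G) * (R i).1 * (x * (s : G))⁻¹ = x * (R i).1 * x⁻¹
        rw [mul_assoc x, mem_cz_iff.mp s.2]
        group
      · show conjPair (x * (s : G)) (R i).2 = conjPair x (R i).2
        rw [← conjPair_conjPair, conjPair_self_of_cz s.2 (hR.mem i).2.1]
  have hone : ∀ i, ∑ x : G, (Nat.card (cz (R i).1) : ℂ)⁻¹ * f (g (i, x)) =
      (Nat.card G : ℂ) * pm p M (R i) (χ : G → ℂ) (ψ : G → ℂ) := by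
    intro i
    rw [Finset.sum_congr rfl (g := fun _ => pm p M (R i) (χ : G → ℂ) (ψ : G → ℂ)) fun x _ => ?_,
      Finset.sum_const, Finset.card_univ, nsmul_eq_mul, Nat.card_eq_fintype_card]
    rw [pm]
    congr 1
    exact pairSum_conj hχc hψc (by rw [(hR.mem i).2.1]; exact Subgroup.mem_zpowers _)
      (hR.mem i).2.2.1.2 x
  have h := classInner_starChar (M := M) hM hχc hψc (fun _ _ => 1) (fun _ _ => 1)
  rw [starChar_const_one hM.1 hχc, starChar_const_one hM.1 hψc] at h
  rw [h, eq_inv_mul_iff_mul_eq₀ hG]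
  simp only [map_one, one_mul]
  rw [hT, Finset.mul_sum, ← Finset.sum_congr rfl fun i _ => hone i, ← Finset.univ_product_univ,
    ← Finset.sum_product' (f := fun i x => (Nat.card (cz (R i).1) : ℂ)⁻¹ * f (g (i, x))),
    Finset.univ_product_univ, Finset.sum_image' (fun t : ι × G => (Nat.card (cz (R t.1).1) : ℂ)⁻¹ * f (g t))]
  rintro ⟨i, x⟩ -
  rw [hfib _ (Finset.mem_image_of_mem g (Finset.mem_univ _)) i x rfl,
    Finset.sum_image fun s _ t _ hst => Subtype.ext (mul_left_cancel (congrArg Prod.snd hst))]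
  rw [Finset.sum_congr rfl (g := fun _ => (Nat.card (cz (R i).1) : ℂ)⁻¹ * f (g (i, x))) fun s _ => ?_,
    Finset.sum_const, Finset.card_univ, nsmul_eq_mul, ← Nat.card_eq_fintype_card,
    mul_inv_cancel_left₀ (Nat.cast_ne_zero.mpr Nat.card_pos.ne')]
  have hs : (i, x * (s : G)) ∈ Finset.univ.filter (fun t => g t = g (i, x)) := by
    rw [hfib _ (Finset.mem_image_of_mem g (Finset.mem_univ _)) i x rfl]
    exact Finset.mem_image_of_mem _ (Finset.mem_univ s)
  rw [(Finset.mem_filter.mp hs).2]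

section Block

variable [Fintype ↥B]

open Classical in
theorem sum_subtype_eq (f : IrrCharacter G → ℂ) :
    ∑ φ : ↥B, f φ = ∑ φ : IrrCharacter G with φ ∈ B, f φ :=
  (Finset.sum_subtype _ (fun x => by simp) f).symm

theorem sum_row_sq (hM : IsPModular p M) (hB : IsPBlock M B) {i : G × BrauerPairIdx G}
    (h : IsBPt p M B i) (ψ : ↥B) :
    ∑ φ : ↥B, pm p M i (ψ : IrrCharacter G) (φ : IrrCharacter G) *
        pm p M i (φ : IrrCharacter G) (ψ : IrrCharacter G) =
      pm p M i (ψ : IrrCharacter G) (ψ : IrrCharacter G) := by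
  classical
  obtain ⟨v, a⟩ := i
  obtain ⟨b, hb, hblock, hpair⟩ := h.exists_eq
  obtain ⟨hv, -, -⟩ := h
  dsimp only at b hb hblock hpair hv
  rw [hb]
  simp only [fun χ φ : IrrCharacter G =>
    pm_mk (p := p) (irr_classFunction χ) (irr_classFunction φ) v hblock]
  have key : ∀ (K : Subgroup G), K = Subgroup.centralizer ({v} : Set G) →
      ∀ (b : Set (IrrCharacter K)), IsInducedBlock M K b B →
      ∑ φ : IrrCharacter G with φ ∈ B,
        (∑ s : K with IsPRegular p s, blockPart b (fun c : K => (φ : G → ℂ) (v * (c : G))) s *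
          conj (blockPart b (fun c : K => ((ψ : IrrCharacter G) : G → ℂ) (v * (c : G))) s)) *
        conj (∑ s : K with IsPRegular p s, blockPart b (fun c : K => (φ : G → ℂ) (v * (c : G))) s *
          conj (blockPart b (fun c : K => ((ψ : IrrCharacter G) : G → ℂ) (v * (c : G))) s)) =
      (Nat.card K : ℂ) * ∑ s : K with IsPRegular p s,
        blockPart b (fun c : K => ((ψ : IrrCharacter G) : G → ℂ) (v * (c : G))) s *
          conj (blockPart b (fun c : K => ((ψ : IrrCharacter G) : G → ℂ) (v * (c : G))) s) := by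
    rintro K rfl b hind
    exact sum_sq_row hM hv hB hind (ψ : IrrCharacter G)
  have h1 := key (cz v) (cz_eq v) b ((isBrauerPairOf_iff_induced hM hv hblock).mp hpair)
  rw [← sum_subtype_eq] at h1
  have hc : (Nat.card (cz v) : ℂ) ≠ 0 := Nat.cast_ne_zero.mpr Nat.card_pos.ne'
  refine mul_left_cancel₀ (pow_ne_zero 2 hc) ?_
  refine Eq.trans ?_ ((h1.trans ?_))
  · rw [Finset.mul_sum]
    refine Finset.sum_congr rfl fun φ _ => ?_
    simp only [map_sum, map_mul, Complex.conj_conj]
    field_simp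
    rw [mul_comm]
    congr 1
    exact Finset.sum_congr rfl fun s _ => mul_comm _ _
  · field_simp
    rfl

/-- The projections of the pairs. -/
theorem pm_mul {ι : Type*} [Fintype ι] [DecidableEq ι] {R : ι → G × BrauerPairIdx G}
    (hM : IsPModular p M) (hB : IsPBlock M B) (hR : IsReps p M B R) (i j : ι) (χ ψ : ↥B) :
    ∑ φ : ↥B, pm p M (R i) (χ : IrrCharacter G) (φ : IrrCharacter G) *
        pm p M (R j) (φ : IrrCharacter G) (ψ : IrrCharacter G) =
      if i = j then pm p M (R i) (χ : IrrCharacter G) (ψ : IrrCharacter G) else 0 := by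
  classical
  refine gram_projections (X := ↥B) (fun i (φ : ↥B) => part p M (R i) ((φ : IrrCharacter G) : G → ℂ))
    (fun i => (Nat.card (cz (R i).1) : ℝ)⁻¹)
    (fun i => inv_pos.mpr (Nat.cast_pos.mpr Nat.card_pos))
    (fun i χ ψ => pm p M (R i) (χ : IrrCharacter G) (ψ : IrrCharacter G))
    (fun i χ ψ => pm_eq_gram _ _ _) (fun χ ψ => ?_) (fun i χ => sum_row_sq hM hB (hR.mem i) χ)
    i j χ ψ
  rw [sum_pm hM hB hR χ.2 ψ]
  split_ifs with h
  · rw [h]; exact Char.classInner_irr_self (ψ : IrrCharacter G).2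
  · exact Char.classInner_irr_ne (χ : IrrCharacter G).2 (ψ : IrrCharacter G).2
      fun e => h (Subtype.ext (Subtype.ext e))

/-- The trace of a projection is the rank of the local block. -/
theorem sum_pm_diag (hM : IsPModular p M) (hB : IsPBlock M B) {v : G}
    (hv : ∃ k : ℕ, orderOf v = p ^ k) {b : Set (IrrCharacter (cz v))}
    (hpair : IsBrauerPairOf p M B (Subgroup.zpowers v) b) :
    ∑ φ : ↥B, pm p M (v, ⟨Subgroup.zpowers v, b⟩) (φ : IrrCharacter G) (φ : IrrCharacter G) =
      (blockRank p b : ℂ) := by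
  classical
  have hblock := hpair.1.2
  simp only [fun χ φ : IrrCharacter G =>
    pm_mk (p := p) (irr_classFunction χ) (irr_classFunction φ) v hblock]
  have key : ∀ (K : Subgroup G), K = Subgroup.centralizer ({v} : Set G) →
      ∀ (b : Set (IrrCharacter K)), IsInducedBlock M K b B →
      ∑ φ : IrrCharacter G with φ ∈ B, ∑ s : K with IsPRegular p s,
        blockPart b (fun c : K => (φ : G → ℂ) (v * (c : G))) s *
          conj (blockPart b (fun c : K => (φ : G → ℂ) (v * (c : G))) s) =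
      (Nat.card K : ℂ) * (blockRank p b : ℂ) := by
    rintro K rfl b hind
    exact sum_diag_columns hM hv hB hind
  have h1 := key (cz v) (cz_eq v) b ((isBrauerPairOf_iff_induced hM hv hblock).mp hpair)
  rw [← sum_subtype_eq] at h1
  rw [← Finset.mul_sum, inv_mul_eq_iff_eq_mul₀ (Nat.cast_ne_zero.mpr Nat.card_pos.ne'), ← h1]
  rfl

/-- Away from the identity the degrees are annihilated. -/
theorem sum_pm_degree (hM : IsPModular p M) (hB : IsPBlock M B) {i : G × BrauerPairIdx G}
    (h : IsBPt p M B i) (h1 : i.1 ≠ 1) (χ : IrrCharacter G) :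
    ∑ φ : ↥B, pm p M i (χ : G → ℂ) (φ : IrrCharacter G) *
      ((φ : IrrCharacter G) : G → ℂ) 1 = 0 := by
  classical
  obtain ⟨v, a⟩ := i
  obtain ⟨b, hb, hblock, hpair⟩ := h.exists_eq
  obtain ⟨hv, -, -⟩ := h
  dsimp only at b hb hblock hpair hv h1
  rw [hb]
  simp only [fun χ φ : IrrCharacter G =>
    pm_mk (p := p) (irr_classFunction χ) (irr_classFunction φ) v hblock]
  set θ : cz v → ℂ := fun c => ∑ φ : IrrCharacter G with φ ∈ B,
    (φ : G → ℂ) 1 * sect (φ : G → ℂ) v c with hθ
  have hθc : IsClassFunction (cz v) θ := fun c s =>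
    Finset.sum_congr rfl fun φ _ => by rw [isClassFunction_sect (irr_classFunction φ) v c s]
  have h0 : ∀ c : cz v, IsPRegular p c → θ c = 0 := by
    intro c hc
    have hsing : p ∣ orderOf (v * (c : G)) := by
      obtain ⟨k, hk⟩ := hv
      have hk0 : k ≠ 0 := fun e => h1 (orderOf_eq_one_iff.mp (by rw [hk, e, pow_zero]))
      have hcop : (orderOf v).Coprime (orderOf (c : G)) := by
        rw [hk]
        exact Nat.Coprime.pow_left _ (hM.1.coprime_iff_not_dvd.mpr
          (by rw [Subgroup.orderOf_coe]; exact hc))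
      rw [(commute_of_mem_cz c).orderOf_mul_eq_mul_orderOf_of_coprime hcop, hk]
      exact dvd_mul_of_dvd_left (dvd_pow_self p hk0) _
    have h := sum_block_conj_eq_zero_of_section hM hB (x := (1 : G)) (g := v * (c : G))
      ⟨0, by simp⟩ fun r _ hr hconj => hr ?_
    · have h' := congrArg conj h
      rw [map_sum, map_zero] at h'
      rw [← h', hθ]
      refine Finset.sum_congr rfl fun φ _ => ?_
      rw [map_mul, Complex.conj_conj, (irr_degree_eq φ).1, Complex.conj_natCast]
      rfl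
    · rw [one_mul] at hconj
      obtain ⟨a, ha⟩ := isConj_iff.mp hconj
      rw [← (MulAut.conj a).orderOf_eq r]
      show p ∣ orderOf (a * r * a⁻¹)
      rwa [ha]
  refine (Finset.sum_subtype (Finset.univ.filter (· ∈ B)) (fun x => by simp)
    (fun φ : IrrCharacter G => (Nat.card (cz v) : ℂ)⁻¹ * (∑ s : cz v with IsPRegular p s,
      blockPart b (sect (χ : G → ℂ) v) s * conj (blockPart b (sect (φ : G → ℂ) v) s)) *
        (φ : G → ℂ) 1)).symm.trans ?_
  simp only [mul_assoc, ← Finset.mul_sum, Finset.sum_mul]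
  rw [Finset.sum_comm]
  refine mul_eq_zero_of_right _ (Finset.sum_eq_zero fun s hs => ?_)
  rw [← Finset.mul_sum]
  refine mul_eq_zero_of_right _ ?_
  have hz := congrArg conj (blockPart_eq_zero_of_regular_zero hM hblock h0
    (Finset.mem_filter.mp hs).2)
  rw [map_zero] at hz
  rw [← hz, blockPart_eq_sum b hθc, map_sum]
  simp only [hθ, Finset.mul_sum, map_sum, map_mul,
    fun φ : IrrCharacter G => blockPart_eq_sum (G := cz v) b (isClassFunction_sect (irr_classFunction φ) v),
    Finset.sum_mul]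
  rw [Finset.sum_comm]
  refine Finset.sum_congr rfl fun k _ => Finset.sum_congr rfl fun φ _ => ?_
  rw [(irr_degree_eq φ).1, Complex.conj_natCast]
  ring

end Block

open Classical in
/-- Representatives extending given pairwise non-conjugate ones. -/
theorem exists_reps_extending {κ : Type*} (R₀ : κ → G × BrauerPairIdx G)
    (hmem : ∀ i, IsBPt p M B (R₀ i)) (hinj : ∀ i j, PtConj (R₀ i) (R₀ j) → i = j) :
    ∃ S : Finset (G × BrauerPairIdx G), IsReps p M B (Sum.elim R₀ (Subtype.val : S → _)) := by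
  let s : Setoid (G × BrauerPairIdx G) := ⟨PtConj, PtConj.refl, PtConj.symm, PtConj.trans⟩
  let c : G × BrauerPairIdx G → G × BrauerPairIdx G := fun t => (Quotient.mk s t).out
  have hc : ∀ t, PtConj (c t) t := fun t => Quotient.mk_out (s := s) t
  refine ⟨(Finset.univ.filter fun t => IsBPt p M B t ∧ ∀ i, ¬ PtConj (R₀ i) t).image c, ?_, ?_, ?_⟩
  · rintro (i | ⟨u, hu⟩)
    · exact hmem i
    · obtain ⟨t, ht, rfl⟩ := Finset.mem_image.mp hu
      obtain ⟨x, hx1, hx2⟩ := (hc t).symm
      have := isBPt_conj (Finset.mem_filter.mp ht).2.1 x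
      rwa [hx1, hx2] at this
  · rintro (i | ⟨u, hu⟩) (j | ⟨w, hw⟩) h
    · exact congrArg _ (hinj i j h)
    · obtain ⟨t, ht, rfl⟩ := Finset.mem_image.mp hw
      exact absurd (h.trans (hc t)) ((Finset.mem_filter.mp ht).2.2 i)
    · obtain ⟨t, ht, rfl⟩ := Finset.mem_image.mp hu
      exact absurd (h.symm.trans (hc t)) ((Finset.mem_filter.mp ht).2.2 j)
    · obtain ⟨t, ht, rfl⟩ := Finset.mem_image.mp hu
      obtain ⟨t', ht', rfl⟩ := Finset.mem_image.mp hw
      have : Quotient.mk s t = Quotient.mk s t' :=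
        Quotient.sound (((hc t).symm.trans h).trans (hc t'))
      exact congrArg Sum.inr (Subtype.ext (congrArg Quotient.out this))
  · intro t ht
    by_cases h : ∃ i, PtConj (R₀ i) t
    · obtain ⟨i, hi⟩ := h
      exact ⟨Sum.inl i, hi⟩
    · push Not at h
      exact ⟨Sum.inr ⟨c t, Finset.mem_image.mpr ⟨t, Finset.mem_filter.mpr
        ⟨Finset.mem_univ _, ht, h⟩, rfl⟩⟩, hc t⟩

end CfsgLib.Blocks.TameTwo
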