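import Cfsg.Agent.Lib.Blocks.TameTwo.Fusion
import Cfsg.Agent.Lib.Blocks.TameTwo.PairMatrix

/-!
# The classes of the pairs

The pairs of the block on two-elements are up to conjugation those on `1`, on `z`, on the rotations
modulo inversion by `y`, and on those of `y` and `r 1 * y` which are not fused into these.
-/

set_option autoImplicit false
set_option linter.unusedSectionVars false

namespace CfsgLib.Blocks.TameTwo

open Cfsg
open scoped ComplexConjugate CfsgLib.Char

namespace Shape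

variable {G : Type*} [Group G] {D : Subgroup G} {q : ℕ} [NeZero q] (S : Shape D q)

/-- Representatives of the rotations of order at least four modulo the action of `y`. -/
def rotReps : Finset (ZMod (2 * q)) := Finset.univ.filter fun i => i.val < (S.s * i).val

/-- Representatives of all rotations modulo the action of `y`. -/
def rotK : Finset (ZMod (2 * q)) := insert 0 (insert (q : ZMod (2 * q)) S.rotReps)

theorem mem_rotReps {i : ZMod (2 * q)} : i ∈ S.rotReps ↔ i.val < (S.s * i).val := by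
  simp [rotReps]

theorem ne_of_mem_rotReps {i : ZMod (2 * q)} (h : i ∈ S.rotReps) :
    i ≠ 0 ∧ i ≠ (q : ZMod (2 * q)) := by
  rw [S.mem_rotReps] at h
  constructor <;> rintro rfl
  · rw [mul_zero] at h; exact lt_irrefl _ h
  · rw [S.s_mul_half] at h; exact lt_irrefl _ h

theorem mem_rotK_cases {i : ZMod (2 * q)} (h : i ∈ S.rotK) :
    S.s * i = i ∨ i.val < (S.s * i).val := by
  rcases Finset.mem_insert.mp h with h | h
  · exact Or.inl (S.s_mul_fix (Or.inl h))
  rcases Finset.mem_insert.mp h with h | h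
  · exact Or.inl (S.s_mul_fix (Or.inr h))
  · exact Or.inr (S.mem_rotReps.mp h)

theorem exists_rotK (i : ZMod (2 * q)) : ∃ k ∈ S.rotK, k = i ∨ k = S.s * i := by
  rcases lt_trichotomy i.val (S.s * i).val with h | h | h
  · exact ⟨i, Finset.mem_insert_of_mem (Finset.mem_insert_of_mem (S.mem_rotReps.mpr h)), Or.inl rfl⟩
  · refine ⟨i, ?_, Or.inl rfl⟩
    rcases S.s_fix (ZMod.val_injective _ h).symm with rfl | rfl
    · exact Finset.mem_insert_self _ _
    · exact Finset.mem_insert_of_mem (Finset.mem_insert_self _ _)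
  · refine ⟨S.s * i, Finset.mem_insert_of_mem (Finset.mem_insert_of_mem (S.mem_rotReps.mpr ?_)),
      Or.inr rfl⟩
    rwa [← mul_assoc, S.s_sq, one_mul]

theorem eq_of_mem_rotK {i j : ZMod (2 * q)} (hi : i ∈ S.rotK) (hj : j ∈ S.rotK)
    (h : j = i ∨ j = S.s * i) : i = j := by
  rcases h with h | h
  · exact h.symm
  have hij : S.s * j = i := by rw [h, ← mul_assoc, S.s_sq, one_mul]
  rcases S.mem_rotK_cases hi with hi | hi
  · rw [h, hi]
  rcases S.mem_rotK_cases hj with hj | hj
  · rw [← hij, hj]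
  rw [← h] at hi
  rw [hij] at hj
  exact absurd hi (lt_asymm hj)

/-- A sum over the rotations of order at least four in terms of the representatives. -/
theorem sum_rotReps {R : Type*} [AddCommMonoid R] (f : ZMod (2 * q) → R) :
    ∑ r ∈ Finset.univ.filter (fun r : ZMod (2 * q) => r ≠ 0 ∧ r ≠ (q : ZMod (2 * q))), f r =
      (∑ r ∈ S.rotReps, f r) + ∑ r ∈ S.rotReps, f (S.s * r) := by
  have h2 : ∀ l : ZMod (2 * q), S.s * (S.s * l) = l := fun l => by rw [← mul_assoc, S.s_sq, one_mul]
  rw [← Finset.sum_filter_add_sum_filter_not _ (fun r : ZMod (2 * q) => r.val < (S.s * r).val)]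
  congr 1
  · refine Finset.sum_congr ?_ fun _ _ => rfl
    ext r
    simp only [Finset.mem_filter, Finset.mem_univ, true_and, S.mem_rotReps]
    exact ⟨fun h => h.2, fun h => ⟨S.ne_of_mem_rotReps (S.mem_rotReps.mpr h), h⟩⟩
  · refine Finset.sum_bij' (fun r _ => S.s * r) (fun r _ => S.s * r) (fun r hr => ?_)
      (fun r hr => ?_) (fun r _ => h2 r) (fun r _ => h2 r) fun r _ => by rw [h2]
    · simp only [Finset.mem_filter, Finset.mem_univ, true_and] at hr
      rw [S.mem_rotReps, h2]
      exact lt_of_le_of_ne (not_lt.mp hr.2) fun h => by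
        rcases S.s_fix (ZMod.val_injective _ h) with h' | h'
        exacts [hr.1.1 h', hr.1.2 h']
    · have h := S.mem_rotReps.mp hr
      simp only [Finset.mem_filter, Finset.mem_univ, true_and, h2]
      refine ⟨⟨fun h0 => ?_, fun h0 => ?_⟩, lt_asymm h⟩
      · exact (S.ne_of_mem_rotReps hr).1 (by rw [← h2 r, h0, mul_zero])
      · exact (S.ne_of_mem_rotReps hr).2 (by rw [← h2 r, h0, S.s_mul_half])

theorem card_rotReps : S.rotReps.card + 1 = q := by
  have h := S.sum_rotReps fun _ => (1 : ℕ)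
  rw [Finset.sum_const, Finset.sum_const, smul_eq_mul, smul_eq_mul, mul_one, mul_one] at h
  have hsplit : Finset.univ.filter (fun r : ZMod (2 * q) => ¬ (r ≠ 0 ∧ r ≠ (q : ZMod (2 * q)))) =
      {0, (q : ZMod (2 * q))} := by
    ext r
    simp only [Finset.mem_filter, Finset.mem_univ, true_and, Finset.mem_insert,
      Finset.mem_singleton]
    tauto
  have hc := Finset.card_filter_add_card_filter_not (s := (Finset.univ : Finset (ZMod (2 * q))))
    (fun r => r ≠ 0 ∧ r ≠ (q : ZMod (2 * q)))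
  rw [hsplit, Finset.card_pair S.half_ne_zero.symm, Finset.card_univ, ZMod.card, h] at hc
  omega

end Shape

variable {M : Ideal AlgInt} [M.IsPrime] {G : Type*} [Group G] [Fintype G] {D : Subgroup G}
  {e : Set (IrrCharacter (Subgroup.centralizer (D : Set G)))} {B : Set (IrrCharacter G)} {q : ℕ}

variable (M D e) in
/-- The element with its pair below `(D, e)`. -/
noncomputable def pt (v : G) : G × BrauerPairIdx G := (v, topPair 2 M D e v)

variable (M e) in
/-- `r i * y` is not fused to a rotation. -/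
def Sep (S : Shape D q) (i : ZMod (2 * q)) : Prop :=
  ∀ j, ¬ PtConj (pt M D e (S.r i * S.y)) (pt M D e (S.r j))

variable (M e) in
open Classical in
/-- Representatives of the classes outside the rotations. -/
noncomputable def outerReps [NeZero q] (S : Shape D q) : Finset (ZMod (2 * q)) :=
  Finset.univ.filter fun i => (i = 0 ∨ i = 1) ∧ Sep M e S i ∧
    (i = 1 → Sep M e S 0 → ¬ PtConj (pt M D e (S.r 0 * S.y)) (pt M D e (S.r 1 * S.y)))

variable (M e) in
/-- The representatives. -/
noncomputable def repsFun [NeZero q] (S : Shape D q) :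
    ↥S.rotK ⊕ ↥(outerReps M e S) → G × BrauerPairIdx G :=
  Sum.elim (fun i => pt M D e (S.r i.1)) fun i => pt M D e (S.r i.1 * S.y)

theorem isBPt_pt (hM : IsPModular 2 M) (hmax : IsMaximalBrauerPair 2 M B D e) {v : G} (hv : v ∈ D) :
    IsBPt 2 M B (pt M D e v) := by
  obtain ⟨b, hb, hle⟩ := exists_topBlock hM hmax.1.1 hv
  refine ⟨exists_pow_orderOf_mem hM hmax.1.1.1 ⟨v, hv⟩, topPair_fst v, ?_⟩
  show IsBrauerPairOf 2 M B (topPair 2 M D e v).1 (topPair 2 M D e v).2
  rw [hb]
  exact (SubpairLE.isBrauerPairOf_iff hM hle hmax.1.2.1).mp hmax.1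

theorem exists_conj_pt (hM : IsPModular 2 M) (hmax : IsMaximalBrauerPair 2 M B D e)
    {t : G × BrauerPairIdx G} (ht : IsBPt 2 M B t) : ∃ v ∈ D, PtConj (pt M D e v) t := by
  obtain ⟨b, hb, -, hpair⟩ := ht.exists_eq
  obtain ⟨x, hx⟩ := exists_conjPair_le_maximal hM hmax hpair
  have hv : x * t.1 * x⁻¹ ∈ D := PairLE.fst_le hx
    (mem_map_conj_iff.mpr (by
      rw [show x⁻¹ * (x * t.1 * x⁻¹) * x = t.1 by group]
      exact Subgroup.mem_zpowers _))
  refine ⟨_, hv, PtConj.symm ⟨x, rfl, ?_⟩⟩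
  rw [hb]
  exact eq_topPair hM hmax.1.1 hv (map_zpowers_conj x t.1) hx

theorem ptConj_of_mem (hM : IsPModular 2 M) (hmax : IsMaximalBrauerPair 2 M B D e) {d v : G}
    (hd : d ∈ D) (hv : v ∈ D) : PtConj (pt M D e v) (pt M D e (d * v * d⁻¹)) := by
  refine ⟨d, rfl, eq_topPair hM hmax.1.1 (mul_mem (mul_mem hd hv) (inv_mem hd)) ?_ ?_⟩
  · show (topPair 2 M D e v).1.map _ = _
    rw [topPair_fst, map_zpowers_conj]
  · have h := subpairLE_conjPair d (topPair_le hM hmax.1.1 hv)
    rwa [conjPair_top hd] at h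

variable [NeZero q]

theorem isReps_repsFun (hM : IsPModular 2 M) (hmax : IsMaximalBrauerPair 2 M B D e) (S : Shape D q) :
    IsReps 2 M B (repsFun M e S) := by
  classical
  refine ⟨?_, ?_, fun t ht => ?_⟩
  · rintro (i | i)
    exacts [isBPt_pt hM hmax (S.r_mem _), isBPt_pt hM hmax (S.outer_mem _)]
  · rintro (⟨i, hi⟩ | ⟨i, hi⟩) (⟨j, hj⟩ | ⟨j, hj⟩) h
    · obtain ⟨g, hg, hpair⟩ := h
      exact congrArg Sum.inl
        (Subtype.ext (S.eq_of_mem_rotK hi hj (rotation_fusion hM hmax S hg hpair)))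
    · exact absurd h.symm ((Finset.mem_filter.mp hj).2.2.1 i)
    · exact absurd h ((Finset.mem_filter.mp hi).2.2.1 j)
    · refine congrArg Sum.inr (Subtype.ext ?_)
      obtain ⟨-, hi', hsi, hci⟩ := Finset.mem_filter.mp hi
      obtain ⟨-, hj', hsj, hcj⟩ := Finset.mem_filter.mp hj
      rcases hi' with rfl | rfl <;> rcases hj' with rfl | rfl
      · rfl
      · exact absurd h (hcj rfl hsi)
      · exact absurd h.symm (hci rfl hsj)
      · rfl
  · obtain ⟨v, hv, hvt⟩ := exists_conj_pt hM hmax ht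
    -- a rotation
    have hrot : ∀ l, PtConj (pt M D e (S.r l)) t → ∃ k, PtConj (repsFun M e S k) t := by
      intro l hl
      obtain ⟨k, hk, hkl⟩ := S.exists_rotK l
      refine ⟨Sum.inl ⟨k, hk⟩, ?_⟩
      rcases hkl with rfl | rfl
      · exact hl
      · refine PtConj.trans (PtConj.symm ?_) hl
        show PtConj (pt M D e (S.r l)) (pt M D e (S.r (S.s * l)))
        rw [← S.conj_r]
        exact ptConj_of_mem hM hmax S.y_mem (S.r_mem l)
    obtain ⟨l, rfl | rfl⟩ := S.cover v hv
    · exact hrot l hvt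
    obtain ⟨i, hi, -, d, hd, hdl⟩ := S.exists_conj_outer l
    have hit : PtConj (pt M D e (S.r i * S.y)) t := by
      refine PtConj.trans (PtConj.symm ?_) hvt
      rw [← hdl]
      exact ptConj_of_mem hM hmax hd (S.outer_mem l)
    by_cases hsep : Sep M e S i
    · by_cases hmerge : i = 1 ∧ Sep M e S 0 ∧
          PtConj (pt M D e (S.r 0 * S.y)) (pt M D e (S.r 1 * S.y))
      · obtain ⟨rfl, h0, hc⟩ := hmerge
        refine ⟨Sum.inr ⟨0, Finset.mem_filter.mpr ⟨Finset.mem_univ _, Or.inl rfl, h0, fun h => ?_⟩⟩,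
          hc.trans hit⟩
        have : Nontrivial (ZMod (2 * q)) := ⟨⟨_, 0, S.half_ne_zero⟩⟩
        exact absurd h zero_ne_one
      · exact ⟨Sum.inr ⟨i, Finset.mem_filter.mpr ⟨Finset.mem_univ _, hi, hsep,
          fun h1 h0 hc => hmerge ⟨h1, h0, h1 ▸ hc⟩⟩⟩, hit⟩
    · simp only [Sep, not_forall, not_not] at hsep
      obtain ⟨j, hj⟩ := hsep
      exact hrot j (hj.symm.trans hit)

end CfsgLib.Blocks.TameTwo
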