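import Mathlib.Algebra.Order.Ring.Int
import Mathlib.Algebra.BigOperators.Ring.Finset
import Mathlib.Data.ZMod.Basic
import Mathlib.Tactic.Linarith
import Mathlib.Tactic.Ring
import Mathlib.Tactic.LinearCombination

/-!
# Squared differences of integral vectors invariant under an involution

`gap s f` is the sum of `(f j - f k) ^ 2` over the ordered pairs of `s`.  For vectors invariant
under an involution it takes no value between zero and the one of a single deviating orbit.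
-/

set_option autoImplicit false
set_option linter.unusedSectionVars false

namespace CfsgLib.Blocks.TameTwo

open Finset

variable {ι : Type*} [DecidableEq ι]

/-- The squared differences over the ordered pairs. -/
def gap (s : Finset ι) (f : ι → ℤ) : ℤ := ∑ j ∈ s, ∑ k ∈ s, (f j - f k) ^ 2

theorem gap_nonneg (s : Finset ι) (f : ι → ℤ) : 0 ≤ gap s f :=
  sum_nonneg fun _ _ => sum_nonneg fun _ _ => sq_nonneg _

theorem gap_eq_zero_iff (s : Finset ι) (f : ι → ℤ) :
    gap s f = 0 ↔ ∀ j ∈ s, ∀ k ∈ s, f j = f k := by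
  rw [gap, sum_eq_zero_iff_of_nonneg fun _ _ => sum_nonneg fun _ _ => sq_nonneg _]
  refine forall₂_congr fun j _ => ?_
  rw [sum_eq_zero_iff_of_nonneg fun _ _ => sq_nonneg _]
  simp [sub_eq_zero]

theorem gap_const_mul (s : Finset ι) (f : ι → ℤ) :
    gap s f = 2 * (s.card : ℤ) * ∑ j ∈ s, f j ^ 2 - 2 * (∑ j ∈ s, f j) ^ 2 := by
  have e : ∀ j k, (f j - f k) ^ 2 = f j ^ 2 + f k ^ 2 - 2 * (f j * f k) := fun j k => by ring
  simp only [gap, e, sum_sub_distrib, sum_add_distrib, sum_const, nsmul_eq_mul, ← mul_sum]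
  rw [← sum_mul, pow_two (∑ j ∈ s, f j)]
  ring

/-- Separation by a threshold, as a number. -/
def sep (t : ℤ) (x y : ℤ) : ℤ := if (x ≤ t ↔ y ≤ t) then 0 else 1

theorem sep_le_sq (t x y : ℤ) : sep t x y ≤ (x - y) ^ 2 := by
  unfold sep
  split_ifs with h
  · exact sq_nonneg _
  · have : x - y ≠ 0 := fun e => h (by rw [sub_eq_zero.mp e])
    have := sq_pos_of_ne_zero this
    omega

theorem sep_add_sep_le_sq {t t' : ℤ} (ht : t ≠ t') (x y : ℤ) :
    sep t x y + sep t' x y ≤ (x - y) ^ 2 := by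
  unfold sep
  split_ifs with h h' h'
  · simpa using sq_nonneg (x - y)
  · simpa [sep, h'] using sep_le_sq t' x y
  · simpa [sep, h] using sep_le_sq t x y
  · have h2 : x - y ≤ -2 ∨ 2 ≤ x - y := by
      by_cases hxt : x ≤ t <;> by_cases hyt : y ≤ t <;> by_cases hxt' : x ≤ t' <;>
        by_cases hyt' : y ≤ t' <;> simp_all <;> omega
    rcases h2 with h2 | h2 <;> nlinarith

/-- The number of pairs separated by a threshold. -/
theorem sum_sep (s : Finset ι) (f : ι → ℤ) (t : ℤ) :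
    ∑ j ∈ s, ∑ k ∈ s, sep t (f j) (f k) =
      2 * (((s.filter fun j => f j ≤ t).card : ℤ) * ((s.filter fun j => ¬ f j ≤ t).card : ℤ)) := by
  set L := s.filter fun j => f j ≤ t with hL
  set R := s.filter fun j => ¬ f j ≤ t with hR
  have h : ∀ j ∈ s, ∑ k ∈ s, sep t (f j) (f k) =
      if f j ≤ t then (R.card : ℤ) else (L.card : ℤ) := by
    intro j _
    split_ifs with hj
    · rw [hR, ← sum_boole]
      exact sum_congr rfl fun k _ => by by_cases hk : f k ≤ t <;> simp [sep, hj, hk]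
    · rw [hL, ← sum_boole]
      exact sum_congr rfl fun k _ => by by_cases hk : f k ≤ t <;> simp [sep, hj, hk]
  rw [sum_congr rfl h, sum_ite, sum_const, sum_const, nsmul_eq_mul, nsmul_eq_mul, ← hL, ← hR]
  ring

theorem cut_le_gap (s : Finset ι) (f : ι → ℤ) (t : ℤ) :
    2 * (((s.filter fun j => f j ≤ t).card : ℤ) * ((s.filter fun j => ¬ f j ≤ t).card : ℤ)) ≤
      gap s f := by
  rw [← sum_sep]
  exact sum_le_sum fun _ _ => sum_le_sum fun _ _ => sep_le_sq _ _ _

theorem two_cuts_le_gap (s : Finset ι) (f : ι → ℤ) {t t' : ℤ} (ht : t ≠ t') :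
    2 * (((s.filter fun j => f j ≤ t).card : ℤ) * ((s.filter fun j => ¬ f j ≤ t).card : ℤ)) +
      2 * (((s.filter fun j => f j ≤ t').card : ℤ) * ((s.filter fun j => ¬ f j ≤ t').card : ℤ)) ≤
      gap s f := by
  rw [← sum_sep, ← sum_sep, ← sum_add_distrib]
  refine sum_le_sum fun _ _ => ?_
  rw [← sum_add_distrib]
  exact sum_le_sum fun _ _ => sep_add_sep_le_sq ht _ _

/-- A set mapped to itself without fixed points by an involution has even cardinality. -/
theorem two_dvd_card_of_involution (T : Finset ι) (σ : ι → ι) (hσ : ∀ j ∈ T, σ (σ j) = j)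
    (hne : ∀ j ∈ T, σ j ≠ j) (hmem : ∀ j ∈ T, σ j ∈ T) : 2 ∣ T.card := by
  have h : ∑ _j ∈ T, (1 : ZMod 2) = 0 :=
    sum_involution (fun j _ => σ j) (fun _ _ => by decide) (fun j hj _ => hne j hj) hmem hσ
  rw [sum_const, nsmul_one] at h
  exact (ZMod.natCast_eq_zero_iff_even.mp h).two_dvd

section Involution

variable {s : Finset ι} {σ : ι → ι} {f : ι → ℤ}

theorem even_card_cut (hσ : ∀ j, σ (σ j) = j) (hs : ∀ j ∈ s, σ j ∈ s) (hf : ∀ j, f (σ j) = f j)
    (P : ℤ → Prop) [DecidablePred P] (hne : ∀ j ∈ s, σ j = j → ¬ P (f j)) :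
    2 ∣ (s.filter fun j => P (f j)).card := by
  refine two_dvd_card_of_involution _ σ (fun j _ => hσ j) (fun j hj h => ?_) fun j hj => ?_
  · exact hne j (mem_filter.mp hj).1 h (mem_filter.mp hj).2
  · obtain ⟨h1, h2⟩ := mem_filter.mp hj
    exact mem_filter.mpr ⟨hs j h1, by rwa [hf]⟩

variable (hσ : ∀ j, σ (σ j) = j) (hs : ∀ j ∈ s, σ j ∈ s) (hf : ∀ j, f (σ j) = f j)
include hσ hs hf

theorem two_le_cut {t : ℤ} (hl : ∃ j ∈ s, f j ≤ t) (hr : ∃ j ∈ s, ¬ f j ≤ t)
    (hfix : (∀ j ∈ s, σ j ≠ j) ∨ ∃ u ∈ s, ∃ v ∈ s, u ≠ v ∧ (∀ j ∈ s, σ j = j → j = u ∨ j = v) ∧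
      (f u ≤ t ↔ f v ≤ t)) :
    2 ≤ (s.filter fun j => f j ≤ t).card ∧ 2 ≤ (s.filter fun j => ¬ f j ≤ t).card := by
  have hpos : ∀ (P : ℤ → Prop) [DecidablePred P], (∃ j ∈ s, P (f j)) →
      0 < (s.filter fun j => P (f j)).card := fun P _ ⟨j, h1, h2⟩ =>
    card_pos.mpr ⟨j, mem_filter.mpr ⟨h1, h2⟩⟩
  have hl' := hpos (· ≤ t) hl
  have hr' := hpos (fun x => ¬ x ≤ t) hr
  rcases hfix with hfix | ⟨u, hu, v, hv, huv, hfix, hside⟩
  · obtain ⟨a, ha⟩ := even_card_cut hσ hs hf (· ≤ t) fun j hj h => absurd h (hfix j hj)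
    obtain ⟨b, hb⟩ := even_card_cut hσ hs hf (fun x => ¬ x ≤ t) fun j hj h => absurd h (hfix j hj)
    omega
  · have h2 : ∀ (P : ℤ → Prop) [DecidablePred P], P (f u) → P (f v) →
        2 ≤ (s.filter fun j => P (f j)).card := fun P _ h1 h2 =>
      le_of_eq_of_le (card_pair huv).symm (card_le_card fun j hj => by
        rcases mem_insert.mp hj with rfl | hj
        · exact mem_filter.mpr ⟨hu, h1⟩
        · rw [mem_singleton.mp hj]; exact mem_filter.mpr ⟨hv, h2⟩)
    by_cases hut : f u ≤ t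
    · refine ⟨h2 (· ≤ t) hut (hside.mp hut), ?_⟩
      obtain ⟨b, hb⟩ := even_card_cut hσ hs hf (fun x => ¬ x ≤ t) fun j hj h => by
        rcases hfix j hj h with rfl | rfl
        exacts [not_not.mpr hut, not_not.mpr (hside.mp hut)]
      omega
    · refine ⟨?_, h2 (fun x => ¬ x ≤ t) hut fun h => hut (hside.mpr h)⟩
      obtain ⟨b, hb⟩ := even_card_cut hσ hs hf (· ≤ t) fun j hj h => by
        rcases hfix j hj h with rfl | rfl
        exacts [hut, fun h => hut (hside.mpr h)]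
      omega

omit hσ hs hf in
theorem mul_cut_ge {L R : ℕ} (hL : 2 ≤ L) (hR : 2 ≤ R) :
    2 * ((L + R : ℤ) - 2) ≤ (L : ℤ) * R := by
  have h1 : (2 : ℤ) ≤ L := by exact_mod_cast hL
  have h2 : (2 : ℤ) ≤ R := by exact_mod_cast hR
  nlinarith

/-- A non-constant invariant vector whose fixed values agree. -/
theorem four_mul_le_gap
    (hfix : (∀ j ∈ s, σ j ≠ j) ∨ ∃ u ∈ s, ∃ v ∈ s, u ≠ v ∧ (∀ j ∈ s, σ j = j → j = u ∨ j = v) ∧
      f u = f v)
    (hne : gap s f ≠ 0) : 4 ≤ s.card ∧ 4 * ((s.card : ℤ) - 2) ≤ gap s f := by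
  obtain ⟨j, hj, k, hk, hjk⟩ : ∃ j ∈ s, ∃ k ∈ s, f j < f k := by
    by_contra hno
    push Not at hno
    exact hne ((gap_eq_zero_iff s f).mpr fun j hj k hk => le_antisymm (hno k hk j hj) (hno j hj k hk))
  obtain ⟨h1, h2⟩ := two_le_cut hσ hs hf (t := f j) ⟨j, hj, le_rfl⟩ ⟨k, hk, by omega⟩
    (hfix.imp id fun ⟨u, hu, v, hv, huv, h, e⟩ => ⟨u, hu, v, hv, huv, h, by rw [e]⟩)
  have hc := card_filter_add_card_filter_not (s := s) (fun i => f i ≤ f j)
  refine ⟨by omega, ?_⟩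
  have h3 := mul_cut_ge h1 h2
  have h4 := cut_le_gap s f (f j)
  rw [← hc]
  push_cast at h3 ⊢
  linarith

end Involution

/-- The pattern of a vector: the part of even and the part of odd index. -/
structure Pattern (ι : Type*) [DecidableEq ι] where
  /-- The indices of the first part. -/
  ev : Finset ι
  /-- The indices of the second part. -/
  od : Finset ι
  /-- The involution. -/
  inv : ι → ι
  /-- The first fixed index. -/
  u : ι
  /-- The second fixed index. -/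
  v : ι
  inv_inv : ∀ j, inv (inv j) = j
  inv_ev : ∀ j ∈ ev, inv j ∈ ev
  inv_od : ∀ j ∈ od, inv j ∈ od
  mem_u : u ∈ ev
  mem_v : v ∈ ev
  ne : u ≠ v
  fix_u : inv u = u
  fix_v : inv v = v
  fix_ev : ∀ j ∈ ev, inv j = j → j = u ∨ j = v
  fix_od : ∀ j ∈ od, inv j ≠ j
  card_eq : od.card = ev.card

namespace Pattern

variable (P : Pattern ι) {f : ι → ℤ}

/-- Half the length. -/
def q : ℕ := P.ev.card

/-- The squared differences inside the two parts. -/
def G (f : ι → ℤ) : ℤ := gap P.ev f + gap P.od f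

/-- The difference of the fixed values. -/
def a (f : ι → ℤ) : ℤ := f P.u - f P.v

theorem two_le_q : 2 ≤ P.q :=
  le_of_eq_of_le (card_pair P.ne).symm (card_le_card fun j hj => by
    rcases mem_insert.mp hj with rfl | hj
    · exact P.mem_u
    · rw [mem_singleton.mp hj]; exact P.mem_v)

theorem G_nonneg (f : ι → ℤ) : 0 ≤ P.G f := add_nonneg (gap_nonneg _ _) (gap_nonneg _ _)

variable (hf : ∀ j, f (P.inv j) = f j)
include hf

theorem od_gap (hne : gap P.od f ≠ 0) : 4 ≤ P.q ∧ 4 * ((P.q : ℤ) - 2) ≤ gap P.od f := by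
  have h := four_mul_le_gap P.inv_inv P.inv_od hf (Or.inl P.fix_od) hne
  rwa [P.card_eq] at h

/-- Equal fixed values. -/
theorem G_of_a_zero (ha : P.a f = 0) :
    P.G f = 0 ∨ (4 ≤ P.q ∧ 4 * ((P.q : ℤ) - 2) ≤ P.G f) := by
  by_cases h0 : gap P.ev f = 0
  · by_cases h1 : gap P.od f = 0
    · exact Or.inl (by rw [G, h0, h1, add_zero])
    · exact Or.inr (by have := P.od_gap hf h1; rw [G, h0, zero_add]; exact this)
  · refine Or.inr ?_
    obtain ⟨h1, h2⟩ := four_mul_le_gap P.inv_inv P.inv_ev hf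
      (Or.inr ⟨P.u, P.mem_u, P.v, P.mem_v, P.ne, P.fix_ev, sub_eq_zero.mp ha⟩) h0
    exact ⟨h1, h2.trans (le_add_of_nonneg_right (gap_nonneg _ _))⟩

/-- Fixed values at distance one. -/
theorem G_of_a_unit (ha : P.a f = 1 ∨ P.a f = -1) (h6 : P.q ≠ 6) :
    P.G f = 2 * ((P.q : ℤ) - 1) ∨
      (4 * (P.q : ℤ) - 2 ≤ P.G f ∧ (16 ≤ P.q → 4 * (P.q : ℤ) - 2 < P.G f) ∧ 4 ≤ P.q) := by
  have hq := P.two_le_q
  obtain ⟨t, ht⟩ : ∃ t, (f P.u ≤ t ↔ ¬ f P.v ≤ t) ∧ (f P.u = t ∨ f P.u = t + 1) ∧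
      (f P.v = t ∨ f P.v = t + 1) := by
    rw [a] at ha
    rcases ha with h | h
    · exact ⟨f P.v, by constructor <;> intros <;> omega, by omega, by omega⟩
    · exact ⟨f P.u, by constructor <;> intros <;> omega, by omega, by omega⟩
  obtain ⟨hsep, hu, hv⟩ := ht
  set L := (P.ev.filter fun j => f j ≤ t).card with hL
  set R := (P.ev.filter fun j => ¬ f j ≤ t).card with hR
  have hLR : L + R = P.q := card_filter_add_card_filter_not _
  have hL1 : 1 ≤ L ∧ 1 ≤ R := by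
    by_cases h : f P.u ≤ t
    · exact ⟨card_pos.mpr ⟨P.u, mem_filter.mpr ⟨P.mem_u, h⟩⟩,
        card_pos.mpr ⟨P.v, mem_filter.mpr ⟨P.mem_v, hsep.mp h⟩⟩⟩
    · exact ⟨card_pos.mpr ⟨P.v, mem_filter.mpr ⟨P.mem_v, not_not.mp (mt hsep.mpr h)⟩⟩,
        card_pos.mpr ⟨P.u, mem_filter.mpr ⟨P.mem_u, h⟩⟩⟩
  have hbase : (2 : ℤ) * ((P.q : ℤ) - 1) ≤ 2 * ((L : ℤ) * R) := by
    have h1 : (1 : ℤ) ≤ L := by exact_mod_cast hL1.1
    have h2 : (1 : ℤ) ≤ R := by exact_mod_cast hL1.2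
    rw [← hLR]
    push_cast
    nlinarith
  have hcut := cut_le_gap P.ev f t
  rw [← hL, ← hR] at hcut
  have hfinish : 4 ≤ P.q → 6 * (P.q : ℤ) - 10 ≤ P.G f →
      4 * (P.q : ℤ) - 2 ≤ P.G f ∧ (16 ≤ P.q → 4 * (P.q : ℤ) - 2 < P.G f) ∧ 4 ≤ P.q :=
    fun h4 h => ⟨by omega, fun h16 => by omega, h4⟩
  by_cases hod : gap P.od f = 0
  swap
  · obtain ⟨h4, h5⟩ := P.od_gap hf hod
    refine Or.inr (hfinish h4 ?_)
    rw [G]
    linarith
  by_cases htwo : ∀ j ∈ P.ev, f j = t ∨ f j = t + 1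
  · -- one threshold
    have hgap : gap P.ev f = 2 * ((L : ℤ) * R) := by
      rw [hL, hR, ← sum_sep]
      refine sum_congr rfl fun j hj => sum_congr rfl fun k hk => ?_
      rcases htwo j hj with h | h <;> rcases htwo k hk with h' | h' <;> simp [sep, h, h']
    rw [G, hod, add_zero, hgap]
    -- both sides are odd
    have hodd : ∀ (Q : ℤ → Prop) [DecidablePred Q], (Q (f P.u) ↔ ¬ Q (f P.v)) →
        ¬ 2 ∣ (P.ev.filter fun j => Q (f j)).card := by
      intro Q _ hQ hdvd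
      set w := if Q (f P.u) then P.u else P.v with hw
      have hwm : w ∈ P.ev.filter fun j => Q (f j) := by
        rw [hw]; split_ifs with h
        · exact mem_filter.mpr ⟨P.mem_u, h⟩
        · exact mem_filter.mpr ⟨P.mem_v, not_not.mp (mt hQ.mpr h)⟩
      have he := two_dvd_card_of_involution ((P.ev.filter fun j => Q (f j)).erase w) P.inv
        (fun j _ => P.inv_inv j) (fun j hj hfix => ?_) fun j hj => ?_
      · rw [card_erase_of_mem hwm] at he
        have := card_pos.mpr ⟨w, hwm⟩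
        omega
      · obtain ⟨hjw, hjm⟩ := mem_erase.mp hj
        obtain ⟨hjs, hjQ⟩ := mem_filter.mp hjm
        rcases P.fix_ev j hjs hfix with rfl | rfl
        · exact hjw (by rw [hw, if_pos hjQ])
        · exact hjw (by rw [hw, if_neg fun h => hQ.mp h hjQ])
      · obtain ⟨hjw, hjm⟩ := mem_erase.mp hj
        obtain ⟨hjs, hjQ⟩ := mem_filter.mp hjm
        refine mem_erase.mpr ⟨fun h => hjw ?_, mem_filter.mpr ⟨P.inv_ev j hjs, by rwa [hf]⟩⟩
        rw [← P.inv_inv j, h, hw]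
        split_ifs
        exacts [P.fix_u, P.fix_v]
    have hLo := hodd (· ≤ t) hsep
    have hRo := hodd (fun x => ¬ x ≤ t) (by tauto)
    rw [← hL] at hLo
    rw [← hR] at hRo
    by_cases hmin : L = 1 ∨ R = 1
    · left
      rcases hmin with h | h <;> simp only [h, Nat.cast_one, one_mul, mul_one] <;> omega
    · push Not at hmin
      right
      have h1 : (3 : ℤ) ≤ L := by omega
      have h2 : (3 : ℤ) ≤ R := by omega
      have hq' : (P.q : ℤ) = L + R := by exact_mod_cast hLR.symm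
      have h3 : 3 * ((P.q : ℤ) - 3) ≤ (L : ℤ) * R := by nlinarith
      refine ⟨?_, fun h16 => by omega, by omega⟩
      omega
  · -- a second threshold
    push Not at htwo
    obtain ⟨j, hj, hjt, hjt'⟩ := htwo
    right
    obtain ⟨t', htt, hl, hr, hside⟩ : ∃ t', t ≠ t' ∧ (∃ i ∈ P.ev, f i ≤ t') ∧
        (∃ i ∈ P.ev, ¬ f i ≤ t') ∧ (f P.u ≤ t' ↔ f P.v ≤ t') := by
      rcases lt_or_ge (f j) t with h | h
      · exact ⟨t - 1, by omega, ⟨j, hj, by omega⟩, ⟨P.u, P.mem_u, by omega⟩,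
          by constructor <;> intros <;> omega⟩
      · exact ⟨t + 1, by omega, ⟨P.u, P.mem_u, by omega⟩, ⟨j, hj, by omega⟩,
          by constructor <;> intros <;> omega⟩
    obtain ⟨h1, h2⟩ := two_le_cut P.inv_inv P.inv_ev hf hl hr
      (Or.inr ⟨P.u, P.mem_u, P.v, P.mem_v, P.ne, P.fix_ev, hside⟩)
    have hc := card_filter_add_card_filter_not (s := P.ev) (fun i => f i ≤ t')
    have h3 := mul_cut_ge h1 h2
    have h4 := two_cuts_le_gap P.ev f htt
    rw [← hL, ← hR] at h4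
    refine hfinish (by rw [q]; omega) ?_
    have hq' : (((P.ev.filter fun i => f i ≤ t').card : ℤ) +
        ((P.ev.filter fun i => ¬ f i ≤ t').card : ℤ)) = P.q := by
      rw [q]; exact_mod_cast hc
    rw [hq'] at h3
    rw [G, hod, add_zero]
    linarith

end Pattern

end CfsgLib.Blocks.TameTwo
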