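import Cfsg.Agent.Lib.Blocks.TameTwo.Shape
import Cfsg.Agent.Lib.Blocks.TameTwo.IntPattern
import Cfsg.Agent.Lib.Char.Virtual
import Cfsg.Agent.Lib.Char.MeanValueVirtual
import Mathlib.Analysis.Fourier.ZMod

/-!
# The coefficients of a function on the rotations

A generalized character of the cyclic group of the rotations has integral Fourier coefficients; its
values off `{0, q}` measure the variation of the coefficients inside the two parities.
-/

set_option autoImplicit false
set_option linter.unusedSectionVars false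

namespace CfsgLib.Blocks.TameTwo

open Cfsg Finset
open scoped ComplexConjugate CfsgLib.Char

variable {q : ℕ} [NeZero q]

/-- The standard character of the rotations. -/
noncomputable def zeta (x : ZMod (2 * q)) : ℂ := ZMod.stdAddChar x

theorem zeta_add (x y : ZMod (2 * q)) : zeta (x + y) = zeta x * zeta y :=
  AddChar.map_add_eq_mul _ x y

theorem zeta_zero : zeta (0 : ZMod (2 * q)) = 1 := AddChar.map_zero_eq_one _

theorem zeta_neg (x : ZMod (2 * q)) : zeta (-x) = conj (zeta x) := AddChar.map_neg_eq_conj _ x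

theorem zeta_inj {x y : ZMod (2 * q)} (h : zeta x = zeta y) : x = y := ZMod.injective_stdAddChar h

theorem sum_zeta (b : ZMod (2 * q)) :
    ∑ x, zeta (x * b) = if b = 0 then ((2 * q : ℕ) : ℂ) else 0 := by
  have h := AddChar.sum_mulShift (ψ := ZMod.stdAddChar (N := 2 * q)) b (ZMod.isPrimitive_stdAddChar _)
  simp only [ZMod.card, zeta] at h ⊢
  rw [h]
  push_cast
  split_ifs <;> simp

theorem zeta_half : zeta ((q : ℕ) : ZMod (2 * q)) = -1 := by
  have h2 : zeta ((q : ℕ) : ZMod (2 * q)) * zeta ((q : ℕ) : ZMod (2 * q)) = 1 := by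
    rw [← zeta_add, Shape.half_add_half, zeta_zero]
  rcases mul_self_eq_one_iff.mp h2 with h | h
  · rw [← zeta_zero (q := q)] at h
    have h0 := zeta_inj h
    rw [ZMod.natCast_eq_zero_iff] at h0
    have := Nat.le_of_dvd (Nat.pos_of_neZero q) h0
    have := Nat.pos_of_neZero q
    omega
  · exact h

theorem zeta_mul_half (j : ZMod (2 * q)) :
    zeta (j * (q : ZMod (2 * q))) = if Shape.par j = 0 then 1 else -1 := by
  obtain ⟨k, hk⟩ := Nat.even_or_odd' j.val
  have hpar : Shape.par j = ((j.val : ℕ) : ZMod 2) := by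
    rw [Shape.par, ← map_natCast (ZMod.castHom (dvd_mul_right 2 q) (ZMod 2)), ZMod.natCast_zmod_val]
  have hj : j * (q : ZMod (2 * q)) = ((j.val * q : ℕ) : ZMod (2 * q)) := by
    rw [Nat.cast_mul, ZMod.natCast_zmod_val]
  have h2 : (2 : ZMod 2) = 0 := rfl
  rcases hk with hk | hk <;> rw [hj, hpar, hk]
  · rw [if_pos (by push_cast; rw [h2, zero_mul]),
      show 2 * k * q = k * (2 * q) by ring, Nat.cast_mul, ZMod.natCast_self, mul_zero, zeta_zero]
  · rw [if_neg (by push_cast; rw [h2, zero_mul, zero_add]; decide),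
      show (2 * k + 1) * q = k * (2 * q) + q by ring, Nat.cast_add, Nat.cast_mul, ZMod.natCast_self,
      mul_zero, zero_add, zeta_half]

/-- The linear character of index `j`. -/
noncomputable def lamHom (j : ZMod (2 * q)) : Multiplicative (ZMod (2 * q)) →* ℂˣ where
  toFun x := Units.mk0 (zeta (j * x.toAdd))
    (fun h => by
      have := zeta_add (j * x.toAdd) (-(j * x.toAdd))
      rw [add_neg_cancel, zeta_zero, h, zero_mul] at this
      exact one_ne_zero this)
  map_one' := Units.ext (by simp [zeta_zero])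
  map_mul' x y := Units.ext (by simp [mul_add, zeta_add])

/-- Fourier inversion with integral coefficients. -/
theorem exists_coeff {F : ZMod (2 * q) → ℂ}
    (hF : IsGeneralizedCharacter (Multiplicative (ZMod (2 * q))) fun x => F x.toAdd) :
    ∃ n : ZMod (2 * q) → ℤ, ∀ r, F r = ∑ j, (n j : ℂ) * zeta (j * r) := by
  classical
  choose n hn using fun j => Char.exists_int_classInner hF
    (Char.isGeneralized_of_isCharacter (Char.isCharacter_monoidHom (lamHom (q := q) j)))
  refine ⟨n, fun r => ?_⟩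
  have hn' : ∀ j, (n j : ℂ) = ((2 * q : ℕ) : ℂ)⁻¹ * ∑ x, F x * zeta (-(j * x)) := fun j => by
    rw [← hn j, classInner, Nat.card_congr Multiplicative.toAdd, Nat.card_zmod]
    congr 1
    refine Fintype.sum_equiv Multiplicative.toAdd _ _ fun x => ?_
    rw [zeta_neg]
    rfl
  simp only [hn', mul_assoc, ← mul_sum, sum_mul, ← zeta_add]
  rw [sum_comm]
  simp only [← mul_sum, fun x j : ZMod (2 * q) => show -(j * x) + j * r = j * (r - x) by ring,
    sum_zeta, sub_eq_zero]
  rw [sum_congr rfl fun x _ => mul_ite_zero (r = x) (F x) _, sum_ite_eq, if_pos (mem_univ r),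
    mul_left_comm, inv_mul_cancel₀ (Nat.cast_ne_zero.mpr (NeZero.ne _)), mul_one]

section Inversion

variable {F : ZMod (2 * q) → ℂ} {n : ZMod (2 * q) → ℤ}
  (hn : ∀ r, F r = ∑ j, (n j : ℂ) * zeta (j * r))
include hn

theorem coeff_eq (j : ZMod (2 * q)) :
    ((2 * q : ℕ) : ℂ) * (n j : ℂ) = ∑ x, F x * zeta (-(j * x)) := by
  simp only [hn, sum_mul, mul_assoc, ← zeta_add]
  rw [sum_comm]
  simp only [← mul_sum, fun i x : ZMod (2 * q) => show i * x + -(j * x) = x * (i - j) by ring,
    sum_zeta, sub_eq_zero]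
  rw [sum_congr rfl fun i _ => mul_ite_zero (i = j) (n i : ℂ) _, sum_ite_eq', if_pos (mem_univ j),
    mul_comm]

theorem coeff_symm {s : ZMod (2 * q)} (hs : s * s = 1) (hF : ∀ x, F (s * x) = F x)
    (j : ZMod (2 * q)) : n (s * j) = n j := by
  have hN : ((2 * q : ℕ) : ℂ) ≠ 0 := Nat.cast_ne_zero.mpr (NeZero.ne _)
  have h : ((2 * q : ℕ) : ℂ) * (n (s * j) : ℂ) = ((2 * q : ℕ) : ℂ) * (n j : ℂ) := by
    rw [coeff_eq hn, coeff_eq hn]
    refine Fintype.sum_equiv ⟨(s * ·), (s * ·),
      fun x => show s * (s * x) = x by rw [← mul_assoc, hs, one_mul],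
      fun x => show s * (s * x) = x by rw [← mul_assoc, hs, one_mul]⟩ _ _ fun x => ?_
    show _ = F (s * x) * zeta (-(j * (s * x)))
    rw [hF, mul_left_comm, mul_assoc]
  exact_mod_cast mul_left_cancel₀ hN h

theorem sum_coeff : ((∑ j, n j : ℤ) : ℂ) = F 0 := by
  rw [hn 0, Int.cast_sum]
  simp [zeta_zero]

theorem apply_half : F (q : ZMod (2 * q)) =
    ((∑ j ∈ univ.filter (fun j => Shape.par j = 0), n j : ℤ) : ℂ) -
      ((∑ j ∈ univ.filter (fun j => ¬ Shape.par j = 0), n j : ℤ) : ℂ) := by
  rw [hn, ← sum_filter_add_sum_filter_not univ (fun j => Shape.par j = 0)]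
  push_cast
  rw [sub_eq_add_neg, ← sum_neg_distrib]
  congr 1 <;> refine sum_congr rfl fun j hj => ?_ <;>
    rw [zeta_mul_half] <;> simp [(mem_filter.mp hj).2]

/-- The fixed coefficients. -/
theorem coeff_diff :
    (q : ℂ) * ((n 0 : ℂ) - (n (q : ZMod (2 * q)) : ℂ)) =
      ∑ x ∈ univ.filter (fun x => ¬ Shape.par x = 0), F x := by
  have h := congrArg₂ (· - ·) (coeff_eq hn 0) (coeff_eq hn (q : ZMod (2 * q)))
  simp only [zero_mul, neg_zero, zeta_zero, mul_one, ← mul_sub, ← sum_sub_distrib] at h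
  rw [← sum_filter_add_sum_filter_not univ (fun x => Shape.par x = 0),
    sum_eq_zero (s := univ.filter fun x => Shape.par x = 0) fun x hx => by
      rw [zeta_neg, mul_comm ((q : ℕ) : ZMod (2 * q)), zeta_mul_half, if_pos (mem_filter.mp hx).2,
        map_one, mul_one, sub_self],
    zero_add, sum_congr rfl (g := fun x => F x * 2) fun x hx => by
      rw [zeta_neg, mul_comm ((q : ℕ) : ZMod (2 * q)), zeta_mul_half, if_neg (mem_filter.mp hx).2,
        map_neg, map_one]
      ring,
    ← sum_mul, Nat.cast_mul, Nat.cast_two] at h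
  linear_combination h / 2

theorem sum_normSq : ∑ r, F r * conj (F r) = ((2 * q : ℕ) : ℂ) * ((∑ j, n j ^ 2 : ℤ) : ℂ) := by
  calc ∑ r, F r * conj (F r) = ∑ r, F r * ∑ j, (n j : ℂ) * zeta (-(j * r)) := by
        refine sum_congr rfl fun r _ => ?_
        rw [hn r, map_sum]
        congr 1
        exact sum_congr rfl fun j _ => by rw [map_mul, map_intCast, zeta_neg]
    _ = ∑ j, (n j : ℂ) * ∑ r, F r * zeta (-(j * r)) := by
        simp only [mul_sum]
        rw [sum_comm]
        exact sum_congr rfl fun j _ => sum_congr rfl fun r _ => by ring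
    _ = _ := by
        simp only [← coeff_eq hn]
        push_cast
        rw [mul_sum]
        exact sum_congr rfl fun j _ => by ring

end Inversion

/-- The parities of the indices. -/
noncomputable def pattern {G : Type*} [Group G] {D : Subgroup G} (S : Shape D q) :
    Pattern (ZMod (2 * q)) where
  ev := univ.filter fun j => Shape.par j = 0
  od := univ.filter fun j => ¬ Shape.par j = 0
  inv j := S.s * j
  u := 0
  v := (q : ZMod (2 * q))
  inv_inv j := by rw [← mul_assoc, S.s_sq, one_mul]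
  inv_ev j hj :=
    Finset.mem_filter.mpr ⟨Finset.mem_univ _, (S.par_s_mul j).trans (Finset.mem_filter.mp hj).2⟩
  inv_od j hj := Finset.mem_filter.mpr
    ⟨Finset.mem_univ _, fun h => (Finset.mem_filter.mp hj).2 ((S.par_s_mul j).symm.trans h)⟩
  mem_u := Finset.mem_filter.mpr ⟨Finset.mem_univ _, map_zero _⟩
  mem_v := Finset.mem_filter.mpr ⟨Finset.mem_univ _, S.par_half⟩
  ne := S.half_ne_zero.symm
  fix_u := mul_zero _
  fix_v := S.s_mul_half
  fix_ev j _ h := S.s_fix h
  fix_od j hj h := by
    rcases S.s_fix h with rfl | rfl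
    · exact (Finset.mem_filter.mp hj).2 (map_zero _)
    · exact (Finset.mem_filter.mp hj).2 S.par_half
  card_eq := by
    have h1 : ∀ a : ZMod 2, (¬ a = 0 → a + 1 = 0) ∧ (a = 0 → ¬ a - 1 = 0) := by decide
    refine card_bij (fun j _ => j + 1)
      (fun j hj => Finset.mem_filter.mpr ⟨Finset.mem_univ _, ?_⟩)
      (fun a _ b _ h => add_right_cancel h)
      fun b hb => ⟨b - 1, Finset.mem_filter.mpr ⟨Finset.mem_univ _, ?_⟩, sub_add_cancel b 1⟩
    · rw [Shape.par, map_add, map_one]
      exact (h1 _).1 (Finset.mem_filter.mp hj).2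
    · rw [Shape.par, map_sub, map_one]
      exact (h1 _).2 (Finset.mem_filter.mp hb).2

theorem pattern_q {G : Type*} [Group G] {D : Subgroup G} (S : Shape D q) : (pattern S).q = q := by
  have h := card_filter_add_card_filter_not (s := (univ : Finset (ZMod (2 * q))))
    (fun j => Shape.par j = 0)
  have h1 : (univ.filter fun j : ZMod (2 * q) => ¬ Shape.par j = 0).card =
      (univ.filter fun j : ZMod (2 * q) => Shape.par j = 0).card := (pattern S).card_eq
  rw [card_univ, ZMod.card, h1] at h
  show (univ.filter fun j : ZMod (2 * q) => Shape.par j = 0).card = q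
  omega

/-- The values off `{0, q}` measure the variation of the coefficients. -/
theorem sum_normSq_rot {F : ZMod (2 * q) → ℂ} {n : ZMod (2 * q) → ℤ}
    (hn : ∀ r, F r = ∑ j, (n j : ℂ) * zeta (j * r)) {G : Type*} [Group G] {D : Subgroup G}
    (S : Shape D q) :
    ∑ r ∈ univ.filter (fun r => r ≠ 0 ∧ r ≠ (q : ZMod (2 * q))), F r * conj (F r) =
      (((pattern S).G n : ℤ) : ℂ) := by
  have hsplit : univ.filter (fun r : ZMod (2 * q) => ¬ (r ≠ 0 ∧ r ≠ (q : ZMod (2 * q)))) =
      {0, (q : ZMod (2 * q))} := by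
    ext r
    simp only [mem_filter, mem_univ, true_and, mem_insert, mem_singleton]
    tauto
  have h := sum_filter_add_sum_filter_not univ
    (fun r : ZMod (2 * q) => r ≠ 0 ∧ r ≠ (q : ZMod (2 * q))) fun r => F r * conj (F r)
  rw [hsplit, sum_pair S.half_ne_zero.symm, sum_normSq hn] at h
  have h0 := sum_coeff hn
  have hh := apply_half hn
  rw [← sum_filter_add_sum_filter_not univ (fun j => Shape.par j = 0)] at h0
  rw [← h0, hh] at h
  simp only [map_sub, map_intCast] at h
  have hev : ((pattern S).ev.card : ℤ) = q := by exact_mod_cast pattern_q S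
  have hod : ((pattern S).od.card : ℤ) = q := by rw [(pattern S).card_eq]; exact hev
  rw [Pattern.G, gap_const_mul, gap_const_mul, hev, hod]
  rw [← sum_filter_add_sum_filter_not univ (fun j => Shape.par j = 0) (fun j => n j ^ 2)] at h
  show _ = (((2 * (q : ℤ) * ∑ j ∈ univ.filter (fun j => Shape.par j = 0), n j ^ 2 -
      2 * (∑ j ∈ univ.filter (fun j => Shape.par j = 0), n j) ^ 2) +
    (2 * (q : ℤ) * ∑ j ∈ univ.filter (fun j => ¬ Shape.par j = 0), n j ^ 2 -
      2 * (∑ j ∈ univ.filter (fun j => ¬ Shape.par j = 0), n j) ^ 2) : ℤ) : ℂ)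
  push_cast at h ⊢
  linear_combination h

end CfsgLib.Blocks.TameTwo
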