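import Cfsg.Agent.Lib.Blocks.TameTwo.PairMatrix
import Cfsg.Agent.Lib.Blocks.TameTwo.Arith
import Cfsg.Agent.Lib.Blocks.MajorContribution

/-!
# Integral contributions at an element of order at most two

At an element `v` with `v * v = 1` and a block of full defect of its centralizer the order of the
defect group times the projection is an integral matrix.
-/

set_option autoImplicit false
set_option linter.unusedSectionVars false

namespace CfsgLib.Blocks.TameTwo

open Cfsg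
open scoped ComplexConjugate CfsgLib.Char

variable {M : Ideal AlgInt} [M.IsPrime] {G : Type*} [Group G] [Fintype G]

theorem exists_int_of_isCharacter {H : Type*} [Group H] [Finite H] {χ : H → ℂ}
    (hχ : IsCharacter H χ) {t : H} (ht : t * t = 1) : ∃ u : ℤ, χ t = u := by
  obtain ⟨n, ρ, rfl⟩ := hχ
  obtain ⟨μ, h1, h2⟩ := Char.character_pow_eq_sum ρ t
  have e : ∀ i, ∃ z : ℤ, μ i = z := fun i => by
    obtain ⟨c, hc⟩ : orderOf t ∣ 2 := orderOf_dvd_of_pow_eq_one (by rw [sq, ht])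
    have h : μ i ^ 2 = 1 := by rw [hc, pow_mul, h1 i, one_pow]
    rcases sq_eq_one_iff.mp h with h | h
    exacts [⟨1, by simp [h]⟩, ⟨-1, by simp [h]⟩]
  choose z hz using e
  refine ⟨∑ i, z i, ?_⟩
  rw [show t = t ^ 1 from (pow_one t).symm, h2, Int.cast_sum]
  exact Finset.sum_congr rfl fun i _ => by rw [pow_one, hz]

theorem exists_int_of_isGeneralized {H : Type*} [Group H] [Finite H] {f : H → ℂ}
    (hf : IsGeneralizedCharacter H f) {t : H} (ht : t * t = 1) : ∃ u : ℤ, f t = u := by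
  obtain ⟨χ, ψ, hχ, hψ, rfl⟩ := hf
  obtain ⟨a, ha⟩ := exists_int_of_isCharacter hχ ht
  obtain ⟨b, hb⟩ := exists_int_of_isCharacter hψ ht
  exact ⟨a - b, by rw [Pi.sub_apply, ha, hb, Int.cast_sub]⟩

theorem exists_int_div {a : ℤ} {k : ℕ} (h : IsIntegral ℤ ((a : ℂ) / (2 : ℂ) ^ k)) :
    ∃ c : ℤ, (a : ℂ) / (2 : ℂ) ^ k = c := by
  have e : (a : ℂ) / (2 : ℂ) ^ k = (((a : ℚ) / 2 ^ k : ℚ) : ℂ) := by push_cast; rfl
  rw [e] at h ⊢
  obtain ⟨c, hc⟩ := Char.exists_int_of_isIntegral_rat h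
  exact ⟨c, by rw [hc, Rat.cast_intCast]⟩

variable {B : Set (IrrCharacter G)} [Fintype ↥B]

/-- The integral matrix of a major subsection at an element of order at most two. -/
theorem exists_major (hM : IsPModular 2 M) (hB : IsPBlock M B) {v : G} (hv2 : v * v = 1)
    {b : Set (IrrCharacter (cz v))} (hpair : IsBrauerPairOf 2 M B (Subgroup.zpowers v) b)
    (hd : blockDefect 2 b = blockDefect 2 B) {q : ℕ} (hq : 4 * q = 2 ^ blockDefect 2 B) :
    ∃ Z : ↥B → ↥B → ℤ,
      Major q (fun χ : ↥B => blockHeight 2 B ((χ : IrrCharacter G) : G → ℂ)) Z (blockRank 2 b) ∧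
      (∀ χ ψ, Z χ ψ = Z ψ χ) ∧
      ∀ χ ψ : ↥B, (Z χ ψ : ℂ) = 4 * (q : ℂ) *
        pm 2 M (v, ⟨Subgroup.zpowers v, b⟩) (χ : IrrCharacter G) (ψ : IrrCharacter G) := by
  classical
  have hv : ∃ k : ℕ, orderOf v = 2 ^ k := by
    obtain ⟨k, -, hk⟩ := (Nat.dvd_prime_pow Nat.prime_two).mp
      (show orderOf v ∣ 2 ^ 1 from orderOf_dvd_of_pow_eq_one (by rw [pow_one, sq, hv2]))
    exact ⟨k, hk⟩
  have hblock := hpair.1.2
  have hind := (isBrauerPairOf_iff_induced hM hv hblock).mp hpair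
  have hcard : (Nat.card (cz v) : ℂ) ≠ 0 := Nat.cast_ne_zero.mpr Nat.card_pos.ne'
  have hq2 : (2 : ℂ) ^ blockDefect 2 B = 4 * (q : ℂ) := by exact_mod_cast hq.symm
  -- the contributions
  have key : ∀ (K : Subgroup G), K = Subgroup.centralizer ({v} : Set G) →
      ∀ (b : Set (IrrCharacter K)), IsInducedBlock M K b B → blockDefect 2 b = blockDefect 2 B →
      ∀ χ ψ : ↥B, ∃ z : ℤ, (z : ℂ) * (Nat.card K : ℂ) = (2 : ℂ) ^ blockDefect 2 B *
          ∑ s : K with IsPRegular 2 s,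
            blockPart b (fun c : K => ((χ : IrrCharacter G) : G → ℂ) (v * (c : G))) s *
              conj (blockPart b (fun c : K => ((ψ : IrrCharacter G) : G → ℂ) (v * (c : G))) s) ∧
        (χ = ψ → 0 < z) ∧
        ∃ c : ℤ, z = 2 ^ blockHeight 2 B ((χ : IrrCharacter G) : G → ℂ) * c ∧
          (Odd c ↔ blockHeight 2 B ((ψ : IrrCharacter G) : G → ℂ) = 0) := by
    rintro K rfl b hind hd χ ψ
    obtain ⟨F, hF⟩ := exists_system hM hv hB hind
    obtain ⟨z, hz⟩ := exists_int_of_isGeneralized (hF.gen (χ : IrrCharacter G) (ψ : IrrCharacter G))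
      (t := zpow₀ v) (Subtype.ext hv2)
    refine ⟨z, ?_, ?_, ?_⟩
    · rw [mul_comm, ← hz, hF.value, hd, Nat.cast_two]
      rfl
    · rintro rfl
      have := hF.diag_pos hM hv hB hind hd χ.2 (v := zpow₀ v) rfl
      rw [hz] at this
      exact_mod_cast this
    · obtain ⟨χ₀, hχ₀, h₀⟩ := exists_blockHeight_eq_zero hM hB
      have h1 := hF.isIntegral_div hM hv hB hind hd χ.2 (ψ : IrrCharacter G)
      rw [hz, Nat.cast_two] at h1
      obtain ⟨c, hc⟩ := exists_int_div h1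
      refine ⟨c, ?_, ?_⟩
      · rw [div_eq_iff (pow_ne_zero _ two_ne_zero)] at hc
        have : ((z : ℤ) : ℂ) = ((2 ^ blockHeight 2 B ((χ : IrrCharacter G) : G → ℂ) * c : ℤ) : ℂ) := by
          rw [hc]; push_cast; ring
        exact_mod_cast this
      · have h2 := hF.memLocalIdeal_div_iff hM hv hB hind hd χ.2 ψ.2
        rw [hz, Nat.cast_two, hc, memLocalIdeal_intCast_iff hM, Nat.cast_two] at h2
        rw [← Int.not_even_iff_odd, even_iff_two_dvd, h2]
        omega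
  choose z hz hpos c hc hodd using key (cz v) (cz_eq v) b hind hd
  have hZ : ∀ χ ψ : ↥B, (z χ ψ : ℂ) = 4 * (q : ℂ) *
      pm 2 M (v, ⟨Subgroup.zpowers v, b⟩) (χ : IrrCharacter G) (ψ : IrrCharacter G) := by
    intro χ ψ
    rw [pm_mk (irr_classFunction _) (irr_classFunction _) v hblock, ← hq2, mul_left_comm,
      eq_inv_mul_iff_mul_eq₀ hcard, mul_comm, hz χ ψ]
    rfl
  have hsymm : ∀ χ ψ, z χ ψ = z ψ χ := fun χ ψ => by
    have h := congrArg conj (hZ χ ψ)
    simp only [map_mul, pm_comm, map_intCast, map_natCast, map_ofNat, ← hZ ψ χ] at h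
    exact_mod_cast h
  refine ⟨z, ⟨fun x => ?_, fun y x => ?_, fun x => hpos x x rfl, ?_⟩, hsymm, hZ⟩
  · have h := sum_row_sq hM hB (i := (v, ⟨Subgroup.zpowers v, b⟩)) ⟨hv, rfl, hpair⟩ x
    have h' : ((∑ y, z y x ^ 2 : ℤ) : ℂ) = ((4 * (q : ℤ) * z x x : ℤ) : ℂ) := by
      push_cast
      rw [hZ x x, ← mul_assoc, ← h, Finset.mul_sum]
      refine Finset.sum_congr rfl fun y _ => ?_
      rw [sq]
      nth_rw 1 [hsymm y x]
      rw [hZ, hZ]
      ring
    exact_mod_cast h'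
  · exact ⟨c y x, hc y x, hodd y x⟩
  · have h' : ((∑ x, z x x : ℤ) : ℂ) = ((4 * (q : ℤ) * blockRank 2 b : ℤ) : ℂ) := by
      push_cast
      simp only [hZ, ← Finset.mul_sum]
      rw [sum_pm_diag hM hB hv hpair]
    exact_mod_cast h'

end CfsgLib.Blocks.TameTwo
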