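import Cfsg.Agent.Lib.Blocks.TameTwo.DihedralDiff

/-!
# The invariants of a block with dihedral defect group
-/

set_option autoImplicit false
set_option linter.unusedSectionVars false

namespace CfsgLib.Blocks.TameTwo

open Cfsg CfsgLib.Blocks.FreeQuot
open scoped ComplexConjugate CfsgLib.Char

variable {M : Ideal AlgInt} [M.IsPrime] {G : Type*} [Group G] [Fintype G] {D : Subgroup G}
  {e : Set (IrrCharacter (Subgroup.centralizer (D : Set G)))} {B : Set (IrrCharacter G)} {q : ℕ}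

/-- Constant free coefficients: the value of the pattern. -/
theorem pattern_G_of_const [NeZero q] (S : Shape D q) {f : ZMod (2 * q) → ℤ} {c : ℤ}
    (hc : ∀ l : ZMod (2 * q), l ≠ 0 → l ≠ (q : ZMod (2 * q)) → f l = c) :
    (pattern S).G f = 2 * (q : ℤ) * ((f 0 - c) ^ 2 + (f (q : ZMod (2 * q)) - c) ^ 2) -
      2 * ((f 0 - c) + (f (q : ZMod (2 * q)) - c)) ^ 2 := by
  classical
  have hev : ((pattern S).ev.card : ℤ) = q := by exact_mod_cast pattern_q S
  have hod : ((pattern S).od.card : ℤ) = q := by rw [(pattern S).card_eq]; exact hev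
  have hodc : ∀ l ∈ (pattern S).od, f l = c := fun l hl => hc l
    (fun h => (Finset.mem_filter.mp hl).2 (by rw [h]; exact map_zero _))
    (fun h => (Finset.mem_filter.mp hl).2 (by rw [h]; exact S.par_half))
  have hevs : ∀ g : ℤ → ℤ, ∑ l ∈ (pattern S).ev, g (f l) =
      g (f 0) + g (f (q : ZMod (2 * q))) + ((q : ℤ) - 2) * g c := by
    intro g
    have hsub : ({0, (q : ZMod (2 * q))} : Finset (ZMod (2 * q))) ⊆ (pattern S).ev := fun l hl => by
      rcases Finset.mem_insert.mp hl with rfl | hl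
      · exact (pattern S).mem_u
      · rw [Finset.mem_singleton.mp hl]; exact (pattern S).mem_v
    rw [← Finset.sum_sdiff hsub, Finset.sum_pair S.half_ne_zero.symm,
      Finset.sum_congr rfl (g := fun _ => g c) fun l hl => ?_, Finset.sum_const, nsmul_eq_mul,
      Finset.card_sdiff_of_subset hsub, Finset.card_pair S.half_ne_zero.symm,
      Nat.cast_sub (le_of_eq_of_le (Finset.card_pair S.half_ne_zero.symm).symm
        (Finset.card_le_card hsub)), hev]
    · push_cast
      ring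
    · simp only [Finset.mem_sdiff, Finset.mem_insert, Finset.mem_singleton, not_or] at hl
      rw [hc l hl.2.1 hl.2.2]
  rw [Pattern.G, gap_const_mul, gap_const_mul, hev, hod, hevs (fun t => t ^ 2), hevs (fun t => t),
    Finset.sum_congr rfl fun l hl => by rw [hodc l hl], Finset.sum_congr rfl fun l hl => hodc l hl,
    Finset.sum_const, Finset.sum_const, nsmul_eq_mul, nsmul_eq_mul, hod]
  ring

/-- The invariants in the dihedral case. -/
theorem dihedral_invariants (hM : IsPModular 2 M) (hmax : IsMaximalBrauerPair 2 M B D e)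
    (S : Shape D q) (hS : S.IsDih) :
    Nat.card B = q + 3 ∧ 1 ≤ blockRank 2 B ∧ blockRank 2 B ≤ 3 ∧
      Nat.card {χ : IrrCharacter G // χ ∈ B ∧ blockHeight 2 B (χ : G → ℂ) = 0} = 4 ∧
      ∀ χ ∈ B, blockHeight 2 B (χ : G → ℂ) ≤ 1 := by
  classical
  have := S.neZero
  have : Fintype ↥B := Fintype.ofFinite _
  obtain ⟨b, f, hloc, hnil⟩ := exists_localPair_z hM hmax S hS
  obtain ⟨χ₀, hχ₀, h₀⟩ := exists_blockHeight_eq_zero hM hloc.isPBlock
  obtain ⟨Ψ, hΨ⟩ := exists_nilImage hM hloc.max hnil hχ₀ h₀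
  obtain ⟨n, hd⟩ := rotData_z_of_local hM hmax hloc hΨ hnil hχ₀ h₀
  obtain ⟨T, hTq, hTh, hTl, hTlz, -, hTZ, hTG, hTa, hTo⟩ := exists_table hd hM hmax
  have hlz : T.lz = 1 := by
    rw [hTlz, (existsUnique_subpair hM hmax.1.1 (Subgroup.zpowers_le.mpr S.z_mem)).unique
      (bk_subpair hM hmax.1.1 S.z_mem) hloc.le]
    exact (blockRank_eq_one_of_nilpotent hM hnil).1
  have hl : 1 ≤ T.l := hTl ▸ blockRank_pos (IsPBlock.nonempty hmax.1.2.1) (by norm_num)
  have hranks := T.card_eq_ranks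
  rw [hlz] at hranks
  have hB : Nat.card B = Fintype.card ↥B := Nat.card_eq_fintype_card
  have hzero : Nat.card {χ : IrrCharacter G // χ ∈ B ∧ blockHeight 2 B (χ : G → ℂ) = 0} = 4 := by
    rw [← T.card_Z0.1, ← Fintype.card_coe, ← Nat.card_eq_fintype_card]
    refine Nat.card_congr ((Equiv.subtypeSubtypeEquivSubtypeInter (fun χ : IrrCharacter G => χ ∈ B)
      fun χ => blockHeight 2 B (χ : G → ℂ) = 0).symm.trans (Equiv.subtypeEquivRight fun χ => ?_))
    rw [T.mem_Z0, hTh]
  have hfin : Fintype.card ↥B = q + 3 → (∀ x, T.h x ≤ 1) →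
      Nat.card B = q + 3 ∧ 1 ≤ blockRank 2 B ∧ blockRank 2 B ≤ 3 ∧
        Nat.card {χ : IrrCharacter G // χ ∈ B ∧ blockHeight 2 B (χ : G → ℂ) = 0} = 4 ∧
        ∀ χ ∈ B, blockHeight 2 B (χ : G → ℂ) ≤ 1 := by
    intro hk hh
    refine ⟨hB.trans hk, hTl ▸ hl, ?_, hzero, fun χ hχ => ?_⟩
    · rw [← hTl]
      rw [hk, hTq] at hranks
      omega
    · have := hh ⟨χ, hχ⟩
      rwa [hTh] at this
  by_cases hq : q = 2
  · obtain ⟨hk, hh⟩ := T.card_eq_five (hTq.trans hq) hlz
    exact hfin (by rw [hk, hq]) hh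
  obtain ⟨k, hk⟩ := S.two
  have h4 : 4 ≤ q := by
    rcases k with _ | k
    · exact absurd hk hq
    · rw [hk]
      calc (4 : ℕ) = 2 ^ 2 := rfl
        _ ≤ _ := Nat.pow_le_pow_right (by norm_num) (by omega)
  -- every member of height zero has constant free coefficients
  have hgood : T.bad = ∅ := by
    by_contra hne
    obtain ⟨x, hx⟩ := Finset.nonempty_iff_ne_empty.mpr hne
    obtain ⟨-, hZ1, ho, hG, -, h16⟩ := T.bad_eq hx
    have hx0 : T.h x = 0 := T.mem_Z0.mp (Finset.mem_filter.mp hx).1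
    have ho' : outerReps M e S = ∅ := Finset.card_eq_zero.mp (hTo ▸ ho)
    have hxi : S.xi ≠ 0 ∧ S.xi ≠ (q : ZMod (2 * q)) := ⟨S.xi_ne_zero, S.xi_ne_half⟩
    have hpxi : Shape.par S.xi = 0 := by
      rw [Shape.par, Shape.xi, map_natCast, ZMod.natCast_eq_zero_iff, hk, pow_succ,
        Nat.mul_div_cancel _ two_pos]
      rcases k with _ | k
      · exact absurd hk hq
      · exact ⟨2 ^ k, pow_succ' 2 k⟩
    have hone : (1 : ZMod (2 * q)) ≠ 0 ∧ (1 : ZMod (2 * q)) ≠ (q : ZMod (2 * q)) := by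
      have h1 : ¬ Shape.par (1 : ZMod (2 * q)) = 0 := by rw [Shape.par, map_one]; decide
      exact ⟨fun e => h1 (by rw [e]; exact map_zero _), fun e => h1 (by rw [e]; exact S.par_half)⟩
    have hp1 : ¬ Shape.par (1 : ZMod (2 * q)) = 0 := by rw [Shape.par, map_one]; decide
    have hcross : ∀ i j : ZMod (2 * q), i ≠ 0 ∧ i ≠ (q : ZMod (2 * q)) →
        j ≠ 0 ∧ j ≠ (q : ZMod (2 * q)) → Shape.par i = 0 → ¬ Shape.par j = 0 → n x i = n x j := by
      intro i j hi hj hpi hpj
      by_contra hne'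
      have h := cross_diff hM hmax hloc hΨ hnil hχ₀ h₀ ho' hd hi hj hpi hpj x hne'
      have hp := pm_rot_eq hM hmax hloc hΨ hnil hχ₀ h₀ S.half_ne_zero
        (irr_classFunction (x : IrrCharacter G)) (irr_classFunction (x : IrrCharacter G))
      rw [h, show D ⊓ cz (S.r (q : ZMod (2 * q))) = D from
        inf_eq_left.mpr fun d hd' => mem_cz_iff.mpr (S.z_commute hd'), S.card_eq] at hp
      have hz := hTZ x x
      rw [hZ1, show pt M D e S.z = pt M D e (S.r (q : ZMod (2 * q))) from rfl, hp] at hz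
      have hq0 : (q : ℂ) ≠ 0 := Nat.cast_ne_zero.mpr (NeZero.ne q)
      push_cast at hz
      field_simp at hz
      norm_num at hz
    have hconst : ∀ l : ZMod (2 * q), l ≠ 0 → l ≠ (q : ZMod (2 * q)) → n x l = n x S.xi := by
      intro l hl0 hlh
      by_cases hpl : Shape.par l = 0
      · rw [hcross l 1 ⟨hl0, hlh⟩ hone hpl hp1, hcross S.xi 1 hxi hone hpxi hp1]
      · exact (hcross S.xi l hxi ⟨hl0, hlh⟩ hpxi hpl).symm
    rw [hTG, pattern_G_of_const S hconst, hTq] at hG
    have ha := T.card_Z0.2.1 x hx0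
    rw [hTa] at ha
    set A := n x 0 - n x S.xi with hA
    set B' := n x (q : ZMod (2 * q)) - n x S.xi with hB'
    have hAB : (A - B') ^ 2 = 1 := by
      rcases ha with h | h <;> rw [Pattern.a] at h <;>
        simp only [pattern] at h <;> rw [show A - B' = n x 0 - n x (q : ZMod (2 * q)) by ring, h] <;>
        norm_num
    have hprod : 2 * (A * B') * ((q : ℤ) - 2) = q := by
      have h2P : 2 * (2 * (A * B') * ((q : ℤ) - 2)) = 2 * (q : ℤ) := by
        linear_combination hG - 2 * (q - 1 : ℤ) * hAB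
      exact mul_left_cancel₀ two_ne_zero h2P
    have hq4 : (4 : ℤ) ≤ q := by exact_mod_cast h4
    have h1 : 1 ≤ A * B' := by nlinarith
    have h2 : A * B' ≤ 1 := by nlinarith
    have h3 : A * B' = 1 := le_antisymm h2 h1
    rcases Int.mul_eq_one_iff_eq_one_or_neg_one.mp h3 with ⟨e1, e2⟩ | ⟨e1, e2⟩ <;>
      rw [e1, e2] at hAB <;> norm_num at hAB
  have hF : T.Fs = ∅ := T.Fs_eq_empty hgood (hTq ▸ h4) hlz
  have hE := (T.card_Es hgood).1 (hTq ▸ h4)
  have hk' := T.card_eq
  rw [hF, Finset.card_empty, hE, hTq] at hk'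
  refine hfin (by omega) fun y => ?_
  by_cases hy : T.h y = 0
  · omega
  · by_cases hyG : T.G y = 0
    · exact absurd (show y ∈ T.Fs from Finset.mem_filter.mpr ⟨Finset.mem_univ _, hy, hyG⟩)
        (by rw [hF]; exact Finset.notMem_empty y)
    · exact ((T.Es_eq (Finset.mem_filter.mpr ⟨Finset.mem_univ _, hy, hyG⟩ : y ∈ T.Es)).2.2.2.1).le

end CfsgLib.Blocks.TameTwo
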