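import Cfsg.Agent.Lib.Blocks.TameTwo.RotData
import Cfsg.Agent.Lib.Blocks.TameTwo.Fusion
import Cfsg.Agent.Lib.Char.Artin

/-!
# The classes outside the rotations

A pair on an element outside the rotations which is not conjugate to one on a rotation has a
nilpotent local block with a defect group of order four; its projection is that of a function with
values in the Gaussian integers.
-/

set_option autoImplicit false
set_option linter.unusedSectionVars false

namespace CfsgLib.Blocks.TameTwo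

open Cfsg
open scoped ComplexConjugate CfsgLib.Char

namespace Shape

variable {G : Type*} [Group G] [Finite G] {D : Subgroup G} {q : ℕ} (S : Shape D q)

/-- The square of an element outside the rotations is `1` or `z`. -/
theorem outer_sq_cases (i : ZMod (2 * q)) :
    S.r i * S.y * (S.r i * S.y) = 1 ∨ S.r i * S.y * (S.r i * S.y) = S.z := by
  rw [S.outer_sq]
  have h : S.s * ((1 + S.s) * i + S.c) = (1 + S.s) * i + S.c := by
    refine S.outer_commute_r (i := i).mp ?_
    rw [← S.outer_sq, ← mul_assoc]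
  rcases S.s_fix h with h | h <;> rw [h]
  exacts [Or.inl S.r_zero, Or.inr rfl]

theorem z_mul_outer (i : ZMod (2 * q)) :
    S.z * (S.r i * S.y) = S.r ((q : ZMod (2 * q)) + i) * S.y := by
  rw [z, ← mul_assoc, ← S.r_add]

/-- The centralizer of an element outside the rotations has order four. -/
theorem card_cent_outer (i : ZMod (2 * q)) :
    Nat.card ↥(D ⊓ Subgroup.centralizer ({S.r i * S.y} : Set G)) = 4 := by
  have hset : ((D ⊓ Subgroup.centralizer ({S.r i * S.y} : Set G) : Subgroup G) : Set G) =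
      {1, S.z, S.r i * S.y, S.z * (S.r i * S.y)} := by
    ext d
    simp only [Subgroup.coe_inf, Set.mem_inter_iff, SetLike.mem_coe,
      Subgroup.mem_centralizer_singleton_iff, Set.mem_insert_iff, Set.mem_singleton_iff]
    exact S.cent_outer i d
  have h1 : (1 : G) ≠ S.z := fun h => S.z_ne_one h.symm
  have h2 : ∀ j l, S.r l ≠ S.r j * S.y := fun j l h => S.outer_ne j l h.symm
  have h3 : S.r i * S.y ≠ S.z * (S.r i * S.y) := fun h => S.z_ne_one (right_eq_mul.mp h)
  rw [← SetLike.coe_sort_coe, Nat.card_coe_set_eq, hset,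
    Set.ncard_insert_of_notMem (by
      simp only [Set.mem_insert_iff, Set.mem_singleton_iff, S.z_mul_outer, not_or]
      exact ⟨h1, by rw [← S.r_zero]; exact h2 _ _, by rw [← S.r_zero]; exact h2 _ _⟩),
    Set.ncard_insert_of_notMem (by
      simp only [Set.mem_insert_iff, Set.mem_singleton_iff, S.z_mul_outer, not_or]
      exact ⟨h2 _ _, h2 _ _⟩),
    Set.ncard_pair h3]

/-- An element of odd order fixing an element outside the rotations. -/
theorem fix_of_outer {T : Subgroup G} (hTD : T ≤ D) {i : ZMod (2 * q)} (hu : S.r i * S.y ∈ T)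
    (hcomm : ∀ z ∈ T, z * (S.r i * S.y) = S.r i * S.y * z) {x : G} (hx : Odd (orderOf x))
    (hnorm : x ∈ Subgroup.normalizer (T : Set G)) (hxu : x * (S.r i * S.y) = S.r i * S.y * x) :
    ∀ z ∈ T, x * z = z * x := by
  set u := S.r i * S.y with hudef
  have hT : ∀ d ∈ T, d = 1 ∨ d = S.z ∨ d = u ∨ d = S.z * u := fun d hd =>
    (S.cent_outer i d).mp ⟨hTD hd, hcomm d hd⟩
  rcases S.outer_sq_cases i with hsq | hsq
  · have hzu : u * S.z = S.z * u := S.z_commute (hTD hu)
    have hz2 := S.z_sq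
    have hinv : u⁻¹ = u := inv_eq_of_mul_eq_one_left hsq
    have hzinv : S.z⁻¹ = S.z := inv_eq_of_mul_eq_one_left hz2
    refine commute_of_fix_index_two (C := Subgroup.zpowers u) (Subgroup.zpowers_le.mpr hu)
      (fun t ht => S.exists_pow_orderOf (hTD ht)) ?_ hx hnorm fun z hz => ?_
    · intro t ht htC t' ht' htC'
      have hout : ∀ d ∈ T, d ∉ Subgroup.zpowers u → d = S.z ∨ d = S.z * u := by
        intro d hd hn
        rcases hT d hd with h | h | h | h
        · exact absurd (h ▸ one_mem _) hn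
        · exact Or.inl h
        · exact absurd (h ▸ Subgroup.mem_zpowers u) hn
        · exact Or.inr h
      rcases hout t ht htC with h | h <;> rcases hout t' ht' htC' with h' | h' <;> rw [h, h']
      · rw [inv_mul_cancel]; exact one_mem _
      · rw [inv_mul_cancel_left]; exact Subgroup.mem_zpowers u
      · rw [mul_inv_rev, hinv, hzinv, mul_assoc, hz2, mul_one]; exact Subgroup.mem_zpowers u
      · rw [inv_mul_cancel]; exact one_mem _
    · obtain ⟨k, rfl⟩ := Subgroup.mem_zpowers_iff.mp hz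
      exact (Commute.zpow_right hxu k).eq
  · refine Shape.fix_of_cyclic hTD (c := u) (fun z hz => ?_) hx hnorm S
    have hzm : S.z ∈ Subgroup.zpowers u := hsq ▸ mul_mem (Subgroup.mem_zpowers u) (Subgroup.mem_zpowers u)
    rcases hT z hz with rfl | rfl | rfl | rfl
    exacts [one_mem _, hzm, Subgroup.mem_zpowers _, mul_mem hzm (Subgroup.mem_zpowers _)]

end Shape

/-- A fourth root of unity is a Gaussian integer of odd norm. -/
theorem exists_gauss_of_pow_four {x : ℂ} (h : x ^ 4 = 1) :
    ∃ a b : ℤ, x = a + b * Complex.I ∧ Odd (a + b) := by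
  have hI : Complex.I * Complex.I = -1 := Complex.I_mul_I
  have h' : (x - 1) * (x + 1) * ((x - Complex.I) * (x + Complex.I)) = 0 := by
    linear_combination h - (x ^ 2 - 1) * hI
  simp only [mul_eq_zero, sub_eq_zero, add_eq_zero_iff_eq_neg] at h'
  rcases h' with (h | h) | (h | h)
  · exact ⟨1, 0, by simp [h], by norm_num⟩
  · exact ⟨-1, 0, by simp [h], by norm_num⟩
  · exact ⟨0, 1, by simp [h], by norm_num⟩
  · exact ⟨0, -1, by simp [h], by norm_num⟩

variable {M : Ideal AlgInt} [M.IsPrime] {G : Type*} [Group G] [Fintype G] {D : Subgroup G}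
  {e : Set (IrrCharacter (Subgroup.centralizer (D : Set G)))} {B : Set (IrrCharacter G)} {q : ℕ}

/-- The projection at a pair outside the rotations. -/
theorem exists_outer_data (hM : IsPModular 2 M) (hmax : IsMaximalBrauerPair 2 M B D e)
    (S : Shape D q) (i : ZMod (2 * q))
    (hsep : ∀ j, ¬ PtConj (S.r i * S.y, topPair 2 M D e (S.r i * S.y))
      (S.r j, topPair 2 M D e (S.r j))) :
    ∃ Φ : ↥B → ℂ,
      (∀ χ ψ : ↥B, pm 2 M (S.r i * S.y, topPair 2 M D e (S.r i * S.y)) (χ : IrrCharacter G)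
        (ψ : IrrCharacter G) = Φ χ * conj (Φ ψ) / 4) ∧
      ∀ χ : ↥B, ∃ k : ℕ, Φ χ * conj (Φ χ) = k ∧
        (blockHeight 2 B ((χ : IrrCharacter G) : G → ℂ) = 0 → 1 ≤ k) := by
  classical
  set u := S.r i * S.y with hu'
  have hu : u ∈ D := S.outer_mem i
  have : Fintype (cz u) := Fintype.ofFinite _
  have : Fintype ↥(locA D u) := Fintype.ofFinite _
  have hout : ∀ u' ∈ D, PtConj (u, topPair 2 M D e u) (u', topPair 2 M D e u') →
      ∃ j, u' = S.r j * S.y := by
    intro u' hu'D hc
    obtain ⟨j, rfl | rfl⟩ := S.cover u' hu'D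
    · exact absurd hc (hsep j)
    · exact ⟨j, rfl⟩
  obtain ⟨b, f, hloc⟩ := exists_localPair_of_pairs hM hmax hu fun u' hu'D hc => by
    obtain ⟨j, rfl⟩ := hout u' hu'D hc
    rw [cz_eq, cz_eq, S.card_cent_outer, S.card_cent_outer]
  have hnil : IsNilpotentBlock 2 M b := isNilpotentBlock_local_of_pairs hM hmax hloc.le
    fun u' hu'D hc T hT huT hcomm w hw hn hwu => by
      obtain ⟨j, rfl⟩ := hout u' hu'D hc
      exact S.fix_of_outer hT huT hcomm
        (Nat.not_even_iff_odd.mp fun he => hw he.two_dvd) hn hwu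
  obtain ⟨χ₀, hχ₀, h₀⟩ := exists_blockHeight_eq_zero hM hloc.isPBlock
  obtain ⟨Ψ, hΨ⟩ := exists_nilImage hM hloc.max hnil hχ₀ h₀
  set w : ↥(locA D u) := ⟨⟨u, mem_cz_iff.mpr rfl⟩, hu⟩ with hw
  have hw4 : w ^ 4 = 1 := by
    refine Subtype.ext (Subtype.ext ?_)
    simp only [Subgroup.coe_pow, Subgroup.coe_one]
    show u ^ 4 = 1
    rw [show (4 : ℕ) = 2 * 2 from rfl, pow_mul, sq, sq]
    rcases S.outer_sq_cases i with h | h <;> rw [hu', h]
    exacts [mul_one 1, S.z_sq]
  have hab : ∀ a a' : ↥(locA D u), a * a' = a' * a := by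
    intro a a'
    have hc := mem_cz_iff.mp (a' : cz u).2
    have hz : ((a' : cz u) : G) * S.z = S.z * ((a' : cz u) : G) := S.z_commute a'.2
    have ha := (S.cent_outer i ((a : cz u) : G)).mp ⟨a.2, mem_cz_iff.mp (a : cz u).2⟩
    refine Subtype.ext (Subtype.ext ?_)
    show ((a : cz u) : G) * ((a' : cz u) : G) = ((a' : cz u) : G) * ((a : cz u) : G)
    rcases ha with h | h | h | h <;> rw [h]
    · rw [one_mul, mul_one]
    · exact hz.symm
    · exact hc.symm
    · exact (Commute.mul_left (show Commute S.z _ from hz.symm) hc.symm).eq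
  refine ⟨fun χ => Phi Ψ ((χ : IrrCharacter G) : G → ℂ) w, fun χ ψ => ?_, fun χ => ?_⟩
  · refine (pm_topPair hM hloc hΨ hmax hnil hχ₀ h₀ (w := w) le_rfl
      (irr_classFunction (χ : IrrCharacter G)) (irr_classFunction (ψ : IrrCharacter G))).trans ?_
    show _ / (Nat.card ↥(D ⊓ cz u) : ℂ) = _
    rw [cz_eq, show Nat.card ↥(D ⊓ Subgroup.centralizer ({u} : Set G)) = 4 from S.card_cent_outer i]
    norm_num
  choose m hm using fun θ : IrrCharacter ↥(locA D u) => Char.exists_int_classInner
    (Char.isGeneralized_of_isCharacter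
      (Char.isCharacter_restrict (cz u) (Char.isCharacter_of_isIrr (χ : IrrCharacter G).2)))
    (Char.isGeneralized_of_isIrr (Ψ θ).2)
  have hone : ∀ θ : IrrCharacter ↥(locA D u), (θ : ↥(locA D u) → ℂ) 1 = 1 :=
    Char.degree_one_of_comm hab
  choose a b' hab' hodd using fun θ : IrrCharacter ↥(locA D u) =>
    exists_gauss_of_pow_four (x := (θ : ↥(locA D u) → ℂ) w) (by
      have h := congrArg (fun z : ℂˣ => (z : ℂ))
        (map_pow (Char.linearHom (Char.isCharacter_of_isIrr θ.2) (hone θ)) w 4)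
      rw [hw4, map_one] at h
      exact h.symm)
  set A := ∑ θ, m θ * a θ
  set B' := ∑ θ, m θ * b' θ
  have hΦ : Phi Ψ ((χ : IrrCharacter G) : G → ℂ) w = (A : ℂ) + (B' : ℂ) * Complex.I := by
    simp only [A, B', Phi, Int.cast_sum, Int.cast_mul, Finset.sum_mul, ← Finset.sum_add_distrib]
    refine Finset.sum_congr rfl fun θ _ => ?_
    rw [hab' θ, hm θ]
    ring
  refine ⟨(A ^ 2 + B' ^ 2).toNat, ?_, fun hχ => ?_⟩
  · dsimp only
    rw [hΦ, map_add, map_mul, map_intCast, map_intCast, Complex.conj_I,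
      show (((A ^ 2 + B' ^ 2).toNat : ℕ) : ℂ) = (((A ^ 2 + B' ^ 2).toNat : ℤ) : ℂ) from
        (Int.cast_natCast _).symm,
      Int.toNat_of_nonneg (by positivity)]
    push_cast
    linear_combination (-((B' : ℂ)) ^ 2) * Complex.I_mul_I
  obtain ⟨s, hs, hunit⟩ := exists_res_unit_cz hM χ.2 hχ (exists_pow_orderOf_mem hM hmax.1.1.1 ⟨u, hu⟩)
    ((SubpairLE.isBrauerPairOf_iff hM hloc.le hmax.1.2.1).mp hmax.1)
  rw [blockPart_res_regular hM hloc hΨ ((χ : IrrCharacter G) : G → ℂ) hs] at hunit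
  have h1 : Phi Ψ ((χ : IrrCharacter G) : G → ℂ) 1 = ((∑ θ, m θ : ℤ) : ℂ) := by
    rw [Phi, Int.cast_sum]
    exact Finset.sum_congr rfl fun θ _ => by rw [hm θ, hone θ, mul_one]
  rw [h1] at hunit
  have hS : Odd (∑ θ, m θ) := by
    rw [← Int.not_even_iff_odd, even_iff_two_dvd]
    exact fun h2 => hunit (memLocalIdeal_mul_right ((memLocalIdeal_intCast_iff hM).mpr h2)
      (memLocalRing_of_isIntegral (irr_isIntegral χ₀.2 s)))
  have hAB : Odd (A + B') := by
    rw [← ZMod.intCast_eq_one_iff_odd] at hS ⊢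
    rw [← hS]
    simp only [A, B', ← Finset.sum_add_distrib, ← mul_add, Int.cast_sum, Int.cast_mul]
    exact Finset.sum_congr rfl fun θ _ => by
      rw [(ZMod.intCast_eq_one_iff_odd).mpr (hodd θ), mul_one]
  have hpos : 0 < A ^ 2 + B' ^ 2 := by
    by_contra h0
    have hA : A ^ 2 = 0 := by nlinarith [sq_nonneg A, sq_nonneg B']
    have hB : B' ^ 2 = 0 := by nlinarith [sq_nonneg A, sq_nonneg B']
    rw [sq_eq_zero_iff] at hA hB
    rw [hA, hB] at hAB
    exact absurd hAB (by decide)
  omega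

end CfsgLib.Blocks.TameTwo
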