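import Cfsg.Agent.Lib.Blocks.TameTwo.Classes
import Cfsg.Agent.Lib.Blocks.TameTwo.Outer
import Cfsg.Agent.Lib.Blocks.TameTwo.Bases
import Cfsg.Agent.Lib.Blocks.TameTwo.Contributions
import Cfsg.Agent.Lib.Blocks.TameTwo.Arith
import Cfsg.Agent.Lib.Blocks.Watanabe.Transport

/-!
# The numbers of the block

The orthogonality of the projections turns the functions on the rotations and the contributions at
`1`, `z` and the other classes into the data of a table.
-/

set_option autoImplicit false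
set_option linter.unusedSectionVars false

namespace CfsgLib.Blocks.TameTwo

open Cfsg CfsgLib.Blocks.FreeQuot
open scoped ComplexConjugate CfsgLib.Char

variable {M : Ideal AlgInt} [M.IsPrime] {G : Type*} [Group G] [Fintype G] {D : Subgroup G}
  {e : Set (IrrCharacter (Subgroup.centralizer (D : Set G)))} {B : Set (IrrCharacter G)} {q : ℕ}

theorem Shape.card_eq (S : Shape D q) : Nat.card D = 4 * q := by
  have := S.neZero
  let g : ZMod (2 * q) ⊕ ZMod (2 * q) → D := Sum.elim (fun j => ⟨S.r j, S.r_mem j⟩)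
    fun j => ⟨S.r j * S.y, S.outer_mem j⟩
  have hg : Function.Bijective g := by
    constructor
    · rintro (i | i) (j | j) h <;> simp only [g, Sum.elim_inl, Sum.elim_inr, Subtype.mk.injEq] at h
      · rw [S.r_inj h]
      · exact absurd h.symm (S.outer_ne j i)
      · exact absurd h (S.outer_ne i j)
      · rw [S.outer_inj h]
    · rintro ⟨d, hd⟩
      obtain ⟨j, rfl | rfl⟩ := S.cover d hd
      exacts [⟨Sum.inl j, rfl⟩, ⟨Sum.inr j, rfl⟩]
  rw [← Nat.card_eq_of_bijective g hg, Nat.card_sum, Nat.card_zmod]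
  omega

theorem pt_eq_bk (hM : IsPModular 2 M) (hmax : IsMaximalBrauerPair 2 M B D e) {v : G} (hv : v ∈ D) :
    pt M D e v = (v, ⟨Subgroup.zpowers v, bk 2 M D e v⟩) :=
  Prod.ext rfl (eq_topPair hM hmax.1.1 (a := ⟨Subgroup.zpowers v, bk 2 M D e v⟩) hv rfl
    (bk_le hM hmax.1.1 hv)).symm

section Gram

variable [Fintype ↥B]

/-- A projection of the shape `F F* / c` has trace one and `∑ |F|² = c`. -/
theorem gram_rank_one (hM : IsPModular 2 M) (hB : IsPBlock M B) {i : G × BrauerPairIdx G}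
    (h : IsBPt 2 M B i) (F : ↥B → ℂ) {c : ℂ} (hc : c ≠ 0)
    (hF : ∀ χ ψ : ↥B, pm 2 M i (χ : IrrCharacter G) (ψ : IrrCharacter G) = F χ * conj (F ψ) / c) :
    ∑ φ, F φ * conj (F φ) = c ∧ ∃ φ, F φ ≠ 0 := by
  obtain ⟨χ, hχ⟩ : ∃ φ, F φ ≠ 0 := by
    by_contra hall
    push Not at hall
    obtain ⟨v, a⟩ := i
    obtain ⟨b, hb, hblock, hpair⟩ := h.exists_eq
    dsimp only at b hb hblock hpair
    have ht := sum_pm_diag (B := B) hM hB h.1 hpair
    rw [← hb, Finset.sum_eq_zero fun φ _ => by rw [hF, hall φ, zero_mul, zero_div], eq_comm,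
      Nat.cast_eq_zero] at ht
    let : Fintype (cz v) := Fintype.ofFinite _
    exact absurd ht (blockRank_pos (p := 2) (IsPBlock.nonempty hblock) (by norm_num)).ne'
  refine ⟨?_, χ, hχ⟩
  have h' := sum_row_sq hM hB h χ
  simp only [hF] at h'
  rw [Finset.sum_congr rfl (g := fun φ => F χ * conj (F χ) / (c * c) * (F φ * conj (F φ)))
    fun φ _ => by ring, ← Finset.mul_sum] at h'
  have hn : F χ * conj (F χ) ≠ 0 := mul_ne_zero hχ ((map_ne_zero _).mpr hχ)
  field_simp at h'
  exact mul_left_cancel₀ hn (by linear_combination (F χ) * h')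

/-- Projections of the shape `F F* / c` at different representatives are orthogonal. -/
theorem gram_orth {ι : Type*} [Fintype ι] {R : ι → G × BrauerPairIdx G} (hM : IsPModular 2 M)
    (hB : IsPBlock M B) (hR : IsReps 2 M B R) {i j : ι} (hij : i ≠ j) (F F' : ↥B → ℂ) {c c' : ℂ}
    (hc : c ≠ 0) (hc' : c' ≠ 0)
    (hF : ∀ χ ψ : ↥B, pm 2 M (R i) (χ : IrrCharacter G) (ψ : IrrCharacter G) = F χ * conj (F ψ) / c)
    (hF' : ∀ χ ψ : ↥B,
      pm 2 M (R j) (χ : IrrCharacter G) (ψ : IrrCharacter G) = F' χ * conj (F' ψ) / c') :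
    ∑ φ, F' φ * conj (F φ) = 0 := by
  classical
  obtain ⟨χ, hχ⟩ := (gram_rank_one hM hB (hR.mem i) F hc hF).2
  obtain ⟨ψ, hψ⟩ := (gram_rank_one hM hB (hR.mem j) F' hc' hF').2
  have h := pm_mul hM hB hR i j χ ψ
  rw [if_neg hij] at h
  simp only [hF, hF'] at h
  rw [Finset.sum_congr rfl (g := fun φ => F χ * conj (F' ψ) / (c * c') * (F' φ * conj (F φ)))
    fun φ _ => by ring, ← Finset.mul_sum] at h
  exact (mul_eq_zero.mp h).resolve_left
    (div_ne_zero (mul_ne_zero hχ ((map_ne_zero _).mpr hψ)) (mul_ne_zero hc hc'))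

end Gram

variable [NeZero q] [Fintype ↥B] {S : Shape D q} {F : ↥B → ZMod (2 * q) → ℂ}
  {n : ↥B → ZMod (2 * q) → ℤ}

theorem RotData.apply_symm (hd : RotData M e B S F n) (χ : ↥B) (r : ZMod (2 * q)) :
    F χ (S.s * r) = F χ r := by
  have h2 : ∀ l : ZMod (2 * q), S.s * (S.s * l) = l := fun l => by rw [← mul_assoc, S.s_sq, one_mul]
  rw [hd.expand, hd.expand]
  refine Fintype.sum_equiv ⟨(S.s * ·), (S.s * ·), h2, h2⟩ _ _ fun j => ?_
  show _ = (n χ (S.s * j) : ℂ) * zeta (S.s * j * r)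
  rw [hd.symm, mul_left_comm, mul_assoc]

theorem RotData.sum_mul (hd : RotData M e B S F n) (hM : IsPModular 2 M)
    (hmax : IsMaximalBrauerPair 2 M B D e) {r r' : ZMod (2 * q)} (h0 : r ≠ 0)
    (hh : r ≠ (q : ZMod (2 * q))) (h0' : r' ≠ 0) (hh' : r' ≠ (q : ZMod (2 * q))) :
    ∑ φ, F φ r' * conj (F φ r) = if r' = r ∨ r' = S.s * r then ((2 * q : ℕ) : ℂ) else 0 := by
  have hc : ((2 * q : ℕ) : ℂ) ≠ 0 := Nat.cast_ne_zero.mpr (NeZero.ne _)
  have h1 := (gram_rank_one hM hmax.1.2.1 (isBPt_pt hM hmax (S.r_mem r)) (fun φ => F φ r) hc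
    (hd.proj r h0 hh)).1
  split_ifs with h
  · rcases h with rfl | rfl
    · exact h1
    · simp only [hd.apply_symm]
      exact h1
  · obtain ⟨k, hk, hkr⟩ := S.exists_rotK r
    obtain ⟨k', hk', hkr'⟩ := S.exists_rotK r'
    have hne : k ≠ k' := by
      rintro rfl
      rcases hkr with rfl | rfl <;> rcases hkr' with e1 | e1
      · exact h (Or.inl e1.symm)
      · exact h (Or.inr (by rw [e1, ← mul_assoc, S.s_sq, one_mul]))
      · exact h (Or.inr e1.symm)
      · exact h (Or.inl (by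
          have := congrArg (S.s * ·) e1
          simp only [← mul_assoc, S.s_sq, one_mul] at this
          exact this.symm))
    have key : ∀ {a b : ZMod (2 * q)}, a ≠ 0 → a ≠ (q : ZMod (2 * q)) → (b = a ∨ b = S.s * a) →
        (∀ φ, F φ b = F φ a) ∧ b ≠ 0 ∧ b ≠ (q : ZMod (2 * q)) := by
      rintro a b ha ha' (rfl | rfl)
      · exact ⟨fun φ => rfl, ha, ha'⟩
      refine ⟨fun φ => hd.apply_symm φ a, fun e1 => ha ?_, fun e1 => ha' ?_⟩
      · have := congrArg (S.s * ·) e1
        simpa only [← mul_assoc, S.s_sq, one_mul, mul_zero] using this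
      · have := congrArg (S.s * ·) e1
        simpa only [← mul_assoc, S.s_sq, one_mul, S.s_mul_half] using this
    obtain ⟨e1, k0, kh⟩ := key h0 hh hkr
    obtain ⟨e2, k0', kh'⟩ := key h0' hh' hkr'
    have := gram_orth hM hmax.1.2.1 (isReps_repsFun hM hmax S) (i := Sum.inl ⟨k, hk⟩)
      (j := Sum.inl ⟨k', hk'⟩) (fun e => hne (congrArg Subtype.val (Sum.inl.inj e)))
      (fun φ => F φ k) (fun φ => F φ k') hc hc (hd.proj k k0 kh) (hd.proj k' k0' kh')
    simpa only [e1, e2] using this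

theorem RotData.sum_sq_diff (hd : RotData M e B S F n) (hM : IsPModular 2 M)
    (hmax : IsMaximalBrauerPair 2 M B D e) :
    ∑ χ, (pattern S).a (n χ) ^ 2 = 4 := by
  classical
  set O := Finset.univ.filter fun x : ZMod (2 * q) => ¬ Shape.par x = 0 with hO
  have hcard : O.card = q := (pattern S).card_eq.trans (pattern_q S)
  have hne : ∀ x ∈ O, x ≠ 0 ∧ x ≠ (q : ZMod (2 * q)) := fun x hx =>
    ⟨fun h => (Finset.mem_filter.mp hx).2 (by rw [h]; exact map_zero _),
      fun h => (Finset.mem_filter.mp hx).2 (by rw [h]; exact S.par_half)⟩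
  have h : (q : ℂ) ^ 2 * ((∑ χ, (pattern S).a (n χ) ^ 2 : ℤ) : ℂ) = (q : ℂ) ^ 2 * 4 := by
    push_cast
    rw [Finset.mul_sum]
    calc ∑ χ, (q : ℂ) ^ 2 * ((pattern S).a (n χ) : ℂ) ^ 2
        = ∑ χ, (∑ x ∈ O, F χ x) * conj (∑ x ∈ O, F χ x) := Finset.sum_congr rfl fun χ _ => by
          rw [hO, ← coeff_diff (hd.expand χ), map_mul, map_sub, map_natCast, map_intCast,
            map_intCast, Pattern.a]
          push_cast
          show (q : ℂ) ^ 2 * ((n χ 0 : ℂ) - (n χ (q : ZMod (2 * q)) : ℂ)) ^ 2 = _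
          ring
      _ = ∑ x ∈ O, ∑ x' ∈ O, ∑ χ, F χ x * conj (F χ x') := by
          simp only [map_sum, Finset.sum_mul_sum]
          rw [Finset.sum_comm]
          exact Finset.sum_congr rfl fun x _ => Finset.sum_comm
      _ = ∑ x ∈ O, ((2 * q : ℕ) : ℂ) * 2 := Finset.sum_congr rfl fun x hx => by
          have hsx : S.s * x ∈ O := (pattern S).inv_od x hx
          have hxne : x ≠ S.s * x := fun e => ((pattern S).fix_od x hx) e.symm
          rw [Finset.sum_congr rfl (g := fun x' => if x' = x ∨ x' = S.s * x then ((2 * q : ℕ) : ℂ) else 0)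
            fun x' hx' => ?_, ← Finset.sum_filter,
            show O.filter (fun x' => x' = x ∨ x' = S.s * x) = {x, S.s * x} from ?_,
            Finset.sum_pair hxne]
          · ring
          · ext x'
            simp only [Finset.mem_filter, Finset.mem_insert, Finset.mem_singleton]
            exact ⟨fun h => h.2, fun h => ⟨by rcases h with rfl | rfl <;> assumption, h⟩⟩
          · rw [hd.sum_mul hM hmax (hne x' hx').1 (hne x' hx').2 (hne x hx).1 (hne x hx).2]
            refine if_congr ⟨?_, ?_⟩ rfl rfl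
            all_goals rintro (rfl | rfl)
            all_goals first | exact Or.inl rfl | exact Or.inr (by rw [← mul_assoc, S.s_sq, one_mul])
      _ = _ := by
          rw [Finset.sum_const, hcard, nsmul_eq_mul]
          push_cast
          ring
  exact_mod_cast mul_left_cancel₀ (pow_ne_zero 2 (Nat.cast_ne_zero.mpr (NeZero.ne q))) h

theorem RotData.odd_diff (hd : RotData M e B S F n) {χ : ↥B}
    (h : blockHeight 2 B ((χ : IrrCharacter G) : G → ℂ) = 0) : Odd ((pattern S).a (n χ)) := by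
  classical
  have hsum := hd.odd χ h
  rw [← ZMod.intCast_eq_one_iff_odd] at hsum ⊢
  rw [Int.cast_sum] at hsum
  have hrest : ∑ j ∈ Finset.univ \ {0, (q : ZMod (2 * q))}, ((n χ j : ℤ) : ZMod 2) = 0 :=
    Finset.sum_involution (fun j _ => S.s * j)
      (fun j _ => by
        rw [hd.symm]
        exact (show ∀ a : ZMod 2, a + a = 0 by decide) _)
      (fun j hj _ hfix => by
        simp only [Finset.mem_sdiff, Finset.mem_insert, Finset.mem_singleton] at hj
        exact hj.2 (S.s_fix hfix))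
      (fun j hj => by
        simp only [Finset.mem_sdiff, Finset.mem_univ, true_and, Finset.mem_insert,
          Finset.mem_singleton] at hj ⊢
        intro h'
        refine hj ?_
        have hj' : j = S.s * (S.s * j) := by rw [← mul_assoc, S.s_sq, one_mul]
        rcases h' with h' | h' <;> rw [h'] at hj'
        exacts [Or.inl (hj'.trans (mul_zero _)), Or.inr (hj'.trans S.s_mul_half)])
      fun j _ => by rw [← mul_assoc, S.s_sq, one_mul]
  rw [← Finset.sum_sdiff (Finset.subset_univ {0, (q : ZMod (2 * q))}), hrest, zero_add,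
    Finset.sum_pair S.half_ne_zero.symm] at hsum
  show (((n χ 0 - n χ (q : ZMod (2 * q)) : ℤ)) : ZMod 2) = 1
  rw [Int.cast_sub, ← hsum]
  exact (show ∀ a b : ZMod 2, a - b = a + b by decide) _ _

theorem RotData.sum_pattern (hd : RotData M e B S F n) (hM : IsPModular 2 M)
    (hmax : IsMaximalBrauerPair 2 M B D e) :
    ∑ χ, (pattern S).G (n χ) = 4 * (q : ℤ) * ((q : ℤ) - 1) := by
  classical
  have h : ((∑ χ, (pattern S).G (n χ) : ℤ) : ℂ) = ((4 * (q : ℤ) * ((q : ℤ) - 1) : ℤ) : ℂ) := by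
    rw [Int.cast_sum, Finset.sum_congr rfl fun χ _ => (sum_normSq_rot (hd.expand χ) S).symm,
      Finset.sum_comm, Finset.sum_congr rfl (g := fun _ => ((2 * q : ℕ) : ℂ)) fun r hr => ?_]
    · rw [S.sum_rotReps, Finset.sum_const, ← two_nsmul, smul_smul, nsmul_eq_mul,
        show S.rotReps.card = q - 1 by have := S.card_rotReps; omega]
      push_cast [Nat.cast_sub (show 1 ≤ q from Nat.pos_of_neZero q)]
      ring
    · rw [hd.sum_mul hM hmax (Finset.mem_filter.mp hr).2.1 (Finset.mem_filter.mp hr).2.2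
        (Finset.mem_filter.mp hr).2.1 (Finset.mem_filter.mp hr).2.2, if_pos (Or.inl rfl)]
  exact_mod_cast h

/-- The matrix at a central element of order at most two. -/
theorem exists_central_major (hM : IsPModular 2 M) (hmax : IsMaximalBrauerPair 2 M B D e)
    (S : Shape D q) {v : G} (hv : v ∈ D) (hv2 : v * v = 1) (hcent : ∀ d ∈ D, d * v = v * d) :
    ∃ Z : ↥B → ↥B → ℤ,
      Major q (fun χ : ↥B => blockHeight 2 B ((χ : IrrCharacter G) : G → ℂ)) Z
        (blockRank 2 (bk 2 M D e v)) ∧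
      (∀ χ ψ, Z χ ψ = Z ψ χ) ∧
      ∀ χ ψ : ↥B, (Z χ ψ : ℂ) =
        4 * (q : ℂ) * pm 2 M (pt M D e v) (χ : IrrCharacter G) (ψ : IrrCharacter G) := by
  classical
  have : Fintype (cz v) := Fintype.ofFinite _
  have hle : ∀ u ∈ D, (∀ d ∈ D, d * u = u * d) → D ⊓ cz u = D := fun u _ h =>
    inf_eq_left.mpr fun d hd => mem_cz_iff.mpr (h d hd)
  obtain ⟨b, f, hloc⟩ := exists_localPair_of_pairs hM hmax hv fun u' _ _ => by
    rw [hle v hv hcent]
    exact Subgroup.card_le_of_le inf_le_left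
  have hb : bk 2 M D e v = b :=
    (existsUnique_subpair hM hmax.1.1 (Subgroup.zpowers_le.mpr hv)).unique
      (bk_subpair hM hmax.1.1 hv) hloc.le
  have hcard := IsDefectGroup.card_eq hM hmax.1.2.1 (isDefectGroup_of_maximal hM hmax)
  have hd : blockDefect 2 b = blockDefect 2 B := by
    have := hloc.defect
    rw [hle v hv hcent, hcard] at this
    exact Nat.pow_right_injective le_rfl this
  rw [pt_eq_bk hM hmax hv, hb]
  exact exists_major hM hmax.1.2.1 hv2
    ((SubpairLE.isBrauerPairOf_iff hM hloc.le hmax.1.2.1).mp hmax.1) hd (S.card_eq ▸ hcard)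

/-- The table of the block. -/
theorem exists_table (hd : RotData M e B S F n) (hM : IsPModular 2 M)
    (hmax : IsMaximalBrauerPair 2 M B D e) :
    ∃ T : Table ↥B, T.q = q ∧
      T.h = (fun χ : ↥B => blockHeight 2 B ((χ : IrrCharacter G) : G → ℂ)) ∧
      T.l = blockRank 2 B ∧ T.lz = blockRank 2 (bk 2 M D e S.z) ∧
      (∀ χ ψ : ↥B, (T.M χ ψ : ℂ) =
        4 * (q : ℂ) * pm 2 M (pt M D e (1 : G)) (χ : IrrCharacter G) (ψ : IrrCharacter G)) ∧
      (∀ χ ψ : ↥B, (T.Z χ ψ : ℂ) =
        4 * (q : ℂ) * pm 2 M (pt M D e S.z) (χ : IrrCharacter G) (ψ : IrrCharacter G)) ∧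
      (∀ χ, T.G χ = (pattern S).G (n χ)) ∧ (∀ χ, T.a χ = (pattern S).a (n χ)) ∧
      T.o = (outerReps M e S).card := by
  classical
  have hB := hmax.1.2.1
  obtain ⟨Mm, hMm, -, hMpm⟩ := exists_central_major hM hmax S (v := (1 : G)) (one_mem D) (one_mul 1)
    fun d _ => by rw [one_mul, mul_one]
  rw [Watanabe.blockRank_bk_one hM hmax] at hMm
  obtain ⟨Zm, hZm, -, hZpm⟩ :=
    exists_central_major hM hmax S S.z_mem S.z_sq fun d hd => S.z_commute hd
  choose Φ hΦ k hk hk1 using fun i : ↥(outerReps M e S) =>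
    exists_outer_data hM hmax S i.1 (Finset.mem_filter.mp i.2).2.2.1
  have hsum : ∀ i, ∑ χ, (k i χ : ℤ) = 4 := fun i => by
    have h := (gram_rank_one hM hB (isBPt_pt hM hmax (S.outer_mem i.1)) (Φ i) (c := 4) (by norm_num) (hΦ i)).1
    simp only [hk] at h
    exact_mod_cast h
  have hhq : ∃ k, q = 2 ^ (k + 1) := S.two
  refine ⟨{
    q := q
    h := fun χ => blockHeight 2 B ((χ : IrrCharacter G) : G → ℂ)
    M := Mm
    Z := Zm
    G := fun χ => (pattern S).G (n χ)
    out := fun χ => ∑ i, (k i χ : ℤ)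
    a := fun χ => (pattern S).a (n χ)
    o := (outerReps M e S).card
    l := blockRank 2 B
    lz := blockRank 2 (bk 2 M D e S.z)
    two_le := S.two_le
    majorM := hMm
    majorZ := hZm
    exists_zero := ?_
    odd_a := fun χ h => hd.odd_diff h
    sum_a := hd.sum_sq_diff hM hmax
    G_nonneg := fun χ => (pattern S).G_nonneg _
    G_zero := fun χ h => ?_
    G_unit := fun χ h => ?_
    sum_G := hd.sum_pattern hM hmax
    diag := fun χ => ?_
    out_nonneg := fun χ => Finset.sum_nonneg fun i _ => Int.natCast_nonneg _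
    out_zero := fun χ h => ?_
    sum_out := ?_ }, rfl, rfl, rfl, rfl, hMpm, hZpm, fun _ => rfl, fun _ => rfl, rfl⟩
  · obtain ⟨χ, hχ, h0⟩ := exists_blockHeight_eq_zero hM hB
    exact ⟨⟨χ, hχ⟩, h0⟩
  · have := (pattern S).G_of_a_zero (f := n χ) (fun j => hd.symm χ j) h
    rwa [pattern_q] at this
  · have := (pattern S).G_of_a_unit (f := n χ) (fun j => hd.symm χ j) h (by
      rw [pattern_q]
      obtain ⟨m, hm⟩ := hhq
      intro h6
      rcases m with _ | _ | m <;> simp only [pow_succ] at hm <;> omega)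
    rwa [pattern_q] at this
  · have h1 := sum_pm hM hB (isReps_repsFun hM hmax S) χ.2 (χ : IrrCharacter G)
    rw [Char.classInner_irr_self (χ : IrrCharacter G).2, Fintype.sum_sum_type] at h1
    simp only [repsFun, Sum.elim_inl, Sum.elim_inr] at h1
    rw [Finset.sum_coe_sort S.rotK fun r => pm 2 M (pt M D e (S.r r)) ((χ : IrrCharacter G) : G → ℂ)
      ((χ : IrrCharacter G) : G → ℂ), Shape.rotK, Finset.sum_insert, Finset.sum_insert, S.r_zero] at h1
    rotate_left
    · exact fun h => (S.ne_of_mem_rotReps h).2 rfl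
    · simp only [Finset.mem_insert, not_or]
      exact ⟨S.half_ne_zero.symm, fun h => (S.ne_of_mem_rotReps h).1 rfl⟩
    have hG : ∑ r ∈ S.rotReps, pm 2 M (pt M D e (S.r r)) ((χ : IrrCharacter G) : G → ℂ)
        ((χ : IrrCharacter G) : G → ℂ) = ((pattern S).G (n χ) : ℂ) / ((4 * q : ℕ) : ℂ) := by
      rw [← sum_normSq_rot (hd.expand χ) S, S.sum_rotReps]
      simp only [hd.apply_symm]
      simp only [pt]
      rw [Finset.sum_congr rfl fun r hr =>
        hd.proj r (S.ne_of_mem_rotReps hr).1 (S.ne_of_mem_rotReps hr).2 χ χ, ← Finset.sum_div]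
      push_cast
      field_simp
      ring
    have ho : ∀ i : ↥(outerReps M e S), pm 2 M (pt M D e (S.r i.1 * S.y))
        ((χ : IrrCharacter G) : G → ℂ) ((χ : IrrCharacter G) : G → ℂ) = (k i χ : ℂ) / 4 := fun i => by
      rw [← hk i χ]
      exact hΦ i χ χ
    simp only [ho, hG, ← Finset.sum_div] at h1
    have hz : pt M D e (S.r (q : ZMod (2 * q))) = pt M D e S.z := rfl
    rw [hz] at h1
    have : ((Mm χ χ + Zm χ χ + (pattern S).G (n χ) + (q : ℤ) * ∑ i, (k i χ : ℤ) : ℤ) : ℂ) =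
        ((4 * q : ℤ) : ℂ) := by
      push_cast
      rw [hMpm, hZpm]
      push_cast at h1
      field_simp at h1
      linear_combination (q : ℂ) * h1 - (((pattern S).G (n χ) : ℤ) : ℂ) *
        mul_inv_cancel₀ (Nat.cast_ne_zero.mpr (NeZero.ne q) : (q : ℂ) ≠ 0)
    exact_mod_cast this
  · calc ((outerReps M e S).card : ℤ) = ∑ _i : ↥(outerReps M e S), (1 : ℤ) := by simp
      _ ≤ _ := Finset.sum_le_sum fun i _ => by exact_mod_cast hk1 i χ h
  · rw [Finset.sum_comm, Finset.sum_congr rfl fun i _ => hsum i]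
    simp [mul_comm]

end CfsgLib.Blocks.TameTwo
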