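import Cfsg.Agent.Lib.Blocks.TameTwo.Kappa
import Cfsg.Agent.Lib.Blocks.TameTwo.Frame
import Cfsg.Agent.Lib.Char.MeanValue

/-!
# Coefficients at rotations of different parity

When all classes of pairs of a block with dihedral defect group meet the rotations, a member of the
block with different coefficients at two free rotations of different parity has contribution four at
the central involution.
-/

set_option autoImplicit false
set_option linter.unusedSectionVars false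

namespace CfsgLib.Blocks.TameTwo

open Cfsg
open scoped ComplexConjugate CfsgLib.Char

variable {M : Ideal AlgInt} [M.IsPrime] {G : Type*} [Group G] [Fintype G] {D : Subgroup G}
  {e : Set (IrrCharacter (Subgroup.centralizer (D : Set G)))} {B : Set (IrrCharacter G)} {q : ℕ}
  [NeZero q] {S : Shape D q} [Fintype (cz S.z)] [Fintype ↥(locA D S.z)]
  {b : Set (IrrCharacter (cz S.z))}
  {f : Set (IrrCharacter (Subgroup.centralizer (locA D S.z : Set (cz S.z))))}
  {χ₀ : IrrCharacter (cz S.z)} {Ψ : IrrCharacter ↥(locA D S.z) → IrrCharacter (cz S.z)}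
  {n : ↥B → ZMod (2 * q) → ℤ}
  (hM : IsPModular 2 M) (hmax : IsMaximalBrauerPair 2 M B D e)
  (hloc : IsLocalPair 2 M D e S.z b f) (hΨ : IsNilImage 2 M (locA D S.z) f b χ₀ Ψ)
  (hnil : IsNilpotentBlock 2 M b) (hχ₀ : χ₀ ∈ b) (h₀ : blockHeight 2 b (χ₀ : cz S.z → ℂ) = 0)

include hM hmax hloc hΨ hnil hχ₀ h₀

theorem rotData_z_of_local :
    ∃ n, RotData M e B S (fun χ => rotF S (rot_mem_cz_z S) Ψ ((χ : IrrCharacter G) : G → ℂ)) n := by
  classical
  have hyz : S.y ∈ cz S.z := mem_cz_iff.mpr (S.z_commute S.y_mem)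
  refine exists_rotData hM hmax S.z_mem hloc hΨ hnil hχ₀ h₀ S (rot_mem_cz_z S)
    (fun r h0 hh => ?_) fun χ r => ?_
  · exact Subgroup.centralizer_le (SetLike.coe_subset_coe.mpr
      (Subgroup.zpowers_le.mpr (S.z_mem_zpowers_rot h0)))
  · refine Finset.sum_congr rfl fun θ _ => congrArg _ ?_
    have e1 : rotHom (u := S.z) S (rot_mem_cz_z S) (Multiplicative.ofAdd (S.s * r)) =
        (⟨⟨S.y, hyz⟩, S.y_mem⟩ : ↥(locA D S.z)) *
          rotHom (u := S.z) S (rot_mem_cz_z S) (Multiplicative.ofAdd r) *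
          (⟨⟨S.y, hyz⟩, S.y_mem⟩ : ↥(locA D S.z))⁻¹ :=
      Subtype.ext (Subtype.ext (S.conj_r r).symm)
    rw [e1]
    exact irr_classFunction θ _ _

theorem pm_rot_eq {r : ZMod (2 * q)} (h : r ≠ 0) {χ ψ : G → ℂ} (hχ : IsClassFunction G χ)
    (hψ : IsClassFunction G ψ) :
    pm 2 M (pt M D e (S.r r)) χ ψ =
      rotF S (rot_mem_cz_z S) Ψ χ r * conj (rotF S (rot_mem_cz_z S) Ψ ψ r) /
        (Nat.card ↥(D ⊓ cz (S.r r)) : ℂ) :=
  pm_topPair hM hloc hΨ hmax hnil hχ₀ h₀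
    (w := rotHom S (rot_mem_cz_z S) (Multiplicative.ofAdd r))
    (Subgroup.centralizer_le (SetLike.coe_subset_coe.mpr
      (Subgroup.zpowers_le.mpr (S.z_mem_zpowers_rot h)))) hχ hψ

theorem rotF_eq_zero_of_notMem {χ : IrrCharacter G} (hχ : χ ∉ B) {r : ZMod (2 * q)} (h : r ≠ 0) :
    rotF S (rot_mem_cz_z S) Ψ (χ : G → ℂ) r = 0 := by
  have h1 := pm_rot_eq hM hmax hloc hΨ hnil hχ₀ h₀ h (irr_classFunction χ) (irr_classFunction χ)
  rw [pm_eq_zero_of_notMem hM (isBPt_pt hM hmax (S.r_mem r)) hχ _ (irr_classFunction χ), eq_comm,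
    div_eq_zero_iff, or_iff_left (Nat.cast_ne_zero.mpr Nat.card_pos.ne'), mul_eq_zero,
    map_eq_zero, or_self] at h1
  exact h1

variable [Fintype ↥B]

theorem sum_mul_all (hd : RotData M e B S (fun χ => rotF S (rot_mem_cz_z S) Ψ ((χ : IrrCharacter G) : G → ℂ)) n)
    {r r' : ZMod (2 * q)} (h : r ≠ 0) (h' : r' ≠ 0) :
    ∑ φ : ↥B, rotF S (rot_mem_cz_z S) Ψ ((φ : IrrCharacter G) : G → ℂ) r' *
        conj (rotF S (rot_mem_cz_z S) Ψ ((φ : IrrCharacter G) : G → ℂ) r) =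
      ((2 * q : ℕ) : ℂ) * ((if r' = r then 1 else 0) + if r' = S.s * r then 1 else 0) := by
  classical
  set F : ↥B → ZMod (2 * q) → ℂ := fun φ => rotF S (rot_mem_cz_z S) Ψ ((φ : IrrCharacter G) : G → ℂ)
  have hmul : ∀ a b : ZMod (2 * q), b = S.s * a → S.s * b = a := fun a b e => by
    rw [e, ← mul_assoc, S.s_sq, one_mul]
  have hcard : Nat.card ↥(D ⊓ cz S.z) = 4 * q := by
    rw [inf_eq_left.mpr fun d hd => mem_cz_iff.mpr (S.z_commute hd), S.card_eq]
  have hprojz : ∀ χ ψ : ↥B, pm 2 M (pt M D e (S.r (q : ZMod (2 * q)))) (χ : IrrCharacter G)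
      (ψ : IrrCharacter G) = F χ (q : ZMod (2 * q)) * conj (F ψ (q : ZMod (2 * q))) /
        ((4 * q : ℕ) : ℂ) := fun χ ψ => by
    rw [pm_rot_eq hM hmax hloc hΨ hnil hχ₀ h₀ S.half_ne_zero (irr_classFunction _)
      (irr_classFunction _), ← hcard]
    rfl
  have hc4 : ((4 * q : ℕ) : ℂ) ≠ 0 := Nat.cast_ne_zero.mpr (by have := S.two_le; omega)
  have hc2 : ((2 * q : ℕ) : ℂ) ≠ 0 := Nat.cast_ne_zero.mpr (NeZero.ne _)
  have hK : (q : ZMod (2 * q)) ∈ S.rotK := Finset.mem_insert_of_mem (Finset.mem_insert_self _ _)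
  -- a free rotation is orthogonal to the central involution
  have hfree : ∀ a : ZMod (2 * q), a ≠ 0 → a ≠ (q : ZMod (2 * q)) →
      ∑ φ : ↥B, F φ a * conj (F φ (q : ZMod (2 * q))) = 0 := by
    intro a ha ha'
    obtain ⟨k, hk, hka⟩ := S.exists_rotK a
    have hk' : k ≠ 0 ∧ k ≠ (q : ZMod (2 * q)) ∧ ∀ φ, F φ a = F φ k := by
      rcases hka with rfl | rfl
      · exact ⟨ha, ha', fun _ => rfl⟩
      · refine ⟨fun e => ha ?_, fun e => ha' ?_, fun φ => (hd.apply_symm φ a).symm⟩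
        · rw [← hmul a _ rfl, e, mul_zero]
        · rw [← hmul a _ rfl, e, S.s_mul_half]
    simp only [hk'.2.2]
    exact gram_orth hM hmax.1.2.1 (isReps_repsFun hM hmax S) (i := Sum.inl ⟨_, hK⟩)
      (j := Sum.inl ⟨k, hk⟩) (fun e => hk'.2.1 (congrArg Subtype.val (Sum.inl.inj e)).symm)
      (fun φ => F φ (q : ZMod (2 * q))) (fun φ => F φ k) hc4 hc2 hprojz (hd.proj k hk'.1 hk'.2.1)
  show ∑ φ, F φ r' * conj (F φ r) = _
  by_cases hr : r = (q : ZMod (2 * q))
  · subst hr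
    rw [S.s_mul_half]
    by_cases hr' : r' = (q : ZMod (2 * q))
    · subst hr'
      rw [if_pos rfl, (gram_rank_one hM hmax.1.2.1 (isBPt_pt hM hmax (S.r_mem _))
        (fun φ => F φ (q : ZMod (2 * q))) hc4 hprojz).1]
      push_cast
      ring
    · rw [if_neg hr', hfree r' h' hr', add_zero, mul_zero]
  have hsr : S.s * r ≠ (q : ZMod (2 * q)) := fun e => hr (by rw [← hmul r _ rfl, e, S.s_mul_half])
  by_cases hr' : r' = (q : ZMod (2 * q))
  · subst hr'
    rw [if_neg (Ne.symm hr), if_neg (Ne.symm hsr), add_zero, mul_zero]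
    have := congrArg conj (hfree r h hr)
    rw [map_sum, map_zero] at this
    rw [← this]
    exact Finset.sum_congr rfl fun φ _ => by rw [map_mul, Complex.conj_conj, mul_comm]
  · rw [hd.sum_mul hM hmax h hr h' hr']
    by_cases e1 : r' = r
    · have e2 : r' ≠ S.s * r := fun e2 => by
        rcases S.s_fix (e2.symm.trans e1) with e | e
        exacts [h e, hr e]
      rw [if_pos (Or.inl e1), if_pos e1, if_neg e2, add_zero, mul_one]
    · by_cases e2 : r' = S.s * r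
      · rw [if_pos (Or.inr e2), if_neg e1, if_pos e2, zero_add, mul_one]
      · rw [if_neg (not_or.mpr ⟨e1, e2⟩), if_neg e1, if_neg e2, add_zero, mul_zero]

/-- The value at `z` when every pair on it is the one below `(D, e)`. -/
theorem value_z (ho : outerReps M e S = ∅) (χ : ↥B) :
    ((χ : IrrCharacter G) : G → ℂ) S.z =
      rotF S (rot_mem_cz_z S) Ψ ((χ : IrrCharacter G) : G → ℂ) (q : ZMod (2 * q)) *
        (χ₀ : cz S.z → ℂ) ⟨S.z, mem_cz_iff.mpr rfl⟩ := by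
  classical
  set zK : cz S.z := ⟨S.z, mem_cz_iff.mpr rfl⟩
  have hz2 : zK * zK = 1 := Subtype.ext S.z_sq
  have hzinv : zK⁻¹ = zK := inv_eq_of_mul_eq_one_left hz2
  have hcomm : ∀ t : cz S.z, t * zK = zK * t := fun t => Subtype.ext (mem_cz_iff.mp t.2)
  have hord : ∀ {H : Type _} [Group H] (g : H), g * g = 1 → g ≠ 1 → ∃ k : ℕ, orderOf g = 2 ^ k :=
    fun g h1 h2 => ⟨1, by rw [pow_one]; exact orderOf_eq_prime (by rw [sq]; exact h1) h2⟩
  have hz1 : zK ≠ 1 := fun h => S.z_ne_one (congrArg Subtype.val h)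
  -- the values of the local characters
  have hη : ∀ θ, (Ψ θ : cz S.z → ℂ) zK =
      (θ : ↥(locA D S.z) → ℂ) ⟨zK, S.z_mem⟩ * (χ₀ : cz S.z → ℂ) zK := by
    intro θ
    obtain ⟨b', hb', hle⟩ := exists_topBlock hM hloc.max.1.1 (u := zK) (show zK ∈ locA D S.z from S.z_mem)
    have huniq : ∀ c, IsBrauerPairOf 2 M b (Subgroup.zpowers zK) c → c = b' := by
      intro c hc
      obtain ⟨w, hw, x, hx1, hx2⟩ :=
        exists_conj_pt hM hloc.max (t := (zK, ⟨Subgroup.zpowers zK, c⟩)) ⟨hord zK hz2 hz1, rfl, hc⟩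
      have hwz : w = zK := by
        have hx' : x * w * x⁻¹ = zK := hx1
        rw [show w = x⁻¹ * (x * w * x⁻¹) * x by group, hx', mul_assoc, ← hcomm, inv_mul_cancel_left]
      subst hwz
      have h2 : topPair 2 M (locA D S.z) f zK = ⟨Subgroup.zpowers zK, c⟩ := by
        rw [← conjPair_self_of_cz (v := zK) (mem_cz_iff.mpr (hcomm x)) (topPair_fst zK)]
        exact hx2
      rw [hb'] at h2
      exact (eq_of_heq (Sigma.mk.inj h2).2).symm
    have hblock := (SubpairLE.isBrauerPair hle hloc.max.1.1).2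
    have h1 : IsPRegular 2 (1 : cz zK) := by simp [IsPRegular]
    have e1 := value_eq_part hM hloc.isPBlock (hΨ.mem θ) (hord zK hz2 hz1) hblock huniq h1
    have e2 := value_eq_part hM hloc.isPBlock hχ₀ (hord zK hz2 hz1) hblock huniq h1
    rw [hΨ.part θ ⟨zK, S.z_mem⟩ b' hle 1 h1, ← e2] at e1
    simpa using e1
  -- the only pair of the block at `z`
  have huniq : ∀ c, IsBrauerPairOf 2 M B (Subgroup.zpowers S.z) c → c = b := by
    intro c hc
    obtain ⟨k, x, hx1, hx2⟩ := (isReps_repsFun hM hmax S).surj (S.z, ⟨Subgroup.zpowers S.z, c⟩)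
      ⟨hord S.z S.z_sq S.z_ne_one, rfl, hc⟩
    rcases k with ⟨r, hr⟩ | ⟨r, hr⟩
    swap
    · exact absurd hr (by rw [ho]; exact Finset.notMem_empty r)
    have hx' : x * S.r r * x⁻¹ = S.z := hx1
    have hrz : S.r r = S.z := by
      have hsq : S.r r * S.r r = 1 := by
        rw [show S.r r = x⁻¹ * (x * S.r r * x⁻¹) * x by group, hx',
          show x⁻¹ * S.z * x * (x⁻¹ * S.z * x) = x⁻¹ * (S.z * S.z) * x by group, S.z_sq]
        group
      refine (S.r_sq_eq_one hsq).resolve_left fun h => S.z_ne_one ?_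
      rw [← hx', h, mul_one, mul_inv_cancel]
    rw [hrz] at hx'
    have hx2' : conjPair x (topPair 2 M D e (S.r r)) = ⟨Subgroup.zpowers S.z, c⟩ := hx2
    rw [hrz] at hx2'
    have h2 : topPair 2 M D e S.z = ⟨Subgroup.zpowers S.z, c⟩ := by
      rw [← conjPair_self_of_cz (v := S.z) (mem_cz_iff.mpr (mul_inv_eq_iff_eq_mul.mp hx'))
        (topPair_fst S.z)]
      exact hx2'
    rw [hloc.topPair_eq hM hmax S.z_mem] at h2
    exact (eq_of_heq (Sigma.mk.inj h2).2).symm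
  have h1 : IsPRegular 2 (1 : cz S.z) := by simp [IsPRegular]
  have e1 := value_eq_part hM hmax.1.2.1 χ.2 (hord S.z S.z_sq S.z_ne_one) hloc.isPBlock huniq h1
  rw [Subgroup.coe_one, mul_one] at e1
  rw [e1, blockPart_eq_filter, rotF, Phi, Finset.sum_mul]
  refine (Finset.sum_bij' (fun θ _ => Ψ θ)
    (fun η hη => (hΨ.surj η (Finset.mem_filter.mp hη).2).choose)
    (fun θ _ => Finset.mem_filter.mpr ⟨Finset.mem_univ _, hΨ.mem θ⟩) (fun _ _ => Finset.mem_univ _)
    (fun θ _ => hΨ.inj ((hΨ.surj (Ψ θ) (hΨ.mem θ)).choose_spec))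
    (fun η hη => (hΨ.surj η (Finset.mem_filter.mp hη).2).choose_spec) fun θ _ => ?_).symm
  have hθz : rotHom S (rot_mem_cz_z S) (Multiplicative.ofAdd (q : ZMod (2 * q))) =
      (⟨zK, S.z_mem⟩ : ↥(locA D S.z)) := Subtype.ext (Subtype.ext rfl)
  rw [hθz, mul_assoc, ← hη θ]
  have hzc : zK ∈ Subgroup.center (cz S.z) := Subgroup.mem_center_iff.mpr hcomm
  have hmul := Char.central_mul (Ψ θ).2 hzc
  have hd0 : (Ψ θ : cz S.z → ℂ) 1 ≠ 0 := Char.irr_degree_ne_zero (Ψ θ).2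
  have hd : conj ((Ψ θ : cz S.z → ℂ) 1) = (Ψ θ : cz S.z → ℂ) 1 := by
    rw [(irr_degree_eq (Ψ θ)).1, Complex.conj_natCast]
  have hzreal : conj ((Ψ θ : cz S.z → ℂ) zK) = (Ψ θ : cz S.z → ℂ) zK := by
    rw [← irr_value_inv (Ψ θ).2 zK, hzinv]
  have hin : classInner (sect ((χ : IrrCharacter G) : G → ℂ) S.z) (Ψ θ : cz S.z → ℂ) *
      (Ψ θ : cz S.z → ℂ) 1 = classInner (fun c : cz S.z => ((χ : IrrCharacter G) : G → ℂ) (c : G))
        (Ψ θ : cz S.z → ℂ) * (Ψ θ : cz S.z → ℂ) zK := by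
    rw [classInner, classInner, mul_assoc, mul_assoc, Finset.sum_mul, Finset.sum_mul]
    congr 1
    refine Fintype.sum_equiv (Equiv.mulLeft zK) _ _ fun c => ?_
    show ((χ : IrrCharacter G) : G → ℂ) (S.z * (c : G)) * conj ((Ψ θ : cz S.z → ℂ) c) *
      (Ψ θ : cz S.z → ℂ) 1 = ((χ : IrrCharacter G) : G → ℂ) ((zK * c : cz S.z) : G) *
        conj ((Ψ θ : cz S.z → ℂ) (zK * c)) * (Ψ θ : cz S.z → ℂ) zK
    have h' := congrArg conj (hmul (zK * c))
    rw [show zK * c * zK = c by rw [mul_assoc, hcomm, ← mul_assoc, hz2, one_mul], map_mul, map_mul,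
      hd, hzreal] at h'
    rw [mul_assoc, h', ← mul_assoc]
    rfl
  exact hin.symm

/-- Different coefficients at free rotations of different parity give contribution four at `z`. -/
theorem cross_diff (ho : outerReps M e S = ∅)
    (hd : RotData M e B S (fun χ => rotF S (rot_mem_cz_z S) Ψ ((χ : IrrCharacter G) : G → ℂ)) n)
    {i j : ZMod (2 * q)} (hi : i ≠ 0 ∧ i ≠ (q : ZMod (2 * q)))
    (hj : j ≠ 0 ∧ j ≠ (q : ZMod (2 * q))) (hpi : Shape.par i = 0) (hpj : ¬ Shape.par j = 0)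
    (χ : ↥B) (hne : n χ i ≠ n χ j) :
    rotF S (rot_mem_cz_z S) Ψ ((χ : IrrCharacter G) : G → ℂ) (q : ZMod (2 * q)) *
      conj (rotF S (rot_mem_cz_z S) Ψ ((χ : IrrCharacter G) : G → ℂ) (q : ZMod (2 * q))) = 4 := by
  classical
  set F : ↥B → ZMod (2 * q) → ℂ := fun φ => rotF S (rot_mem_cz_z S) Ψ ((φ : IrrCharacter G) : G → ℂ)
  set c : ZMod (2 * q) → ℂ := fun r => zeta (-(i * r)) - zeta (-(j * r)) with hc
  have hc0 : c 0 = 0 := by simp [hc]
  have hN : ((2 * q : ℕ) : ℂ) ≠ 0 := Nat.cast_ne_zero.mpr (NeZero.ne _)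
  set Y : ↥B → ℤ := fun φ => n φ i - n φ j with hY
  -- the expansion of the difference
  have hYF : ∀ φ : ↥B, ((2 * q : ℕ) : ℂ) * (Y φ : ℂ) = ∑ r, F φ r * c r := fun φ => by
    simp only [hY, Int.cast_sub, mul_sub, coeff_eq (hd.expand φ), hc, Finset.sum_sub_distrib, F]
  have hYφ : ∀ φ : IrrCharacter G, classInner (φ : G → ℂ) (indFun (cz S.z) (diffFun S Ψ i j)) =
      if h : φ ∈ B then (Y ⟨φ, h⟩ : ℂ) else 0 := fun φ => by
    rw [Char.frobenius_reciprocity' _ _ (irr_classFunction φ), classInner_diffFun]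
    split_ifs with h
    · rw [inv_mul_eq_iff_eq_mul₀ hN, hYF ⟨φ, h⟩]
    · refine mul_eq_zero_of_right _ (Finset.sum_eq_zero fun r _ => ?_)
      rcases eq_or_ne r 0 with rfl | hr
      · rw [show zeta (-(i * (0 : ZMod (2 * q)))) - zeta (-(j * 0)) = 0 from hc0, mul_zero]
      · rw [rotF_eq_zero_of_notMem hM hmax hloc hΨ hnil hχ₀ h₀ h hr, zero_mul]
  have hInd : ∀ g, indFun (cz S.z) (diffFun S Ψ i j) g =
      ∑ φ : ↥B, (Y φ : ℂ) * ((φ : IrrCharacter G) : G → ℂ) g := fun g => by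
    conv_lhs => rw [Char.classFunction_expansion (Char.isClassFunction_indFun _ _), Finset.sum_apply]
    refine (Fintype.sum_of_injective (fun φ : ↥B => (φ : IrrCharacter G)) Subtype.val_injective _ _
      (fun φ hφ => ?_) fun φ => ?_).symm
    · rw [Pi.smul_apply, ← Char.classInner_conj_symm, hYφ φ, dif_neg fun h => hφ ⟨⟨φ, h⟩, rfl⟩,
        map_zero, zero_smul]
    · rw [Pi.smul_apply, ← Char.classInner_conj_symm, hYφ _, dif_pos φ.2, map_intCast, smul_eq_mul]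
  -- the degrees
  have hdeg : ∑ φ : ↥B, (Y φ : ℂ) * ((φ : IrrCharacter G) : G → ℂ) 1 = 0 := by
    rw [← hInd 1, Char.indFun_one, diffFun_one hM hloc hΨ, mul_zero]
  -- the squares of the central characters
  set C := Finset.univ.filter fun t : G => IsConj S.z t with hC
  have hsum : ∑ φ : ↥B, (Y φ : ℂ) *
      ∑ t ∈ C, ∑ t' ∈ C, ((φ : IrrCharacter G) : G → ℂ) (t * t') = 0 := by
    simp only [Finset.mul_sum]
    rw [Finset.sum_comm, Finset.sum_congr rfl fun t _ => Finset.sum_comm]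
    simp only [← hInd, indFun, ← Finset.mul_sum]
    refine mul_eq_zero_of_right _ ?_
    rw [Finset.sum_congr rfl fun t _ => Finset.sum_comm, Finset.sum_comm]
    refine Finset.sum_eq_zero fun x _ => ?_
    refine Eq.trans ?_ (sum_pairs_diffFun hM hloc hΨ hi hj)
    have hmem : ∀ (a t : G), t ∈ C → a * t * a⁻¹ ∈ C := fun a t ht =>
      Finset.mem_filter.mpr ⟨Finset.mem_univ _,
        (Finset.mem_filter.mp ht).2.trans (isConj_iff.mpr ⟨a, rfl⟩)⟩
    refine Finset.sum_bij' (fun t _ => x⁻¹ * t * x) (fun t _ => x * t * x⁻¹)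
      (fun t ht => by have := hmem x⁻¹ t ht; rwa [inv_inv] at this) (fun t ht => hmem x t ht)
      (fun t _ => by group) (fun t _ => by group) fun t _ => ?_
    refine Finset.sum_bij' (fun t _ => x⁻¹ * t * x) (fun t _ => x * t * x⁻¹)
      (fun t ht => by have := hmem x⁻¹ t ht; rwa [inv_inv] at this) (fun t ht => hmem x t ht)
      (fun t _ => by group) (fun t _ => by group) fun t' _ => ?_
    congr 1
    group
  have hkappa : ∑ φ : ↥B, (Y φ : ℂ) * (((φ : IrrCharacter G) : G → ℂ) S.z ^ 2 /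
      ((φ : IrrCharacter G) : G → ℂ) 1) = 0 := by
    refine mul_left_cancel₀ (pow_ne_zero 2 (Nat.cast_ne_zero.mpr
      (Finset.card_ne_zero_of_mem (show S.z ∈ C from Finset.mem_filter.mpr
        ⟨Finset.mem_univ _, IsConj.refl _⟩)) : (C.card : ℂ) ≠ 0)) ?_
    rw [mul_zero, ← hsum, Finset.mul_sum]
    refine Finset.sum_congr rfl fun φ _ => ?_
    have h := sum_pairs_mul (φ : IrrCharacter G) C fun t ht x => Finset.mem_filter.mpr
      ⟨Finset.mem_univ _, (Finset.mem_filter.mp ht).2.trans (isConj_iff.mpr ⟨x, rfl⟩)⟩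
    have hsumC : ∑ t ∈ C, ((φ : IrrCharacter G) : G → ℂ) t =
        (C.card : ℂ) * ((φ : IrrCharacter G) : G → ℂ) S.z := by
      rw [Finset.sum_congr rfl fun t ht => (IsClassFunction.eq_of_isConj
        (irr_classFunction (φ : IrrCharacter G)) (Finset.mem_filter.mp ht).2).symm,
        Finset.sum_const, nsmul_eq_mul]
    rw [hsumC, mul_pow, mul_comm, ← eq_div_iff (Char.irr_degree_ne_zero (φ : IrrCharacter G).2)] at h
    rw [h]
    ring
  -- the norm and the product with the function at `z`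
  have hs0 : ∀ r : ZMod (2 * q), r ≠ 0 → S.s * r ≠ 0 := fun r hr e => hr (by
    rw [← one_mul r, ← S.s_sq, mul_assoc, e, mul_zero])
  have hYprod : ∀ r' : ZMod (2 * q), r' ≠ 0 → ∑ φ : ↥B, (Y φ : ℂ) * conj (F φ r') = c r' + c (S.s * r') := by
    intro r' hr'
    refine mul_left_cancel₀ hN ?_
    rw [Finset.mul_sum, Finset.sum_congr rfl fun φ _ => by rw [← mul_assoc, hYF φ, Finset.sum_mul],
      Finset.sum_comm, Finset.sum_congr rfl (g := fun r => ((2 * q : ℕ) : ℂ) *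
        (c r * ((if r = r' then 1 else 0) + if r = S.s * r' then 1 else 0))) fun r _ => ?_,
      ← Finset.mul_sum]
    · simp [mul_add, Finset.sum_add_distrib]
    · rcases eq_or_ne r 0 with rfl | hr
      · simp [hc0]
      · rw [Finset.sum_congr rfl (g := fun φ : ↥B => c r * (F φ r * conj (F φ r'))) fun φ _ => by ring,
          ← Finset.mul_sum, sum_mul_all hM hmax hloc hΨ hnil hχ₀ h₀ hd hr' hr]
        ring
  have hYh : ∑ φ : ↥B, (Y φ : ℂ) * conj (F φ (q : ZMod (2 * q))) = 4 := by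
    rw [hYprod _ S.half_ne_zero, S.s_mul_half]
    simp only [hc, zeta_neg, zeta_mul_half, if_pos hpi, if_neg hpj, map_one, map_neg]
    norm_num
  have hsij : S.s * i ≠ i ∧ S.s * j ≠ j := by
    constructor <;> intro e1 <;> rcases S.s_fix e1 with h | h
    exacts [hi.1 h, hi.2 h, hj.1 h, hj.2 h]
  have hpar : ∀ a b : ZMod (2 * q), Shape.par a = 0 → ¬ Shape.par b = 0 → a ≠ b :=
    fun a b h1 h2 e => h2 (e ▸ h1)
  have hYsq : ∑ φ : ↥B, (Y φ : ℂ) ^ 2 = 2 := by
    have hzsum : ∀ a b : ZMod (2 * q), ∑ r, zeta (-(a * r)) * conj (zeta (-(b * r))) =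
        if a = b then ((2 * q : ℕ) : ℂ) else 0 := fun a b => by
      simp only [← zeta_neg, neg_neg, ← zeta_add,
        fun r : ZMod (2 * q) => show -(a * r) + b * r = r * (b - a) by ring, sum_zeta, sub_eq_zero,
        eq_comm (a := b)]
    refine mul_left_cancel₀ hN ?_
    calc ((2 * q : ℕ) : ℂ) * ∑ φ : ↥B, (Y φ : ℂ) ^ 2
        = ∑ φ : ↥B, (Y φ : ℂ) * conj (((2 * q : ℕ) : ℂ) * (Y φ : ℂ)) := by
          rw [Finset.mul_sum]
          exact Finset.sum_congr rfl fun φ _ => by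
            rw [map_mul, map_natCast, map_intCast]; ring
      _ = ∑ r, conj (c r) * ∑ φ : ↥B, (Y φ : ℂ) * conj (F φ r) := by
          simp only [hYF, map_sum, map_mul, Finset.mul_sum]
          rw [Finset.sum_comm]
          exact Finset.sum_congr rfl fun r _ => Finset.sum_congr rfl fun φ _ => by ring
      _ = ∑ r, conj (c r) * (c r + c (S.s * r)) := Finset.sum_congr rfl fun r _ => by
          rcases eq_or_ne r 0 with rfl | hr
          · simp [hc0]
          · rw [hYprod r hr]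
      _ = _ := by
          simp only [hc, map_sub, sub_mul, mul_sub, mul_add, Finset.sum_add_distrib,
            Finset.sum_sub_distrib, ← mul_assoc i S.s, ← mul_assoc j S.s]
          simp only [mul_comm (conj _), hzsum, mul_comm i S.s, mul_comm j S.s, if_pos, hsij.1, hsij.2,
            (hpar i j hpi hpj), (hpar i j hpi hpj).symm, if_false,
            (hpar (S.s * i) j ((S.par_s_mul i).trans hpi) hpj),
            (hpar i (S.s * j) hpi fun e => hpj ((S.par_s_mul j).symm.trans e)).symm]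
          ring
  -- two members
  have hY1 : ∑ φ : ↥B, Y φ ^ 2 = 2 := by exact_mod_cast hYsq
  have hχY : Y χ ≠ 0 := sub_ne_zero.mpr hne
  have hle := Finset.single_le_sum (f := fun φ => Y φ ^ 2) (fun φ _ => sq_nonneg _) (Finset.mem_univ χ)
  have hpos : ∀ {z : ℤ}, z ≠ 0 → 1 ≤ z ^ 2 := fun hz => by have := sq_pos_of_ne_zero hz; omega
  have hunit : ∀ {z : ℤ}, z ≠ 0 → z ^ 2 ≤ 2 → z = 1 ∨ z = -1 := fun {z} h0 h2 => by
    have : z < 2 := by nlinarith
    have : -2 < z := by nlinarith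
    omega
  have hχ1 := hunit hχY (by rw [← hY1]; exact hle)
  rw [← Finset.add_sum_erase _ _ (Finset.mem_univ χ)] at hY1
  obtain ⟨ψ, hψ, hψY⟩ : ∃ ψ ∈ Finset.univ.erase χ, Y ψ ^ 2 ≠ 0 :=
    Finset.exists_ne_zero_of_sum_ne_zero (by
      have : Y χ ^ 2 = 1 := sq_eq_one_iff.mpr hχ1
      omega)
  have hψY' : Y ψ ≠ 0 := fun e => hψY (by rw [e]; rfl)
  rw [← Finset.add_sum_erase _ _ hψ] at hY1
  have hrest : ∀ φ ∈ (Finset.univ.erase χ).erase ψ, Y φ = 0 := by
    intro φ hφ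
    have h1 : Y χ ^ 2 = 1 := sq_eq_one_iff.mpr hχ1
    have h2 := hpos hψY'
    have h3 := Finset.single_le_sum (f := fun φ => Y φ ^ 2) (fun φ _ => sq_nonneg _) hφ
    by_contra h0
    have := hpos h0
    omega
  have hψ1 : Y ψ = 1 ∨ Y ψ = -1 := hunit hψY' (by
    have h1 : Y χ ^ 2 = 1 := sq_eq_one_iff.mpr hχ1
    have h3 : 0 ≤ ∑ φ ∈ (Finset.univ.erase χ).erase ψ, Y φ ^ 2 := Finset.sum_nonneg fun _ _ => sq_nonneg _
    omega)
  have hreduce : ∀ g : ↥B → ℂ, ∑ φ, (Y φ : ℂ) * g φ = (Y χ : ℂ) * g χ + (Y ψ : ℂ) * g ψ := fun g => by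
    rw [← Finset.add_sum_erase _ _ (Finset.mem_univ χ), ← Finset.add_sum_erase _ _ hψ,
      Finset.sum_eq_zero fun φ hφ => by rw [hrest φ hφ, Int.cast_zero, zero_mul], add_zero]
  rw [hreduce] at hdeg hYh hkappa
  -- opposite signs and equal degrees
  have hdχ := irr_degree_eq (χ : IrrCharacter G)
  have hdψ := irr_degree_eq (ψ : IrrCharacter G)
  rw [hdχ.1, hdψ.1] at hdeg
  have hop : Y ψ = -Y χ := by
    have hdeg' : Y χ * (charDegree ((χ : IrrCharacter G) : G → ℂ) : ℤ) +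
        Y ψ * (charDegree ((ψ : IrrCharacter G) : G → ℂ) : ℤ) = 0 := by exact_mod_cast hdeg
    have := hdχ.2
    have := hdψ.2
    rcases hχ1 with h | h <;> rcases hψ1 with h' | h' <;> rw [h, h'] at hdeg' ⊢ <;> omega
  rw [hop, Int.cast_neg] at hdeg hYh hkappa
  have hY0 : (Y χ : ℂ) ≠ 0 := Int.cast_ne_zero.mpr hχY
  have heq : (charDegree ((χ : IrrCharacter G) : G → ℂ) : ℂ) =
      (charDegree ((ψ : IrrCharacter G) : G → ℂ) : ℂ) := mul_left_cancel₀ hY0 (by linear_combination hdeg)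
  rw [hdχ.1, hdψ.1, ← heq] at hkappa
  have hd0 : (charDegree ((χ : IrrCharacter G) : G → ℂ) : ℂ) ≠ 0 := Nat.cast_ne_zero.mpr hdχ.2.ne'
  have hsq : ((χ : IrrCharacter G) : G → ℂ) S.z ^ 2 = ((ψ : IrrCharacter G) : G → ℂ) S.z ^ 2 := by
    field_simp at hkappa
    exact mul_left_cancel₀ hY0 (by linear_combination hkappa)
  rw [value_z hM hmax hloc hΨ hnil hχ₀ h₀ ho χ, value_z hM hmax hloc hΨ hnil hχ₀ h₀ ho ψ] at hsq
  have hzne : (χ₀ : cz S.z → ℂ) ⟨S.z, mem_cz_iff.mpr rfl⟩ ≠ 0 := by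
    intro h0
    have h := Char.central_mul χ₀.2 (z := (⟨S.z, mem_cz_iff.mpr rfl⟩ : cz S.z))
      (Subgroup.mem_center_iff.mpr fun t => Subtype.ext (mem_cz_iff.mp t.2)) ⟨S.z, mem_cz_iff.mpr rfl⟩
    rw [h0, zero_mul, show (⟨S.z, mem_cz_iff.mpr rfl⟩ : cz S.z) * ⟨S.z, mem_cz_iff.mpr rfl⟩ = 1 from
      Subtype.ext S.z_sq, mul_self_eq_zero] at h
    exact Char.irr_degree_ne_zero χ₀.2 h
  have hreal : ∀ φ : ↥B, conj (F φ (q : ZMod (2 * q))) = F φ (q : ZMod (2 * q)) := fun φ => by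
    have := apply_half (hd.expand φ)
    simp only [F, this, map_sub, map_intCast]
  simp only [hreal] at hYh
  have hFsq : F χ (q : ZMod (2 * q)) ^ 2 = F ψ (q : ZMod (2 * q)) ^ 2 :=
    mul_left_cancel₀ (pow_ne_zero 2 hzne) (by linear_combination hsq)
  have hY2 : (Y χ : ℂ) ^ 2 = 1 := by exact_mod_cast sq_eq_one_iff.mpr hχ1
  show F χ _ * conj (F χ _) = 4
  rw [hreal]
  rcases sq_eq_sq_iff_eq_or_eq_neg.mp hFsq with h | h <;> rw [h] at hYh
  · norm_num at hYh
  · rw [h]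
    linear_combination (1 / 4 : ℂ) * ((Y χ : ℂ) * (-F ψ (q : ZMod (2 * q))) * 2 + 4) * hYh -
      F ψ (q : ZMod (2 * q)) ^ 2 * hY2

end CfsgLib.Blocks.TameTwo
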