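import Cfsg.Agent.Lib.Blocks.TameTwo.Classes

/-!
# Values from the pairs, and squares of class sums
-/

set_option autoImplicit false
set_option linter.unusedSectionVars false

namespace CfsgLib.Blocks.TameTwo

open Cfsg
open CfsgLib.GrpRing
open scoped ComplexConjugate CfsgLib.Char

section Squares

variable {G : Type*} [Group G] [Fintype G]

/-- The products of two elements of a union of classes. -/
theorem sum_pairs_mul (χ : IrrCharacter G) (T : Finset G) (hT : ∀ t ∈ T, ∀ x : G, x * t * x⁻¹ ∈ T) :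
    (χ : G → ℂ) 1 * ∑ t ∈ T, ∑ t' ∈ T, (χ : G → ℂ) (t * t') = (∑ t ∈ T, (χ : G → ℂ) t) ^ 2 := by
  classical
  set f : G → ℂ := fun g => if g ∈ T then 1 else 0 with hf
  have hfc : IsClassFunction G f := fun g x => by
    refine if_congr ⟨fun h => ?_, fun h => hT g h x⟩ rfl rfl
    have := hT _ h x⁻¹
    rwa [show x⁻¹ * (x * g * x⁻¹) * x⁻¹⁻¹ = g by group] at this
  have h1 : ∑ g, f g * (χ : G → ℂ) g = ∑ t ∈ T, (χ : G → ℂ) t := by
    simp only [hf, ite_mul, one_mul, zero_mul, Finset.sum_ite_mem, Finset.univ_inter]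
  have h2 : ∑ g, conv f f g * (χ : G → ℂ) g = ∑ t ∈ T, ∑ t' ∈ T, (χ : G → ℂ) (t * t') := by
    simp only [conv, Finset.sum_mul]
    rw [Finset.sum_comm]
    simp only [hf, ite_mul, one_mul, zero_mul]
    rw [← Finset.sum_subset (Finset.subset_univ T) fun x _ hx =>
      Finset.sum_eq_zero fun _ _ => if_neg hx]
    refine Finset.sum_congr rfl fun t ht => ?_
    simp only [if_pos ht]
    rw [← Finset.sum_filter]
    refine Finset.sum_bij' (fun g _ => t⁻¹ * g) (fun g _ => t * g)
      (fun g hg => (Finset.mem_filter.mp hg).2)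
      (fun g hg => Finset.mem_filter.mpr ⟨Finset.mem_univ _, by rwa [inv_mul_cancel_left]⟩)
      (fun g _ => mul_inv_cancel_left _ _) (fun g _ => inv_mul_cancel_left _ _) fun g _ => by
        rw [mul_inv_cancel_left]
  have h := omega_conv χ hfc hfc
  simp only [omega, h1, h2] at h
  have h0 := Char.irr_degree_ne_zero χ.2
  field_simp at h
  linear_combination h

end Squares

variable {p : ℕ} {M : Ideal AlgInt} [M.IsPrime] {G : Type*} [Group G] [Fintype G]
  {B : Set (IrrCharacter G)}

/-- A vanishing projection has vanishing parts. -/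
theorem blockPart_eq_zero_of_pm {χ : G → ℂ} (hχ : IsClassFunction G χ) {v : G}
    {b : Set (IrrCharacter (cz v))} (hb : IsPBlock M b)
    (h : pm p M (v, ⟨Subgroup.zpowers v, b⟩) χ χ = 0) {s : cz v} (hs : IsPRegular p s) :
    blockPart b (sect χ v) s = 0 := by
  classical
  rw [pm_mk hχ hχ v hb, mul_eq_zero,
    or_iff_right (inv_ne_zero (Nat.cast_ne_zero.mpr Nat.card_pos.ne'))] at h
  simp only [Complex.mul_conj, ← Complex.ofReal_sum, Complex.ofReal_eq_zero] at h
  rw [Finset.sum_eq_zero_iff_of_nonneg fun _ _ => Complex.normSq_nonneg _] at h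
  exact Complex.normSq_eq_zero.mp (h s (Finset.mem_filter.mpr ⟨Finset.mem_univ _, hs⟩))

/-- A section on which all projections of the block vanish. -/
theorem value_eq_zero_of_pm (hM : IsPModular p M) (hB : IsPBlock M B) {χ : IrrCharacter G}
    (hχ : χ ∈ B) {v : G} (hv : ∃ k : ℕ, orderOf v = p ^ k)
    (h : ∀ b : Set (IrrCharacter (cz v)), IsBrauerPairOf p M B (Subgroup.zpowers v) b →
      pm p M (v, ⟨Subgroup.zpowers v, b⟩) (χ : G → ℂ) (χ : G → ℂ) = 0)
    {s : cz v} (hs : IsPRegular p s) : (χ : G → ℂ) (v * (s : G)) = 0 := by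
  classical
  show sect (χ : G → ℂ) v s = 0
  rw [← sum_blockPart (M := M) (isClassFunction_sect (irr_classFunction χ) v) s]
  refine Finset.sum_eq_zero fun b hb => ?_
  have hblock := mem_blocks.mp hb
  by_cases hp' : IsBrauerPairOf p M B (Subgroup.zpowers v) b
  · exact blockPart_eq_zero_of_pm (irr_classFunction χ) hblock (h b hp') hs
  · exact blockPart_sect_eq_zero hM hB hχ hv hblock hp' hs

/-- A section with a single pair of the block. -/
theorem value_eq_part (hM : IsPModular p M) (hB : IsPBlock M B) {χ : IrrCharacter G}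
    (hχ : χ ∈ B) {v : G} (hv : ∃ k : ℕ, orderOf v = p ^ k) {b₀ : Set (IrrCharacter (cz v))}
    (hb₀ : IsPBlock M b₀)
    (h : ∀ b : Set (IrrCharacter (cz v)), IsBrauerPairOf p M B (Subgroup.zpowers v) b → b = b₀)
    {s : cz v} (hs : IsPRegular p s) :
    (χ : G → ℂ) (v * (s : G)) = blockPart b₀ (sect (χ : G → ℂ) v) s := by
  classical
  show sect (χ : G → ℂ) v s = _
  rw [← sum_blockPart (M := M) (isClassFunction_sect (irr_classFunction χ) v) s]
  refine Finset.sum_eq_single b₀ (fun b hb hne => ?_) fun h0 => absurd (mem_blocks.mpr hb₀) h0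
  exact blockPart_sect_eq_zero hM hB hχ hv (mem_blocks.mp hb) (fun hp' => hne (h b hp')) hs

/-- The projections of a block vanish outside it. -/
theorem pm_eq_zero_of_notMem (hM : IsPModular p M) {i : G × BrauerPairIdx G}
    (h : IsBPt p M B i) {χ : IrrCharacter G} (hχ : χ ∉ B) (ψ : G → ℂ) (hψ : IsClassFunction G ψ) :
    pm p M i (χ : G → ℂ) ψ = 0 := by
  classical
  obtain ⟨v, a⟩ := i
  obtain ⟨b, hb, hblock, hpair⟩ := h.exists_eq
  dsimp only at b hb hblock hpair
  rw [hb, pm_mk (irr_classFunction χ) hψ v hblock]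
  refine mul_eq_zero_of_right _ (Finset.sum_eq_zero fun s hs => ?_)
  rw [blockPart_sect_eq_zero hM (isPBlock_blockOf χ) (mem_blockOf_self χ) h.1 hblock
    (fun hp' => hχ ?_) (Finset.mem_filter.mp hs).2, zero_mul]
  exact ((existsUnique_isBrauerPairOf hM hpair.1).unique hp' hpair) ▸ mem_blockOf_self χ

end CfsgLib.Blocks.TameTwo
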