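import Cfsg.Agent.Lib.Blocks.TameTwo.Frame
import Cfsg.Agent.Lib.Blocks.TameTwo.Values
import Cfsg.Agent.Lib.Blocks.BrauerFeit

/-!
# The height of a member vanishing outside the central sections

A member whose parts vanish at all pairs on rotations of order at least four and on the other
classes has the value at a defect class divisible by `q`.
-/

set_option autoImplicit false
set_option linter.unusedSectionVars false

namespace CfsgLib.Blocks.TameTwo

open Cfsg
open scoped ComplexConjugate CfsgLib.Char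

variable {M : Ideal AlgInt} [M.IsPrime] {G : Type*} [Group G] [Fintype G] {D : Subgroup G}
  {e : Set (IrrCharacter (Subgroup.centralizer (D : Set G)))} {B : Set (IrrCharacter G)} {q : ℕ}
  [NeZero q]

theorem orderOf_conj (x v : G) : orderOf (x * v * x⁻¹) = orderOf v := (MulAut.conj x).orderOf_eq v

/-- Without projections at the free rotations and at the other classes, `q` divides the values on
the sections of the rotations. -/
theorem isIntegral_value_div (hM : IsPModular 2 M) (hmax : IsMaximalBrauerPair 2 M B D e)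
    (S : Shape D q) {χ : IrrCharacter G} (hχ : χ ∈ B)
    (hrot : ∀ r ∈ S.rotReps, pm 2 M (pt M D e (S.r r)) (χ : G → ℂ) (χ : G → ℂ) = 0)
    (hout : ∀ i ∈ outerReps M e S, pm 2 M (pt M D e (S.r i * S.y)) (χ : G → ℂ) (χ : G → ℂ) = 0)
    {s : G} (hs : IsPRegular 2 s) (hsD : D ≤ Subgroup.centralizer ({s} : Set G)) :
    IsIntegral ℤ ((χ : G → ℂ) s / (q : ℂ)) := by
  classical
  have hcomm : ∀ j, Commute (S.r j) s := fun j =>
    Subgroup.mem_centralizer_singleton_iff.mp (hsD (S.r_mem j))
  -- the values vanish on the free rotations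
  have hzero : ∀ j : ZMod (2 * q), j ≠ 0 → j ≠ (q : ZMod (2 * q)) →
      (χ : G → ℂ) (S.r j * s) = 0 := by
    intro j h0 hh
    have hord : ∃ k : ℕ, orderOf (S.r j) = 2 ^ k :=
      exists_pow_orderOf_mem hM hmax.1.1.1 ⟨S.r j, S.r_mem j⟩
    refine value_eq_zero_of_pm hM hmax.1.2.1 hχ hord (fun c hc => ?_)
      (s := ⟨s, mem_cz_iff.mpr (hcomm j).eq.symm⟩) (by rwa [IsPRegular, Subgroup.orderOf_mk])
    obtain ⟨k, hk⟩ := (isReps_repsFun hM hmax S).surj (S.r j, ⟨Subgroup.zpowers (S.r j), c⟩)
      ⟨hord, rfl, hc⟩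
    rw [pm_conj (irr_classFunction χ) (irr_classFunction χ) ((isReps_repsFun hM hmax S).mem k) hk]
    rcases k with ⟨r, hr⟩ | ⟨r, hr⟩
    · obtain ⟨x, hx, -⟩ := hk
      have hx' : x * S.r r * x⁻¹ = S.r j := hx
      refine hrot r ?_
      rcases Finset.mem_insert.mp hr with rfl | hr
      · exfalso
        rw [S.r_zero, mul_one, mul_inv_cancel] at hx'
        exact h0 (S.r_eq_one_iff.mp hx'.symm)
      rcases Finset.mem_insert.mp hr with rfl | hr
      · exfalso
        have h2 : S.r j * S.r j = 1 := by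
          rw [← hx', show x * S.r (q : ZMod (2 * q)) * x⁻¹ * (x * S.r (q : ZMod (2 * q)) * x⁻¹) =
            x * (S.z * S.z) * x⁻¹ by rw [Shape.z]; group, S.z_sq, mul_one, mul_inv_cancel]
        rw [← S.r_add, S.r_eq_one_iff] at h2
        rcases eq_half_of_add_self h2 with h | h
        exacts [h0 h, hh h]
      · exact hr
    · exact hout r hr
  -- integrality against the linear characters of the rotations
  have : Fintype (cz s) := Fintype.ofFinite _
  let φ : Multiplicative (ZMod (2 * q)) →* cz s :=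
    { toFun := fun a => ⟨S.r a.toAdd, mem_cz_iff.mpr (hcomm _).eq⟩
      map_one' := Subtype.ext S.r_zero
      map_mul' := fun a b => Subtype.ext (S.r_add a.toAdd b.toAdd) }
  obtain ⟨hint, -⟩ := sect_values χ s
  have key : ∀ k : ZMod (2 * q), IsIntegral ℤ
      ((((χ : G → ℂ) s) + (χ : G → ℂ) (S.z * s) * conj (zeta (k * (q : ZMod (2 * q))))) /
        ((2 * q : ℕ) : ℂ)) := by
    intro k
    set L : Multiplicative (ZMod (2 * q)) → ℂ := fun a => ((lamHom k a : ℂˣ) : ℂ) with hL
    have h1 : classInner (fun a => sect (χ : G → ℂ) s (φ a)) L = ∑ η : IrrCharacter (cz s),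
        classInner (sect (χ : G → ℂ) s) (η : cz s → ℂ) *
          classInner (fun a => (η : cz s → ℂ) (φ a)) L := by
      rw [show (fun a => sect (χ : G → ℂ) s (φ a)) = ∑ η : IrrCharacter (cz s),
          classInner (sect (χ : G → ℂ) s) (η : cz s → ℂ) • (fun a => (η : cz s → ℂ) (φ a)) from ?_,
        Char.classInner_sum_left]
      · exact Finset.sum_congr rfl fun η _ => Char.classInner_smul_left _ _ _
      · funext a
        conv_lhs =>
          rw [Char.classFunction_expansion (isClassFunction_sect (irr_classFunction χ) s),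
            Finset.sum_apply]
        rw [Finset.sum_apply]
        rfl
    have h2 : IsIntegral ℤ (classInner (fun a => sect (χ : G → ℂ) s (φ a)) L) := by
      rw [h1]
      refine IsIntegral.sum _ fun η _ => (hint η).mul ?_
      obtain ⟨m, hm⟩ := Char.exists_int_classInner
        (Char.isGeneralized_of_isCharacter (Char.isCharacter_comp φ (Char.isCharacter_of_isIrr η.2)))
        (Char.isGeneralized_of_isCharacter (Char.isCharacter_monoidHom (lamHom (q := q) k)))
      rw [show classInner (fun a => (η : cz s → ℂ) (φ a)) L = (m : ℂ) from hm]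
      exact isIntegral_algebraMap (R := ℤ) (A := ℂ) (x := m)
    refine (congrArg (IsIntegral ℤ) ?_).mp h2
    rw [classInner, Nat.card_congr Multiplicative.toAdd, Nat.card_zmod, div_eq_inv_mul]
    congr 1
    refine (Fintype.sum_equiv Multiplicative.toAdd _
      (fun j => (χ : G → ℂ) (S.r j * s) * conj (zeta (k * j))) fun a => ?_).trans ?_
    · show (χ : G → ℂ) (s * S.r a.toAdd) * _ = _
      rw [← (hcomm _).eq]
      rfl
    · rw [← Finset.sum_subset (Finset.subset_univ {(0 : ZMod (2 * q)), (q : ZMod (2 * q))})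
        fun j _ hj => by
          simp only [Finset.mem_insert, Finset.mem_singleton, not_or] at hj
          rw [hzero j hj.1 hj.2, zero_mul],
        Finset.sum_pair S.half_ne_zero.symm, S.r_zero, one_mul, mul_zero, zeta_zero, map_one, mul_one]
      rfl
  have e0 := key 0
  have e1 := key 1
  simp only [zero_mul, zeta_zero, map_one, mul_one, one_mul, zeta_half, map_neg] at e0 e1
  refine (congrArg (IsIntegral ℤ) ?_).mp (e0.add e1)
  push_cast
  ring

/-- The height of such a member. -/
theorem le_two_pow_height (hM : IsPModular 2 M) (hmax : IsMaximalBrauerPair 2 M B D e)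
    (S : Shape D q) {χ : IrrCharacter G} (hχ : χ ∈ B)
    (hrot : ∀ r ∈ S.rotReps, pm 2 M (pt M D e (S.r r)) (χ : G → ℂ) (χ : G → ℂ) = 0)
    (hout : ∀ i ∈ outerReps M e S, pm 2 M (pt M D e (S.r i * S.y)) (χ : G → ℂ) (χ : G → ℂ) = 0) :
    q ≤ 2 ^ blockHeight 2 B (χ : G → ℂ) := by
  classical
  have : Fact (Nat.Prime 2) := ⟨Nat.prime_two⟩
  have hB := hmax.1.2.1
  have hD := isDefectGroup_of_maximal hM hmax
  obtain ⟨g, hg, hgD, hcard⟩ := isDefectGroup_iff.mp hD
  have hγ := isIntegral_value_div hM hmax S hχ hrot hout (IsDefectClass.isPRegular hM hB hg) hgD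
  set h := blockHeight 2 B (χ : G → ℂ) with hh
  obtain ⟨k, hk⟩ := S.two
  by_contra hlt
  have hlt' : h < k + 1 := (Nat.pow_lt_pow_iff_right (by norm_num : 1 < 2)).mp (hk ▸ not_le.mp hlt)
  refine hg.2.2 χ hχ ?_
  set I := (Subgroup.centralizer ({g} : Set G)).index with hI
  set dg := charDegree (χ : G → ℂ) with hdg
  have hdeg := degree_exponent_eq hM hB hχ
  rw [← hh, ← hdg] at hdeg
  have hd0 : 0 < dg := (irr_degree_eq χ).2
  have hI0 : I ≠ 0 := Subgroup.index_ne_zero_of_finite
  have hCG : (Nat.card G).factorization 2 =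
      blockDefect 2 B + I.factorization 2 := by
    rw [← (Subgroup.centralizer ({g} : Set G)).card_mul_index, Nat.factorization_mul Nat.card_pos.ne' hI0,
      Finsupp.add_apply]
    congr 1
    exact Nat.pow_right_injective le_rfl (hcard.symm.trans (IsDefectGroup.card_eq hM hB hD))
  -- exponents
  obtain ⟨δ, hδ⟩ := Nat.ordProj_dvd dg 2
  obtain ⟨ι, hι⟩ := Nat.ordProj_dvd I 2
  have hδodd : ¬ 2 ∣ δ := fun h2 => Nat.pow_succ_factorization_not_dvd hd0.ne' Nat.prime_two (by
    conv_rhs => rw [hδ]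
    rw [pow_succ]
    exact Nat.mul_dvd_mul_left _ h2)
  set ω := centralChar (χ : G → ℂ) g with hω
  set γ := (χ : G → ℂ) g / (q : ℂ)
  have hrel : ω * (δ : ℂ) = (2 : ℂ) * ((2 : ℂ) ^ (k - h) * (ι : ℂ) * γ) := by
    have hq0 : (q : ℂ) ≠ 0 := Nat.cast_ne_zero.mpr (NeZero.ne q)
    have hδ0 : (δ : ℂ) ≠ 0 := Nat.cast_ne_zero.mpr fun e => hδodd (e ▸ dvd_zero 2)
    have hexp : dg.factorization 2 + (k + 1 - h) = I.factorization 2 + (k + 1) := by omega
    have e1 : (2 : ℂ) ^ dg.factorization 2 * (2 * (2 : ℂ) ^ (k - h)) =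
        (2 : ℂ) ^ I.factorization 2 * (q : ℂ) := by
      rw [hk, ← pow_succ', show k - h + 1 = k + 1 - h by omega, Nat.cast_pow, Nat.cast_two,
        ← pow_add, ← pow_add, hexp]
    have hdc : (χ : G → ℂ) 1 = (2 : ℂ) ^ dg.factorization 2 * (δ : ℂ) := by
      rw [(irr_degree_eq χ).1, ← hdg]
      exact_mod_cast congrArg (fun t : ℕ => (t : ℂ)) hδ
    have hIc : (I : ℂ) = (2 : ℂ) ^ I.factorization 2 * (ι : ℂ) := by
      exact_mod_cast congrArg (fun t : ℕ => (t : ℂ)) hι
    rw [hω, centralChar, ← hI, hIc, hdc]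
    have h20 : (2 : ℂ) ^ dg.factorization 2 ≠ 0 := pow_ne_zero _ two_ne_zero
    simp only [γ]
    field_simp
    linear_combination -((χ : G → ℂ) g * (ι : ℂ)) * e1
  have hloc : MemLocalRing M ω := memLocalRing_centralChar χ g
  have h2 : MemLocalIdeal M (2 : ℂ) := by
    rw [← Nat.cast_two, memLocalIdeal_natCast_iff hM]
  have hid : MemLocalIdeal M (ω * (δ : ℂ)) := by
    rw [hrel]
    exact memLocalIdeal_mul_right h2 (memLocalRing_of_isIntegral ((((isIntegral_algebraMap (R := ℤ)
      (A := ℂ) (x := 2)).pow _).mul (isIntegral_algebraMap (R := ℤ) (A := ℂ) (x := (ι : ℤ)))).mul hγ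
      |> fun h => by simpa using h))
  obtain ⟨m, hm⟩ : Odd δ := Nat.not_even_iff_odd.mp fun he => hδodd he.two_dvd
  have e2 : ω = ω * (δ : ℂ) + 2 * (-(m : ℂ) * ω) := by
    rw [hm]
    push_cast
    ring
  rw [e2]
  exact memLocalIdeal_add hid (memLocalIdeal_mul_right h2 (memLocalRing_mul
    (memLocalRing_of_isIntegral ((isIntegral_algebraMap (R := ℤ) (A := ℂ) (x := (m : ℤ))).neg
      |> fun h => by simpa using h)) hloc))

end CfsgLib.Blocks.TameTwo
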