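import Cfsg.Agent.Lib.Blocks.TameTwo.Restrict
import Cfsg.Agent.Lib.Blocks.TameTwo.Heights

/-!
# The invariants of a block with quaternion or semidihedral defect group
-/

set_option autoImplicit false
set_option linter.unusedSectionVars false

namespace CfsgLib.Blocks.TameTwo

open Cfsg CfsgLib.Blocks.FreeQuot
open scoped ComplexConjugate CfsgLib.Char

variable {M : Ideal AlgInt} [M.IsPrime] {G : Type*} [Group G] [Fintype G] {D : Subgroup G}
  {e : Set (IrrCharacter (Subgroup.centralizer (D : Set G)))} {B : Set (IrrCharacter G)} {q : ℕ}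

/-- A diagonal entry is a nonnegative real. -/
theorem exists_pm_self (i : G × BrauerPairIdx G) (χ : G → ℂ) :
    ∃ r : ℝ, 0 ≤ r ∧ pm 2 M i χ χ = (r : ℂ) := by
  refine ⟨(Nat.card (cz i.1) : ℝ)⁻¹ * ∑ g, Complex.normSq (part 2 M i χ g),
    mul_nonneg (inv_nonneg.mpr (Nat.cast_nonneg _))
      (Finset.sum_nonneg fun g _ => Complex.normSq_nonneg _), ?_⟩
  rw [pm_eq_gram]
  push_cast
  simp only [← Complex.mul_conj]

/-- The table with the bound on the heights of the members vanishing on the rotations. -/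
theorem exists_table_bound [NeZero q] [Fintype ↥B] (hM : IsPModular 2 M)
    (hmax : IsMaximalBrauerPair 2 M B D e) (S : Shape D q) :
    ∃ T : Table ↥B, T.q = q ∧
      T.h = (fun χ : ↥B => blockHeight 2 B ((χ : IrrCharacter G) : G → ℂ)) ∧
      T.l = blockRank 2 B ∧ T.lz = blockRank 2 (bk 2 M D e S.z) ∧
      T.o = (outerReps M e S).card ∧ ∀ x ∈ T.Fs, T.q ≤ 2 ^ T.h x := by
  classical
  obtain ⟨F, n, hd⟩ := exists_rotData_x hM hmax S
  obtain ⟨T, hTq, hTh, hTl, hTlz, hTM, hTZ, hTG, -, hTo⟩ := exists_table hd hM hmax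
  refine ⟨T, hTq, hTh, hTl, hTlz, hTo, fun χ hχ => ?_⟩
  obtain ⟨-, hχ0, hG⟩ := Finset.mem_filter.mp hχ
  have hrot : ∀ r ∈ S.rotReps, pm 2 M (pt M D e (S.r r)) ((χ : IrrCharacter G) : G → ℂ)
      ((χ : IrrCharacter G) : G → ℂ) = 0 := by
    intro r hr
    obtain ⟨h0, hh⟩ := S.ne_of_mem_rotReps hr
    have h := sum_normSq_rot (hd.expand χ) S
    rw [← hTG, hG, Int.cast_zero] at h
    simp only [Complex.mul_conj, ← Complex.ofReal_sum, Complex.ofReal_eq_zero] at h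
    rw [Finset.sum_eq_zero_iff_of_nonneg fun _ _ => Complex.normSq_nonneg _] at h
    show pm 2 M (S.r r, topPair 2 M D e (S.r r)) _ _ = 0
    rw [hd.proj r h0 hh χ χ, Complex.normSq_eq_zero.mp
      (h r (Finset.mem_filter.mpr ⟨Finset.mem_univ _, h0, hh⟩)), zero_mul, zero_div]
  have hsum := sum_pm hM hmax.1.2.1 (isReps_repsFun hM hmax S) χ.2 (χ : IrrCharacter G)
  rw [Char.classInner_irr_self (χ : IrrCharacter G).2, Fintype.sum_sum_type] at hsum
  simp only [repsFun, Sum.elim_inl, Sum.elim_inr] at hsum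
  rw [Finset.sum_coe_sort S.rotK fun r => pm 2 M (pt M D e (S.r r)) ((χ : IrrCharacter G) : G → ℂ)
      ((χ : IrrCharacter G) : G → ℂ), Shape.rotK, Finset.sum_insert, Finset.sum_insert,
    Finset.sum_eq_zero hrot, S.r_zero, add_zero] at hsum
  rotate_left
  · exact fun h => (S.ne_of_mem_rotReps h).2 rfl
  · simp only [Finset.mem_insert, not_or]
    exact ⟨S.half_ne_zero.symm, fun h => (S.ne_of_mem_rotReps h).1 rfl⟩
  have hdg := congrArg (fun z : ℤ => (z : ℂ)) (T.diag χ)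
  simp only [T.out_eq.2 χ hχ0, hG, mul_zero, add_zero] at hdg
  push_cast at hdg
  rw [hTM, hTZ, hTq] at hdg
  rw [show pt M D e (S.r (q : ZMod (2 * q))) = pt M D e S.z from rfl] at hsum
  have hzero : ∑ i : ↥(outerReps M e S), pm 2 M (pt M D e (S.r i.1 * S.y))
      ((χ : IrrCharacter G) : G → ℂ) ((χ : IrrCharacter G) : G → ℂ) = 0 := by
    refine mul_left_cancel₀ (mul_ne_zero (show (4 : ℂ) ≠ 0 by norm_num)
      (Nat.cast_ne_zero.mpr (NeZero.ne q) : (q : ℂ) ≠ 0)) ?_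
    linear_combination 4 * (q : ℂ) * hsum - hdg
  choose c hc hcv using fun i : ↥(outerReps M e S) =>
    exists_pm_self (M := M) (pt M D e (S.r i.1 * S.y)) ((χ : IrrCharacter G) : G → ℂ)
  simp only [hcv, ← Complex.ofReal_sum, Complex.ofReal_eq_zero] at hzero
  rw [Finset.sum_eq_zero_iff_of_nonneg fun i _ => hc i] at hzero
  rw [hTq, hTh]
  exact le_two_pow_height hM hmax S χ.2 hrot fun i hi => by
    have h := hcv ⟨i, hi⟩
    rw [hzero ⟨i, hi⟩ (Finset.mem_univ _), Complex.ofReal_zero] at h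
    exact h

/-- Counting the members of a given height. -/
theorem card_height_eq {B : Set (IrrCharacter G)} [Fintype ↥B] (s : Finset ↥B) (m : ℕ)
    (hs : ∀ x : ↥B, x ∈ s ↔ blockHeight 2 B ((x : IrrCharacter G) : G → ℂ) = m) :
    Nat.card {χ : IrrCharacter G // χ ∈ B ∧ blockHeight 2 B (χ : G → ℂ) = m} = s.card := by
  rw [← Fintype.card_coe, ← Nat.card_eq_fintype_card]
  exact Nat.card_congr ((Equiv.subtypeSubtypeEquivSubtypeInter (fun χ : IrrCharacter G => χ ∈ B)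
    fun χ => blockHeight 2 B (χ : G → ℂ) = m).symm.trans
      (Equiv.subtypeEquivRight fun χ => (hs χ).symm))

/-- The heights in a table without deviating members of height zero. -/
theorem table_heights [Fintype ↥B] (T : Table ↥B)
    (hh : T.h = (fun χ : ↥B => blockHeight 2 B ((χ : IrrCharacter G) : G → ℂ)))
    (hgood : T.bad = ∅) (hf : ∀ x ∈ T.Fs, T.q ≤ 2 ^ T.h x) {k : ℕ} (hk : T.q = 2 ^ (k + 1)) :
    Nat.card {χ : IrrCharacter G // χ ∈ B ∧ blockHeight 2 B (χ : G → ℂ) = 0} = 4 ∧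
      (∀ χ ∈ B, blockHeight 2 B (χ : G → ℂ) = 0 ∨ blockHeight 2 B (χ : G → ℂ) = 1 ∨
        blockHeight 2 B (χ : G → ℂ) = k + 1) ∧
      (1 ≤ k → Nat.card {χ : IrrCharacter G // χ ∈ B ∧ blockHeight 2 B (χ : G → ℂ) = 1} =
        2 ^ (k + 1) - 1) := by
  classical
  have hv : ∀ x : ↥B, blockHeight 2 B ((x : IrrCharacter G) : G → ℂ) = T.h x := fun x => by rw [hh]
  have hFs : ∀ x ∈ T.Fs, T.h x = k + 1 := fun x hx =>
    Nat.pow_right_injective le_rfl ((T.Fs_eq hf hx).2.2.trans hk)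
  refine ⟨(card_height_eq T.Z0 0 fun x => by rw [T.mem_Z0, hv]).trans T.card_Z0.1,
    fun χ hχ => ?_, fun hk1 => ?_⟩
  · rw [hv ⟨χ, hχ⟩]
    by_cases h0 : T.h ⟨χ, hχ⟩ = 0
    · exact Or.inl h0
    by_cases hG : T.G ⟨χ, hχ⟩ = 0
    · exact Or.inr (Or.inr (hFs _ (Finset.mem_filter.mpr ⟨Finset.mem_univ _, h0, hG⟩)))
    · exact Or.inr (Or.inl (T.Es_eq (x := ⟨χ, hχ⟩)
        (Finset.mem_filter.mpr ⟨Finset.mem_univ _, h0, hG⟩)).2.2.2.1)
  · rw [card_height_eq T.Es 1 fun x => ?_]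
    · have h4 : 4 ≤ T.q := by
        rw [hk]
        calc (4 : ℕ) = 2 ^ 2 := rfl
          _ ≤ _ := Nat.pow_le_pow_right (by norm_num) (by omega)
      have := (T.card_Es hgood).1 h4
      omega
    · rw [hv]
      refine ⟨fun hx => (T.Es_eq hx).2.2.2.1, fun hx => Finset.mem_filter.mpr
        ⟨Finset.mem_univ _, by omega, fun hG => ?_⟩⟩
      have := hFs x (Finset.mem_filter.mpr ⟨Finset.mem_univ _, by omega, hG⟩)
      omega

/-- The invariants in the quaternion case. -/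
theorem quaternion_invariants (hM : IsPModular 2 M) (hmax : IsMaximalBrauerPair 2 M B D e) {k : ℕ}
    (S : Shape D (2 ^ (k + 1))) (hS : S.IsQuat) :
    1 ≤ blockRank 2 B ∧ blockRank 2 B ≤ 3 ∧ Nat.card B = blockRank 2 B + 2 ^ (k + 1) + 2 ∧
      Nat.card {χ : IrrCharacter G // χ ∈ B ∧ blockHeight 2 B (χ : G → ℂ) = 0} = 4 ∧
      (∀ χ ∈ B, blockHeight 2 B (χ : G → ℂ) = 0 ∨ blockHeight 2 B (χ : G → ℂ) = 1 ∨
        blockHeight 2 B (χ : G → ℂ) = k + 1) ∧
      (1 ≤ k → Nat.card {χ : IrrCharacter G // χ ∈ B ∧ blockHeight 2 B (χ : G → ℂ) = 1} =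
        2 ^ (k + 1) - 1) := by
  classical
  have := S.neZero
  have : Fintype ↥B := Fintype.ofFinite _
  obtain ⟨T, hTq, hTh, hTl, hTlz, hTo, hf⟩ := exists_table_bound hM hmax S
  have hsum := quat_sum hM hmax S hS
  rw [← hTlz, ← hTo] at hsum
  have hl : 1 ≤ T.l := hTl ▸ blockRank_pos (IsPBlock.nonempty hmax.1.2.1) (by norm_num)
  have hgood := T.bad_eq_empty ⟨k + 1, hTq⟩ hl (fun ho => by omega) hf
  have hk := T.card_eq_ranks
  have hk' := T.card_eq
  have hcard : Nat.card B = Fintype.card ↥B := Nat.card_eq_fintype_card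
  have h2 : 2 ∣ T.q := hTq ▸ S.two_dvd_q
  refine ⟨hTl ▸ hl, ?_, ?_, table_heights T hTh hgood hf hTq⟩
  · rw [← hTl]
    rcases k with _ | k
    · have hE := (T.card_Es hgood).2 (by rw [hTq]; norm_num)
      have := T.card_Fs_le_two hgood hf hTq
      norm_num at hTq
      omega
    · have h4 : 4 ≤ T.q := by
        rw [hTq]
        calc (4 : ℕ) = 2 ^ 2 := rfl
          _ ≤ _ := Nat.pow_le_pow_right (by norm_num) (by omega)
      have hE := (T.card_Es hgood).1 h4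
      have := T.card_Fs_le hgood hf h2 h4
      omega
  · rw [← hTl, hcard]
    omega

/-- The invariants in the semidihedral case. -/
theorem semidihedral_invariants (hM : IsPModular 2 M) (hmax : IsMaximalBrauerPair 2 M B D e)
    {k : ℕ} (S : Shape D (2 ^ (k + 2))) (hS : S.IsSemi) :
    (Nat.card B = 2 ^ (k + 2) + 3 ∨ Nat.card B = 2 ^ (k + 2) + 4) ∧ 1 ≤ blockRank 2 B ∧
      blockRank 2 B ≤ 3 ∧ (blockRank 2 B = 3 → Nat.card B = 2 ^ (k + 2) + 4) ∧
      (blockRank 2 B = 1 → Nat.card B = 2 ^ (k + 2) + 3) ∧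
      Nat.card {χ : IrrCharacter G // χ ∈ B ∧ blockHeight 2 B (χ : G → ℂ) = 0} = 4 ∧
      Nat.card {χ : IrrCharacter G // χ ∈ B ∧ blockHeight 2 B (χ : G → ℂ) = 1} = 2 ^ (k + 2) - 1 ∧
      ∀ χ ∈ B, blockHeight 2 B (χ : G → ℂ) = 0 ∨ blockHeight 2 B (χ : G → ℂ) = 1 ∨
        blockHeight 2 B (χ : G → ℂ) = k + 2 := by
  classical
  have := S.neZero
  have : Fintype ↥B := Fintype.ofFinite _
  obtain ⟨T, hTq, hTh, hTl, hTlz, hTo, hf⟩ := exists_table_bound hM hmax S
  obtain ⟨hsum, ho⟩ := semi_sum hM hmax S hS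
  rw [← hTlz] at hsum
  rw [← hTo] at ho
  set ot := if Sep M e S 0 then 1 else 0 with hot
  set o4 := if Sep M e S 1 then 1 else 0 with ho4
  have hot1 : ot ≤ 1 := by rw [hot]; split_ifs <;> omega
  have hl : 1 ≤ T.l := hTl ▸ blockRank_pos (IsPBlock.nonempty hmax.1.2.1) (by norm_num)
  have hgood := T.bad_eq_empty ⟨k + 2, hTq⟩ hl (fun ho' => by omega) hf
  have h4 : 4 ≤ T.q := hTq ▸ hS.2.2
  have hk := T.card_eq_ranks
  have hk' := T.card_eq
  have hE := (T.card_Es hgood).1 h4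
  have hFle := T.card_Fs_le hgood hf (hTq ▸ S.two_dvd_q) h4
  have hF1 : T.Fs.card ≤ 1 := by
    by_contra h
    exact T.card_Fs_ne_two hgood hf h4 (by omega) (by omega)
  have hcard : Nat.card B = Fintype.card ↥B := Nat.card_eq_fintype_card
  obtain ⟨h0, hcases, h1⟩ := table_heights T hTh hgood hf (k := k + 1) hTq
  rw [hcard, ← hTl]
  exact ⟨by omega, hl, by omega, fun _ => by omega, fun _ => by omega, h0, h1 (by omega), hcases⟩

end CfsgLib.Blocks.TameTwo
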