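import Cfsg.Agent.Lib.Blocks.TameTwo.Values
import Cfsg.Agent.Lib.Blocks.TameTwo.Bases
import Cfsg.Agent.Lib.Char.Induced
import Cfsg.Agent.Lib.Char.Table

/-!
# The square of the class of the central involution

For two rotations outside `{0, q}` the difference of the corresponding characters of the local block
at `z`, induced to `G`, is orthogonal to the squares of the central characters at `z`.
-/

set_option autoImplicit false
set_option linter.unusedSectionVars false

namespace CfsgLib.Blocks.TameTwo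

open Cfsg
open CfsgLib.GrpRing
open scoped ComplexConjugate CfsgLib.Char

namespace Shape

variable {G : Type*} [Group G] [Finite G] {D : Subgroup G} {q : ℕ} (S : Shape D q)

theorem z_mem_zpowers_rot {r : ZMod (2 * q)} (h : r ≠ 0) : S.z ∈ Subgroup.zpowers (S.r r) := by
  by_cases hh : r = (q : ZMod (2 * q))
  · rw [hh]; exact Subgroup.mem_zpowers _
  · exact Subgroup.zpowers_le.mpr (S.x_mem_zpowers h hh)
      (S.x_mul_x ▸ mul_mem (Subgroup.mem_zpowers _) (Subgroup.mem_zpowers _))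

/-- An involution among the rotations is `z`. -/
theorem r_sq_eq_one {r : ZMod (2 * q)} (h : S.r r * S.r r = 1) : S.r r = 1 ∨ S.r r = S.z := by
  have := S.neZero
  rw [← S.r_add, S.r_eq_one_iff] at h
  rcases eq_half_of_add_self h with rfl | rfl
  exacts [Or.inl S.r_zero, Or.inr rfl]

end Shape

theorem zpowers_le_of_sectionPoint {p : ℕ} {G : Type*} [Group G] [Finite G] {v s : G}
    (hp : p.Prime) (h : Commute v s) (hv : ∃ k : ℕ, orderOf v = p ^ k) (hs : IsPRegular p s) :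
    Subgroup.zpowers v ≤ Subgroup.zpowers (v * s) := by
  obtain ⟨k, hk⟩ := hv
  have h1 : (v * s) ^ orderOf s = v ^ orderOf s := by
    rw [h.mul_pow, pow_orderOf_eq_one, mul_one]
  have hcop : (orderOf s).Coprime (orderOf v) := by
    rw [hk]
    exact Nat.Coprime.pow_right _ ((hp.coprime_iff_not_dvd.mpr hs).symm)
  obtain ⟨m, hm⟩ := exists_pow_eq_self_of_coprime hcop
  rw [Subgroup.zpowers_le]
  exact ⟨(orderOf s * m : ℕ), by
    show (v * s) ^ ((orderOf s * m : ℕ) : ℤ) = v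
    rw [zpow_natCast, pow_mul, h1, hm]⟩

variable {M : Ideal AlgInt} [M.IsPrime] {G : Type*} [Group G] [Fintype G] {D : Subgroup G}
  {e : Set (IrrCharacter (Subgroup.centralizer (D : Set G)))} {B : Set (IrrCharacter G)} {q : ℕ}
  [NeZero q]

section Local

variable {K : Type*} [Group K] [Fintype K] {P : Subgroup K}
  {f : Set (IrrCharacter (Subgroup.centralizer (P : Set K)))} {b : Set (IrrCharacter K)}

/-- A member of a nilpotent block vanishes on a section not meeting a set outside which its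
character of the defect group vanishes. -/
theorem nilImage_vanish (hM : IsPModular 2 M) (hmax : IsMaximalBrauerPair 2 M b P f)
    [Fintype ↥P] {χ₀ : IrrCharacter K} {Ψ : IrrCharacter ↥P → IrrCharacter K}
    (hΨ : IsNilImage 2 M P f b χ₀ Ψ) (θ : IrrCharacter ↥P) (R : Set K)
    (hθ : ∀ w : ↥P, (w : K) ∉ R → (θ : ↥P → ℂ) w = 0) {v : K} (hv : ∃ k : ℕ, orderOf v = 2 ^ k)
    (hnot : ∀ w ∈ R, ¬ IsConj w v) {s : cz v} (hs : IsPRegular 2 s) :
    (Ψ θ : K → ℂ) (v * (s : K)) = 0 := by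
  classical
  refine value_eq_zero_of_pm hM hmax.1.2.1 (hΨ.mem θ) hv (fun b' hb' => ?_) hs
  obtain ⟨w, hw, hc⟩ := exists_conj_pt hM hmax (t := (v, ⟨Subgroup.zpowers v, b'⟩)) ⟨hv, rfl, hb'⟩
  rw [pm_conj (irr_classFunction _) (irr_classFunction _) (isBPt_pt hM hmax hw) hc]
  obtain ⟨b'', hb'', hle⟩ := exists_topBlock hM hmax.1.1 hw
  show pm 2 M (w, topPair 2 M P f w) _ _ = 0
  rw [hb'', pm_mk (irr_classFunction _) (irr_classFunction _) w
    (SubpairLE.isBrauerPair hle hmax.1.1).2]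
  refine mul_eq_zero_of_right _ (Finset.sum_eq_zero fun t ht => ?_)
  rw [hΨ.part θ ⟨w, hw⟩ b'' hle t (Finset.mem_filter.mp ht).2, hθ ⟨w, hw⟩ fun h =>
    hnot w h (isConj_iff.mpr (hc.imp fun _ h => h.1)), zero_mul, zero_mul]

end Local

section Zed

variable {S : Shape D q} [Fintype (cz S.z)] [Fintype ↥(locA D S.z)]
  {b : Set (IrrCharacter (cz S.z))}
  {f : Set (IrrCharacter (Subgroup.centralizer (locA D S.z : Set (cz S.z))))}
  {χ₀ : IrrCharacter (cz S.z)} {Ψ : IrrCharacter ↥(locA D S.z) → IrrCharacter (cz S.z)}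

theorem rot_mem_cz_z (S : Shape D q) (j : ZMod (2 * q)) : S.r j ∈ cz S.z :=
  mem_cz_iff.mpr (S.r_comm j _)

/-- The coefficient of a character of `D` in the difference of two rotations. -/
noncomputable def diffCoef (S : Shape D q) (i j : ZMod (2 * q))
    (θ : IrrCharacter ↥(locA D S.z)) : ℂ :=
  ((2 * q : ℕ) : ℂ)⁻¹ * ∑ r : ZMod (2 * q),
    conj ((θ : ↥(locA D S.z) → ℂ) (rotHom S (rot_mem_cz_z S) (Multiplicative.ofAdd r))) *
      (zeta (i * r) - zeta (j * r))

/-- The difference in the local block. -/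
noncomputable def diffFun (S : Shape D q)
    (Ψ : IrrCharacter ↥(locA D S.z) → IrrCharacter (cz S.z)) (i j : ZMod (2 * q)) : cz S.z → ℂ :=
  ∑ θ : IrrCharacter ↥(locA D S.z), diffCoef S i j θ • (Ψ θ : cz S.z → ℂ)

/-- The scalar product with the difference. -/
theorem classInner_diffFun (i j : ZMod (2 * q)) (χ : G → ℂ) :
    classInner (fun c : cz S.z => χ (c : G)) (diffFun S Ψ i j) =
      ((2 * q : ℕ) : ℂ)⁻¹ * ∑ r : ZMod (2 * q),
        rotF S (rot_mem_cz_z S) Ψ χ r * (zeta (-(i * r)) - zeta (-(j * r))) := by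
  classical
  rw [diffFun, Char.classInner_sum_right]
  simp only [Char.classInner_smul_right, diffCoef, map_mul, map_inv₀, map_natCast, map_sum, map_sub,
    Complex.conj_conj, ← zeta_neg, rotF, Phi, Finset.sum_mul, Finset.mul_sum]
  rw [Finset.sum_comm]
  exact Finset.sum_congr rfl fun r _ => Finset.sum_congr rfl fun θ _ => by ring

theorem locA_cases (S : Shape D q) (w : ↥(locA D S.z)) :
    ∃ r : ZMod (2 * q), w = rotHom S (rot_mem_cz_z S) (Multiplicative.ofAdd r) ∨
      ((w : cz S.z) : G) = S.r r * S.y := by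
  obtain ⟨r, hr | hr⟩ := S.cover _ w.2
  · exact ⟨r, Or.inl (Subtype.ext (Subtype.ext hr))⟩
  · exact ⟨r, Or.inr hr⟩

/-- A character of `D` with a free constituent on the rotations vanishes outside them. -/
theorem diffCoef_vanish {i j : ZMod (2 * q)} (hi : i ≠ 0 ∧ i ≠ (q : ZMod (2 * q)))
    (hj : j ≠ 0 ∧ j ≠ (q : ZMod (2 * q))) {θ : IrrCharacter ↥(locA D S.z)}
    (hθ : diffCoef S i j θ ≠ 0) (w : ↥(locA D S.z))
    (hw : ∀ r, ((w : cz S.z) : G) ≠ S.r r) : (θ : ↥(locA D S.z) → ℂ) w = 0 := by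
  classical
  set φ := rotHom S (rot_mem_cz_z S) with hφ
  set F : ZMod (2 * q) → ℂ := fun r => (θ : ↥(locA D S.z) → ℂ) (φ (Multiplicative.ofAdd r)) with hF
  obtain ⟨m, hm⟩ := exists_coeff (F := F) (by
    have := Char.isGeneralized_of_isCharacter (Char.isCharacter_comp φ (Char.isCharacter_of_isIrr θ.2))
    exact this)
  have hs : ∀ r, F (S.s * r) = F r := fun r => by
    have hy : S.y ∈ cz S.z := mem_cz_iff.mpr (S.z_commute S.y_mem)
    have e1 : φ (Multiplicative.ofAdd (S.s * r)) =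
        (⟨⟨S.y, hy⟩, S.y_mem⟩ : ↥(locA D S.z)) * φ (Multiplicative.ofAdd r) *
          (⟨⟨S.y, hy⟩, S.y_mem⟩ : ↥(locA D S.z))⁻¹ :=
      Subtype.ext (Subtype.ext (S.conj_r r).symm)
    simp only [hF, e1]
    exact irr_classFunction θ _ _
  have hsym := coeff_symm hm S.s_sq hs
  -- a free coefficient
  obtain ⟨k, hk, hk0⟩ : ∃ k, (k ≠ 0 ∧ k ≠ (q : ZMod (2 * q))) ∧ m k ≠ 0 := by
    by_contra hall
    push Not at hall
    refine hθ ?_
    have hcoef : ∀ k, ((2 * q : ℕ) : ℂ) * (m k : ℂ) = conj (∑ r, conj (F r) * zeta (k * r)) := by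
      intro k
      rw [coeff_eq hm, map_sum]
      exact Finset.sum_congr rfl fun r _ => by rw [map_mul, Complex.conj_conj, zeta_neg]
    have h0 : ∀ k, m k = 0 → ∑ r, conj (F r) * zeta (k * r) = 0 := fun k hk => by
      have := hcoef k
      rw [hk, Int.cast_zero, mul_zero, eq_comm, map_eq_zero] at this
      exact this
    rw [diffCoef]
    simp only [mul_sub, Finset.sum_sub_distrib]
    rw [show ∑ r, conj ((θ : ↥(locA D S.z) → ℂ) (rotHom S (rot_mem_cz_z S)
        (Multiplicative.ofAdd r))) * zeta (i * r) = 0 from h0 i (hall i hi),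
      show ∑ r, conj ((θ : ↥(locA D S.z) → ℂ) (rotHom S (rot_mem_cz_z S)
        (Multiplicative.ofAdd r))) * zeta (j * r) = 0 from h0 j (hall j hj), mul_zero, sub_zero]
  have hne : k ≠ S.s * k := fun h => by
    rcases S.s_fix h.symm with h | h
    exacts [hk.1 h, hk.2 h]
  have h2 : (2 : ℤ) ≤ ∑ l, m l ^ 2 := by
    refine le_trans ?_ (Finset.sum_le_univ_sum_of_nonneg (s := {k, S.s * k}) fun _ => sq_nonneg _)
    rw [Finset.sum_pair hne, hsym]
    have := sq_pos_of_ne_zero hk0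
    omega
  -- the norm
  let g : ZMod (2 * q) ⊕ ZMod (2 * q) → ↥(locA D S.z) := Sum.elim
    (fun r => φ (Multiplicative.ofAdd r))
    fun r => ⟨⟨S.r r * S.y, mul_mem (rot_mem_cz_z S r) (mem_cz_iff.mpr (S.z_commute S.y_mem))⟩,
      S.outer_mem r⟩
  have hg : Function.Bijective g := by
    constructor
    · rintro (r | r) (r' | r') h <;>
        have h' := congrArg (fun w : ↥(locA D S.z) => ((w : cz S.z) : G)) h
      · exact congrArg Sum.inl (S.r_inj h')
      · exact absurd (show S.r r = S.r r' * S.y from h').symm (S.outer_ne r' r)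
      · exact absurd (show S.r r * S.y = S.r r' from h') (S.outer_ne r r')
      · exact congrArg Sum.inr (S.outer_inj h')
    · intro w
      obtain ⟨r, h | h⟩ := locA_cases S w
      · exact ⟨Sum.inl r, h.symm⟩
      · exact ⟨Sum.inr r, Subtype.ext (Subtype.ext h.symm)⟩
  have hnorm := Char.classInner_irr_self θ.2
  rw [classInner, ← Nat.card_eq_of_bijective g hg, Nat.card_sum, Nat.card_zmod,
    inv_mul_eq_iff_eq_mul₀ (Nat.cast_ne_zero.mpr (by have := S.two_le; omega)), mul_one,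
    ← hg.sum_comp (fun w => (θ : ↥(locA D S.z) → ℂ) w * conj ((θ : ↥(locA D S.z) → ℂ) w)),
    Fintype.sum_sum_type] at hnorm
  have hrot : ∑ r, (θ : ↥(locA D S.z) → ℂ) (g (Sum.inl r)) *
      conj ((θ : ↥(locA D S.z) → ℂ) (g (Sum.inl r))) = ((2 * q : ℕ) : ℂ) * ((∑ l, m l ^ 2 : ℤ) : ℂ) :=
    sum_normSq hm
  rw [hrot] at hnorm
  simp only [Complex.mul_conj] at hnorm
  have hre := congrArg Complex.re hnorm
  simp only [Complex.add_re, Complex.re_sum, Complex.ofReal_re, Complex.natCast_re,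
    Complex.mul_re, Complex.natCast_im, Complex.intCast_re, Complex.intCast_im, mul_zero, sub_zero,
    Nat.cast_add, Nat.cast_mul, Nat.cast_ofNat, Complex.re_ofNat] at hre
  have hout : ∑ r, Complex.normSq ((θ : ↥(locA D S.z) → ℂ) (g (Sum.inr r))) ≤ 0 := by
    have h2' : (2 : ℝ) ≤ ((∑ l, m l ^ 2 : ℤ) : ℝ) := by exact_mod_cast h2
    have hq : (0 : ℝ) ≤ 2 * q := by positivity
    nlinarith [mul_le_mul_of_nonneg_left h2' hq]
  obtain ⟨r, hr | hr⟩ := locA_cases S w
  · exact absurd (congrArg (fun w : ↥(locA D S.z) => ((w : cz S.z) : G)) hr) (hw r)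
  · have h0 := le_antisymm hout (Finset.sum_nonneg fun _ _ => Complex.normSq_nonneg _)
    rw [Finset.sum_eq_zero_iff_of_nonneg fun _ _ => Complex.normSq_nonneg _] at h0
    have := Complex.normSq_eq_zero.mp (h0 r (Finset.mem_univ r))
    rwa [show g (Sum.inr r) = w from Subtype.ext (Subtype.ext hr.symm)] at this

theorem sum_diffCoef_degree (i j : ZMod (2 * q)) :
    ∑ θ : IrrCharacter ↥(locA D S.z), diffCoef S i j θ * (θ : ↥(locA D S.z) → ℂ) 1 = 0 := by
  classical
  have key : ∀ r : ZMod (2 * q), r ≠ 0 → ∑ θ : IrrCharacter ↥(locA D S.z),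
      conj ((θ : ↥(locA D S.z) → ℂ) (rotHom S (rot_mem_cz_z S) (Multiplicative.ofAdd r))) *
        (θ : ↥(locA D S.z) → ℂ) 1 = 0 := fun r hr => by
    have := Char.column_orthogonality (1 : ↥(locA D S.z))
      (rotHom S (rot_mem_cz_z S) (Multiplicative.ofAdd r))
    rw [if_neg fun h => hr (S.r_eq_one_iff.mp
      (congrArg (fun w : ↥(locA D S.z) => ((w : cz S.z) : G)) (isConj_one_right.mp h)))]
      at this
    rw [← this]
    exact Finset.sum_congr rfl fun θ _ => mul_comm _ _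
  simp only [diffCoef, Finset.mul_sum, Finset.sum_mul]
  rw [Finset.sum_comm]
  refine Finset.sum_eq_zero fun r _ => ?_
  refine (Finset.sum_congr rfl (g := fun θ : IrrCharacter ↥(locA D S.z) =>
    (((2 * q : ℕ) : ℂ)⁻¹ * (zeta (i * r) - zeta (j * r))) *
    (conj ((θ : ↥(locA D S.z) → ℂ) (rotHom S (rot_mem_cz_z S) (Multiplicative.ofAdd r))) *
      (θ : ↥(locA D S.z) → ℂ) 1)) fun θ _ => by ring).trans ?_
  rw [← Finset.mul_sum]
  rcases eq_or_ne r 0 with rfl | hr
  · rw [mul_zero, mul_zero, sub_self, mul_zero, zero_mul]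
  · rw [key r hr, mul_zero]

variable (hM : IsPModular 2 M) (hloc : IsLocalPair 2 M D e S.z b f)
  (hΨ : IsNilImage 2 M (locA D S.z) f b χ₀ Ψ)
include hM hloc hΨ

/-- Where the difference does not vanish the two-part is fused to a rotation. -/
theorem exists_rot_of_diffFun_ne_zero {i j : ZMod (2 * q)} (hi : i ≠ 0 ∧ i ≠ (q : ZMod (2 * q)))
    (hj : j ≠ 0 ∧ j ≠ (q : ZMod (2 * q))) {g : cz S.z} (hg : diffFun S Ψ i j g ≠ 0) :
    ∃ r : ZMod (2 * q), r ≠ 0 ∧ ∃ v : cz S.z,
      IsConj (⟨S.r r, rot_mem_cz_z S r⟩ : cz S.z) v ∧ Subgroup.zpowers v ≤ Subgroup.zpowers g := by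
  classical
  obtain ⟨v, s, h, rfl⟩ := exists_sectionPoint (p := 2) Nat.prime_two g
  have hs : IsPRegular 2 (⟨s, mem_centralizer_zpowers h.comm⟩ : cz v) := by
    rw [IsPRegular, ← Subgroup.orderOf_coe]
    exact h.regular
  obtain ⟨θ, -, hθ⟩ : ∃ θ ∈ Finset.univ, (diffCoef S i j θ • (Ψ θ : cz S.z → ℂ)) (v * s) ≠ 0 :=
    Finset.exists_ne_zero_of_sum_ne_zero (by rwa [diffFun, Finset.sum_apply] at hg)
  rw [Pi.smul_apply, smul_eq_mul, mul_ne_zero_iff] at hθ
  by_cases hex : ∃ r : ZMod (2 * q), IsConj (⟨S.r r, rot_mem_cz_z S r⟩ : cz S.z) v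
  swap
  · refine absurd (nilImage_vanish hM hloc.max hΨ θ
      {w | ∃ r, w = ⟨S.r r, rot_mem_cz_z S r⟩}
      (fun w hw => diffCoef_vanish hi hj hθ.1 w fun r hr => hw ⟨r, Subtype.ext hr⟩) h.pElem
      (fun w ⟨r, hr⟩ hc => hex ⟨r, hr ▸ hc⟩) hs) hθ.2
  obtain ⟨r, hr⟩ := hex
  refine ⟨r, fun h0 => hg ?_, v, hr, zpowers_le_of_sectionPoint Nat.prime_two h.comm h.pElem h.regular⟩
  have hv : v = 1 := by
    subst h0
    exact isConj_one_right.mp ((show (⟨S.r 0, rot_mem_cz_z S 0⟩ : cz S.z) = 1 from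
      Subtype.ext S.r_zero) ▸ hr)
  rw [hv, one_mul, diffFun, Finset.sum_apply]
  simp only [Pi.smul_apply, smul_eq_mul, hΨ.regular _ s h.regular, ← mul_assoc]
  rw [← Finset.sum_mul, sum_diffCoef_degree, zero_mul]

theorem diffFun_one {i j : ZMod (2 * q)} : diffFun S Ψ i j 1 = 0 := by
  rw [diffFun, Finset.sum_apply]
  simp only [Pi.smul_apply, smul_eq_mul, hΨ.regular _ 1 (by simp [IsPRegular]), ← mul_assoc]
  rw [← Finset.sum_mul, sum_diffCoef_degree, zero_mul]

/-- An involution other than `z` is not fused to a rotation in `C(z)`. -/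
theorem not_conj_rot {t : cz S.z} (h1 : t ≠ 1) (ht : t * t = 1) (hz : (t : G) ≠ S.z)
    (r : ZMod (2 * q)) : ¬ IsConj (⟨S.r r, rot_mem_cz_z S r⟩ : cz S.z) t := by
  intro hc
  obtain ⟨c, hc⟩ := isConj_iff.mp hc.symm
  have hc' : (c : G) * t * (c : G)⁻¹ = S.r r := congrArg Subtype.val hc
  have hsq : S.r r * S.r r = 1 := by
    rw [← hc']
    calc (c : G) * t * (c : G)⁻¹ * ((c : G) * t * (c : G)⁻¹)
        = (c : G) * ((t : G) * t) * (c : G)⁻¹ := by group
      _ = 1 := by rw [← Subgroup.coe_mul, ht, Subgroup.coe_one, mul_one, mul_inv_cancel]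
  rcases S.r_sq_eq_one hsq with h | h <;> rw [h] at hc'
  · exact h1 (Subtype.ext (conj_eq_one_iff.mp hc'))
  · refine hz ?_
    have := congrArg (fun g => (c : G)⁻¹ * g * (c : G)) hc'
    simp only [show (c : G)⁻¹ * ((c : G) * t * (c : G)⁻¹) * (c : G) = t by group] at this
    rw [this, mul_assoc, ← mem_cz_iff.mp c.2, inv_mul_cancel_left]

open Classical in
/-- The sum over the products of two conjugates of `z`. -/
theorem sum_pairs_diffFun {i j : ZMod (2 * q)}
    (hi : i ≠ 0 ∧ i ≠ (q : ZMod (2 * q))) (hj : j ≠ 0 ∧ j ≠ (q : ZMod (2 * q))) :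
    ∑ t ∈ Finset.univ.filter (fun t : G => IsConj S.z t),
      ∑ t' ∈ Finset.univ.filter (fun t : G => IsConj S.z t),
        extendByZero (cz S.z) (diffFun S Ψ i j) (t * t') = 0 := by
  set C := Finset.univ.filter fun t : G => IsConj S.z t with hC
  set W := Finset.univ.filter fun t : cz S.z => IsConj S.z (t : G) ∧ (t : G) ≠ S.z with hW
  set zK : cz S.z := ⟨S.z, mem_cz_iff.mpr rfl⟩ with hzK
  have hinv : ∀ t : G, IsConj S.z t → t * t = 1 ∧ t ≠ 1 := fun t ht => by
    obtain ⟨c, rfl⟩ := isConj_iff.mp ht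
    refine ⟨by
      calc c * S.z * c⁻¹ * (c * S.z * c⁻¹) = c * (S.z * S.z) * c⁻¹ := by group
        _ = 1 := by rw [S.z_sq, mul_one, mul_inv_cancel], fun h => S.z_ne_one (conj_eq_one_iff.mp h)⟩
  -- only pairs inside the centralizer count
  have hin : ∀ t ∈ C, ∀ t' ∈ C, extendByZero (cz S.z) (diffFun S Ψ i j) (t * t') ≠ 0 →
      t ∈ cz S.z ∧ t' ∈ cz S.z := by
    intro t ht t' ht' hne
    have hmem : t * t' ∈ cz S.z := by
      by_contra h
      exact hne (Char.extendByZero_notMem _ _ h)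
    rw [Char.extendByZero_mem _ _ hmem] at hne
    obtain ⟨r, hr0, v, hrv, hvg⟩ := exists_rot_of_diffFun_ne_zero hM hloc hΨ hi hj hne
    obtain ⟨c, hc⟩ := isConj_iff.mp hrv
    obtain ⟨m, hm⟩ := Subgroup.mem_zpowers_iff.mp (S.z_mem_zpowers_rot hr0)
    have hzv : zK ∈ Subgroup.zpowers v := by
      refine ⟨m, Subtype.ext ?_⟩
      show ((v ^ m : cz S.z) : G) = S.z
      rw [← hc, conj_zpow, Subgroup.coe_mul, Subgroup.coe_mul, Subgroup.coe_inv,
        Subgroup.coe_zpow, show ((⟨S.r r, rot_mem_cz_z S r⟩ : cz S.z) : G) = S.r r from rfl, hm,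
        mem_cz_iff.mp c.2, mul_inv_cancel_right]
    obtain ⟨l, hl⟩ := Subgroup.mem_zpowers_iff.mp (hvg hzv)
    have hl' : (t * t') ^ l = S.z := congrArg Subtype.val hl
    obtain ⟨ht1, -⟩ := hinv t (Finset.mem_filter.mp ht).2
    obtain ⟨ht2, -⟩ := hinv t' (Finset.mem_filter.mp ht').2
    have htinv : t⁻¹ = t := inv_eq_of_mul_eq_one_left ht1
    have htinv' : t'⁻¹ = t' := inv_eq_of_mul_eq_one_left ht2
    have hflip : t * (t * t') * t⁻¹ = (t * t')⁻¹ := by
      rw [mul_inv_rev, htinv', htinv, ← mul_assoc t t t', ht1, one_mul]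
    have htz : t * S.z * t⁻¹ = S.z := by
      rw [← hl', ← conj_zpow, hflip, inv_zpow, hl', inv_eq_of_mul_eq_one_left S.z_sq]
    have htK : t ∈ cz S.z := mem_cz_iff.mpr (mul_inv_eq_iff_eq_mul.mp htz)
    exact ⟨htK, (Subgroup.mul_mem_cancel_left _ htK).mp hmem⟩
  set CK := Finset.univ.filter fun t : cz S.z => IsConj S.z (t : G) with hCK
  have hCKimg : ∀ (F : G → ℂ), (∀ t ∈ C, F t ≠ 0 → t ∈ cz S.z) →
      ∑ t ∈ C, F t = ∑ t ∈ CK, F (t : G) := by
    intro F hF
    rw [← Finset.sum_filter_of_ne hF]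
    exact Finset.sum_bij' (fun t ht => (⟨t, (Finset.mem_filter.mp ht).2⟩ : cz S.z))
      (fun t _ => (t : G))
      (fun t ht => Finset.mem_filter.mpr
        ⟨Finset.mem_univ _, (Finset.mem_filter.mp (Finset.mem_filter.mp ht).1).2⟩)
      (fun t ht => Finset.mem_filter.mpr ⟨Finset.mem_filter.mpr ⟨Finset.mem_univ _,
        (Finset.mem_filter.mp ht).2⟩, t.2⟩) (fun _ _ => rfl) (fun _ _ => rfl) fun _ _ => rfl
  rw [hCKimg _ fun t ht hne => by
    obtain ⟨t', ht', h'⟩ := Finset.exists_ne_zero_of_sum_ne_zero hne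
    exact (hin t ht t' ht' h').1]
  rw [Finset.sum_congr rfl (g := fun t : cz S.z => ∑ t' ∈ CK, diffFun S Ψ i j (t * t')) fun t ht => by
    rw [hCKimg _ fun t' ht' h' =>
      (hin (t : G) (Finset.mem_filter.mpr ⟨Finset.mem_univ _, (Finset.mem_filter.mp ht).2⟩)
        t' ht' h').2]
    exact Finset.sum_congr rfl fun t' _ => Char.extendByZero_coe _ _ (t * t')]
  -- the pairs with the central element
  have hzmem : zK ∈ CK := Finset.mem_filter.mpr ⟨Finset.mem_univ _, IsConj.refl _⟩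
  have hcases : ∀ t ∈ CK, t = zK ∨ t ∈ W := fun t ht => by
    by_cases h : (t : G) = S.z
    · exact Or.inl (Subtype.ext h)
    · exact Or.inr (Finset.mem_filter.mpr ⟨Finset.mem_univ _, (Finset.mem_filter.mp ht).2, h⟩)
  have hzcomm : ∀ t : cz S.z, zK * t = t * zK := fun t => Subtype.ext (mem_cz_iff.mp t.2).symm
  have hvanish : ∀ θ : IrrCharacter ↥(locA D S.z), diffCoef S i j θ ≠ 0 → ∀ t : cz S.z, t ≠ 1 →
      t * t = 1 → (t : G) ≠ S.z → (Ψ θ : cz S.z → ℂ) t = 0 := by
    intro θ hθ t h1 ht hz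
    have hord : ∃ k : ℕ, orderOf t = 2 ^ k :=
      ⟨1, by rw [pow_one]; exact orderOf_eq_prime (by rw [sq]; exact ht) h1⟩
    have h := nilImage_vanish hM hloc.max hΨ θ {w | ∃ r, w = ⟨S.r r, rot_mem_cz_z S r⟩}
      (fun w hw => diffCoef_vanish hi hj hθ w fun r hr => hw ⟨r, Subtype.ext hr⟩) hord
      (fun w ⟨r, hr⟩ hc => not_conj_rot hM hloc hΨ h1 ht hz r (hr ▸ hc)) (s := 1) (by simp [IsPRegular])
    simpa using h
  have hW0 : ∀ t ∈ W, diffFun S Ψ i j (zK * t) = 0 := fun t ht => by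
    obtain ⟨-, htc, htz⟩ := Finset.mem_filter.mp ht
    obtain ⟨ht2, ht1⟩ := hinv _ htc
    rw [diffFun, Finset.sum_apply]
    refine Finset.sum_eq_zero fun θ _ => ?_
    rw [Pi.smul_apply, smul_eq_mul]
    by_cases hθ : diffCoef S i j θ = 0
    · rw [hθ, zero_mul]
    have hne : zK * t ≠ 1 := fun h => htz (by
      have h' : S.z * (t : G) = 1 := congrArg Subtype.val h
      exact (eq_inv_of_mul_eq_one_right h').trans (inv_eq_of_mul_eq_one_left S.z_sq))
    have hsq : zK * t * (zK * t) = 1 := by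
      refine Subtype.ext ?_
      show S.z * (t : G) * (S.z * (t : G)) = 1
      calc S.z * (t : G) * (S.z * (t : G)) = S.z * ((t : G) * S.z) * (t : G) := by group
        _ = 1 := by rw [mem_cz_iff.mp t.2, ← mul_assoc, S.z_sq, one_mul, ht2]
    have hnz : ((zK * t : cz S.z) : G) ≠ S.z := fun h =>
      ht1 (mul_eq_left.mp (show S.z * (t : G) = S.z from h))
    rw [hvanish θ hθ _ hne hsq hnz, mul_zero]
  have hsplit : CK = insert zK W := by
    ext t
    refine ⟨fun ht => Finset.mem_insert.mpr (hcases t ht), fun ht => ?_⟩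
    rcases Finset.mem_insert.mp ht with rfl | ht
    exacts [hzmem, Finset.mem_filter.mpr ⟨Finset.mem_univ _, (Finset.mem_filter.mp ht).2.1⟩]
  have hznot : zK ∉ W := fun h => (Finset.mem_filter.mp h).2.2 rfl
  have hzz : zK * zK = 1 := Subtype.ext S.z_sq
  rw [hsplit, Finset.sum_insert hznot]
  simp only [Finset.sum_insert hznot]
  rw [hzz, diffFun_one hM hloc hΨ, Finset.sum_eq_zero hW0, add_zero, zero_add,
    Finset.sum_add_distrib, Finset.sum_eq_zero fun t ht => by rw [← hzcomm]; exact hW0 t ht,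
    zero_add]
  -- the products inside `W`
  simp only [diffFun, Finset.sum_apply, Pi.smul_apply, smul_eq_mul]
  rw [Finset.sum_congr rfl fun t _ => Finset.sum_comm, Finset.sum_comm]
  refine Finset.sum_eq_zero fun θ _ => ?_
  simp only [← Finset.mul_sum]
  by_cases hθ : diffCoef S i j θ = 0
  · rw [hθ, zero_mul]
  refine mul_eq_zero_of_right _ ?_
  have h := sum_pairs_mul (Ψ θ) W fun t ht x => by
    obtain ⟨-, htc, htz⟩ := Finset.mem_filter.mp ht
    refine Finset.mem_filter.mpr ⟨Finset.mem_univ _, htc.trans (isConj_iff.mpr ⟨(x : G), rfl⟩), fun h => htz ?_⟩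
    have h' : (x : G) * t * (x : G)⁻¹ = S.z := h
    rw [show (t : G) = (x : G)⁻¹ * ((x : G) * t * (x : G)⁻¹) * x by group, h', mul_assoc,
      ← mem_cz_iff.mp x.2, inv_mul_cancel_left]
  rw [Finset.sum_eq_zero fun t ht => hvanish θ hθ t (fun e => (hinv _ (Finset.mem_filter.mp ht).2.1).2
      (by rw [e]; rfl)) (Subtype.ext (hinv _ (Finset.mem_filter.mp ht).2.1).1)
      (Finset.mem_filter.mp ht).2.2, zero_pow two_ne_zero, mul_eq_zero] at h
  exact h.resolve_left (Char.irr_degree_ne_zero (Ψ θ).2)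

end Zed

end CfsgLib.Blocks.TameTwo
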