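import Cfsg.Agent.Lib.Blocks.NilpotentStar

/-!
# The characters of a nilpotent block relative to an arbitrary member of height zero

Any member of height zero of a nilpotent block with defect group `P` is a base of the bijection
between the characters of `P` and those of the block; the parts of the images are the multiples of
the parts of the base by the values of the characters of `P`, and all contributions of the base are
one.
-/

set_option autoImplicit false
set_option linter.unusedSectionVars false

namespace CfsgLib.Blocks.TameTwo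

open Cfsg
open CfsgLib.GrpRing
open scoped ComplexConjugate CfsgLib.Char

variable {p : ℕ} {M : Ideal AlgInt} [M.IsPrime] {G : Type*} [Group G] [Fintype G] {P : Subgroup G}
  {e : Set (IrrCharacter (Subgroup.centralizer (P : Set G)))} {B : Set (IrrCharacter G)}

/-- The contributions of a member of height zero of a nilpotent block are one. -/
theorem contrib_eq_one (hM : IsPModular p M) (hmax : IsMaximalBrauerPair p M B P e)
    (hnil : IsNilpotentBlock p M B) {χ : IrrCharacter G} (hχ : χ ∈ B)
    (h0 : blockHeight p B (χ : G → ℂ) = 0) (u : ↥P) : contrib p M P e (χ : G → ℂ) (u : G) = 1 := by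
  classical
  have hB := hmax.1.2.1
  have hinn := hasInnerMaps_of_nilpotent hM hmax hnil
  choose q hq hint hne hpos using contrib_facts hM hmax hinn hχ h0
  have htriv : starChar p M (χ : G → ℂ) (pairVal p M e (lamExt (1 : ↥P →* ℂˣ))) = (χ : G → ℂ) :=
    starW_eq_pairVal (p := p) (M := M) (e := e) (1 : ↥P →* ℂˣ) ▸ starChar_one hM hmax hχ
  have hst1 : ∀ a ∈ P, ∀ y, lamExt (1 : ↥P →* ℂˣ) (a * y * a⁻¹) = lamExt (1 : ↥P →* ℂˣ) y := by
    intro a ha y
    have : a * y * a⁻¹ ∈ P ↔ y ∈ P := by
      rw [Subgroup.mul_mem_cancel_right _ (inv_mem ha), Subgroup.mul_mem_cancel_left _ ha]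
    by_cases hy : y ∈ P
    · simp [lamExt, hy, this.mpr hy]
    · simp [lamExt, hy, this]
  have hgen1 : IsGeneralizedCharacter ↥P (fun y : ↥P => lamExt (1 : ↥P →* ℂˣ) (y : G)) := by
    convert Char.isGeneralized_of_isCharacter (Char.isCharacter_monoidHom (1 : ↥P →* ℂˣ)) using 1
    funext y
    exact lamExt_of_mem _ y.2
  have hsum : ∑ u : ↥P, (q u : ℂ) = (Nat.card P : ℂ) := by
    have h := classInner_starChar_pairVal hM hmax hinn (irr_classFunction χ) (irr_classFunction χ)
      hst1 hst1 hgen1 hgen1
    rw [htriv, Char.classInner_irr_self χ.2, eq_comm,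
      inv_mul_eq_iff_eq_mul₀ (Nat.cast_ne_zero.mpr Nat.card_pos.ne'), mul_one] at h
    rw [← h]
    refine Finset.sum_congr rfl fun u _ => ?_
    rw [hq u, contrib, lamExt_mul_conj _ u.2, one_mul]
  have hone : ∀ u : ↥P, q u = 1 := fun u => eq_one_of_sum_embedding Finset.univ q (fun i _ => hint i)
    (fun i _ => hne i) (fun i _ => hpos i) (fun ψ => by
      have h : (∑ u : ↥P, q u) = ((Nat.card P : ℕ) : Char.QBar) := Subtype.ext (by
        push_cast
        rw [hsum])
      rw [← map_sum, h, map_natCast, Finset.card_univ, Nat.card_eq_fintype_card]) u (Finset.mem_univ u)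
  rw [← hq u, hone u]
  rfl

variable (p M P e B) in
/-- `Ψ` is the bijection with base `χ₀` between the characters of `P` and those of `B`. -/
structure IsNilImage (χ₀ : IrrCharacter G) (Ψ : IrrCharacter ↥P → IrrCharacter G) : Prop where
  inj : Function.Injective Ψ
  mem : ∀ θ, Ψ θ ∈ B
  surj : ∀ ψ ∈ B, ∃ θ, Ψ θ = ψ
  regular : ∀ θ, ∀ g : G, IsPRegular p g →
    (Ψ θ : G → ℂ) g = (θ : ↥P → ℂ) 1 * (χ₀ : G → ℂ) g
  part : ∀ θ, ∀ (u : ↥P) (b : Set (IrrCharacter (cz (u : G)))),
    SubpairLE p M (Subgroup.zpowers (u : G)) b P e → ∀ s : cz (u : G), IsPRegular p s →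
      blockPart b (sect (Ψ θ : G → ℂ) (u : G)) s =
        (θ : ↥P → ℂ) u * blockPart b (sect (χ₀ : G → ℂ) (u : G)) s

theorem exists_nilImage (hM : IsPModular p M) (hmax : IsMaximalBrauerPair p M B P e)
    (hnil : IsNilpotentBlock p M B) {χ : IrrCharacter G} (hχ : χ ∈ B)
    (h0 : blockHeight p B (χ : G → ℂ) = 0) :
    ∃ Ψ : IrrCharacter ↥P → IrrCharacter G, IsNilImage p M P e B χ Ψ := by
  classical
  have hB := hmax.1.2.1
  have hinn := hasInnerMaps_of_nilpotent hM hmax hnil
  have hone := contrib_eq_one hM hmax hnil hχ h0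
  have hgenη : ∀ η : IrrCharacter ↥P,
      IsGeneralizedCharacter ↥P (fun y : ↥P => extendByZero P (η : ↥P → ℂ) (y : G)) := fun η => by
    convert Char.isGeneralized_of_isIrr η.2 using 1
    funext y
    exact extendByZero_apply P (η : ↥P → ℂ) y
  set im : IrrCharacter ↥P → G → ℂ :=
    fun η => starChar p M (χ : G → ℂ) (pairVal p M e (extendByZero P (η : ↥P → ℂ)))
  have horth : ∀ η η' : IrrCharacter ↥P,
      classInner (im η) (im η') = classInner (η : ↥P → ℂ) (η' : ↥P → ℂ) := fun η η' => by
    rw [classInner_starChar_pairVal hM hmax hinn (irr_classFunction χ) (irr_classFunction χ)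
      (extendByZero_stable (irr_classFunction η)) (extendByZero_stable (irr_classFunction η'))
      (hgenη η) (hgenη η'), classInner]
    congr 1
    refine Finset.sum_congr rfl fun u _ => ?_
    rw [show centRatio P (u : G) * pairSum p M (χ : G → ℂ) (χ : G → ℂ) (u : G)
        (topPair p M P e (u : G)) = 1 from hone u, mul_one,
      extendByZero_apply, extendByZero_apply]
  have hval : ∀ (η : IrrCharacter ↥P) (g : G), IsPRegular p g →
      im η g = (η : ↥P → ℂ) 1 * (χ : G → ℂ) g := fun η g hg => by
    rw [show im η g = _ from starChar_pairVal_of_regular hM hmax _ hχ hg]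
    congr 1
    exact extendByZero_apply P (η : ↥P → ℂ) 1
  have himg : ∀ η : IrrCharacter ↥P, ∃ ψ : IrrCharacter G, (ψ : G → ℂ) = im η ∧ ψ ∈ B ∧
      charDegree (ψ : G → ℂ) = charDegree (η : ↥P → ℂ) * charDegree (χ : G → ℂ) := fun η => by
    have h1 := (horth η η).trans (Char.classInner_irr_self η.2)
    obtain ⟨ε, hε, ψ, hψ⟩ := Char.exists_of_norm_one (isGeneralized_starChar hM
      (Char.isCharacter_of_isIrr χ.2) (isPairWeight_pairVal hM hmax hinn
        (extendByZero_stable (irr_classFunction η)) (hgenη η))) h1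
    have hdeg := congrFun hψ 1
    rw [show starChar p M (χ : G → ℂ) (pairVal p M e (extendByZero P (η : ↥P → ℂ))) 1 = _ from
        hval η 1 (by simp [IsPRegular, hM.1.ne_one]), Pi.smul_apply, smul_eq_mul,
      (irr_degree_eq χ).1, (irr_degree_eq ψ).1, (irr_degree_eq η).1] at hdeg
    have hε1 : ε = 1 := by
      rcases hε with h | h
      · exact h
      · exfalso
        have h' : ((charDegree (η : ↥P → ℂ) * charDegree (χ : G → ℂ) + charDegree (ψ : G → ℂ) : ℕ)
            : ℂ) = 0 := by
          push_cast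
          rw [hdeg, h]
          ring
        have := (irr_degree_eq ψ).2
        have := Nat.cast_eq_zero.mp h'
        omega
    rw [hε1, one_smul] at hψ
    rw [hε1, one_mul] at hdeg
    refine ⟨ψ, hψ.symm, ?_, by exact_mod_cast hdeg.symm⟩
    by_contra hψB
    have h2 := classInner_starChar_outside hM hB hχ hψB
      (pairVal p M e (extendByZero P (η : ↥P → ℂ)))
    rw [hψ, Char.classInner_irr_self ψ.2] at h2
    exact one_ne_zero h2
  choose ψ hψ hψB hψdeg using himg
  have hinj : Function.Injective (fun η => (⟨ψ η, hψB η⟩ : B)) := by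
    intro η η' h
    by_contra hne
    have h1 := horth η η'
    rw [Char.classInner_irr_ne η.2 η'.2 fun he => hne (Subtype.ext he), ← hψ η, ← hψ η',
      show ψ η = ψ η' from congrArg Subtype.val h, Char.classInner_irr_self (ψ η').2] at h1
    exact one_ne_zero h1
  have hsurj : Function.Surjective (fun η => (⟨ψ η, hψB η⟩ : B)) := by
    rintro ⟨θ, hθ⟩
    by_contra hcon
    push Not at hcon
    have hfun : (∑ η : IrrCharacter ↥P, (η : ↥P → ℂ) 1 • (ψ η : G → ℂ)) =
        (Nat.card P : ℂ) • regPart p (χ : G → ℂ) := funext fun g => by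
      simp only [Finset.sum_apply, Pi.smul_apply, smul_eq_mul, hψ]
      exact sum_degree_mul_starChar hM hmax hχ g
    have h1 := congrArg (fun F => classInner F (θ : G → ℂ)) hfun
    simp only [Char.classInner_sum_left, Char.classInner_smul_left] at h1
    rw [Finset.sum_eq_zero fun η _ => by
      rw [Char.classInner_irr_ne (ψ η).2 θ.2 fun he => hcon η (Subtype.ext (Subtype.ext he)),
        mul_zero], eq_comm, mul_eq_zero, or_iff_right (Nat.cast_ne_zero.mpr Nat.card_pos.ne')] at h1
    refine not_memLocalIdeal_omega_dualReg hM hB hχ h0 hθ ?_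
    rw [omega_dualReg, classInner_regPart_comm, h1, mul_zero, zero_div]
    exact memLocalIdeal_zero
  refine ⟨ψ, fun η η' h => hinj (Subtype.ext h), hψB, fun φ hφ => ?_, fun η g hg => ?_, ?_⟩
  · obtain ⟨η, hη⟩ := hsurj ⟨φ, hφ⟩
    exact ⟨η, congrArg Subtype.val hη⟩
  · rw [hψ, hval η g hg]
  · intro η u b hle s hs
    have hu := exists_pow_orderOf_mem hM hmax.1.1.1 u
    refine (blockPart_weighted hM (SubpairLE.isBrauerPair hle hmax.1.1).2 (θ := sect (χ : G → ℂ) (u : G))
      (fun b' => pairVal p M e (extendByZero P (η : ↥P → ℂ)) (u : G) ⟨Subgroup.zpowers (u : G), b'⟩)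
      (fun t ht => ?_) hs).trans ?_
    · rw [sect, hψ]
      show starChar p M (χ : G → ℂ) _ ((u : G) * (t : G)) = _
      rw [starChar_section hM.1 (irr_classFunction χ) _ hu ht, subBlocks_eq]
    · congr 1
      show pairVal p M e _ (u : G) ⟨Subgroup.zpowers (u : G), b⟩ = _
      rw [eq_topPair hM hmax.1.1 u.2 (a := ⟨Subgroup.zpowers (u : G), b⟩) rfl hle,
        pairVal_topPair hM hmax.1.1 hinn (extendByZero_stable (irr_classFunction η)) u.2]
      exact extendByZero_apply P (η : ↥P → ℂ) u

end CfsgLib.Blocks.TameTwo
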