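import Cfsg.Agent.Lib.Blocks.TameTwo.Mix
import Cfsg.Agent.Lib.Blocks.TameTwo.PairMatrix
import Cfsg.Agent.Lib.Blocks.TameTwo.Nilpotent
import Cfsg.Agent.Lib.Blocks.LocalBlock

/-!
# The nilpotent block at an element of the defect group

For `u ∈ D` with `|C_D(u)|` largest in its class the block of `C_G(u)` below `(D, e)` has a maximal
pair on `C_D(u)` lying below `(D, e)`.  When it is nilpotent, a member of height zero turns the
multiplicities in the restrictions into functions on `C_D(u)` whose products are the projections.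
-/

set_option autoImplicit false
set_option linter.unusedSectionVars false

namespace CfsgLib.Blocks.TameTwo

open Cfsg
open CfsgLib.GrpRing
open scoped ComplexConjugate CfsgLib.Char

variable {p : ℕ} {M : Ideal AlgInt} [M.IsPrime] {G : Type*} [Group G] [Fintype G]
  {D : Subgroup G} {e : Set (IrrCharacter (Subgroup.centralizer (D : Set G)))}
  {B : Set (IrrCharacter G)} {u : G} [Fintype (cz u)]

/-- The centralizer in `D` as a subgroup of the centralizer. -/
abbrev locA (D : Subgroup G) (u : G) : Subgroup (cz u) := D.subgroupOf (cz u)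

theorem card_locA : Nat.card (locA D u) = Nat.card ↥(D ⊓ cz u) := by
  rw [← card_inf_subgroupOf, Subgroup.inf_subgroupOf_right]

theorem card_inf_cz_local {v : cz u} (h : cz (v : G) ≤ cz u) :
    Nat.card ↥(locA D u ⊓ cz v) = Nat.card ↥(D ⊓ cz (v : G)) := by
  refine Nat.card_congr ⟨fun t => ⟨((t : cz u) : G), t.2.1, mem_cz_iff.mpr
      (congrArg Subtype.val (mem_cz_iff.mp t.2.2))⟩,
    fun t => ⟨⟨(t : G), h t.2.2⟩, t.2.1, mem_cz_iff.mpr (Subtype.ext (mem_cz_iff.mp t.2.2))⟩,
    fun _ => rfl, fun _ => rfl⟩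

theorem card_cz_local {v : cz u} (h : cz (v : G) ≤ cz u) :
    Nat.card (cz v) = Nat.card (cz (v : G)) := by
  refine Nat.card_congr ⟨fun t => ⟨((t : cz u) : G), mem_cz_iff.mpr
      (congrArg Subtype.val (mem_cz_iff.mp t.2))⟩,
    fun t => ⟨⟨(t : G), h t.2⟩, mem_cz_iff.mpr (Subtype.ext (mem_cz_iff.mp t.2))⟩,
    fun _ => rfl, fun _ => rfl⟩

variable (p M D e u) in
/-- `b` is the local block at `u` and `(C_D(u), f)` its maximal pair below `(D, e)`. -/
structure IsLocalPair (b : Set (IrrCharacter (cz u)))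
    (f : Set (IrrCharacter (Subgroup.centralizer (locA D u : Set (cz u))))) : Prop where
  le : SubpairLE p M (Subgroup.zpowers u) b D e
  defect : p ^ blockDefect p b = Nat.card ↥(D ⊓ cz u)
  max : IsMaximalBrauerPair p M b (locA D u) f
  compat : ∀ (v : cz u), v ∈ locA D u → cz (v : G) ≤ cz u →
    ∀ b' : Set (IrrCharacter (cz v)), SubpairLE p M (Subgroup.zpowers v) b' (locA D u) f →
      ∃ (Q : Subgroup G) (φ : cz v ≃* Subgroup.centralizer (Q : Set G)),
        (∀ c, (φ c : G) = ((c : cz u) : G)) ∧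
          topPair p M D e (v : G) = ⟨Q, irrEquiv φ '' b'⟩

theorem exists_localPair_of_pairs (hM : IsPModular p M) (hmax : IsMaximalBrauerPair p M B D e)
    (hu : u ∈ D)
    (hfull : ∀ u' ∈ D, PtConj (u, topPair p M D e u) (u', topPair p M D e u') →
      Nat.card ↥(D ⊓ cz u') ≤ Nat.card ↥(D ⊓ cz u)) :
    ∃ b f, IsLocalPair p M D e u b f := by
  classical
  have : Fact p.Prime := ⟨hM.1⟩
  have hDe := hmax.1.1
  obtain ⟨b, hb⟩ := exists_le_top hM hDe (Subgroup.zpowers_le.mpr hu)
  set A := locA D u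
  set P : Subgroup G := A.map (cz u).subtype with hP
  have hmem : ∀ z, z ∈ P ↔ z ∈ D ∧ z ∈ cz u := fun z =>
    ⟨fun ⟨a, ha, h⟩ => h ▸ ⟨ha, a.2⟩, fun h => ⟨⟨z, h.2⟩, h.1, rfl⟩⟩
  have hPD : P ≤ D := fun z hz => ((hmem z).mp hz).1
  have huP : Subgroup.zpowers u ≤ P := Subgroup.zpowers_le.mpr
    ((hmem u).mpr ⟨hu, mem_centralizer_zpowers (Commute.refl u)⟩)
  have hCP : Subgroup.centralizer (P : Set G) ≤ cz u :=
    Subgroup.centralizer_le (SetLike.coe_subset_coe.mpr huP)
  obtain ⟨e₁, he₁⟩ := exists_le_top hM hDe hPD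
  have he₁b : IsBrauerPair p M P e₁ := SubpairLE.isBrauerPair he₁ hDe
  obtain ⟨f, hf, hfe⟩ := exists_upBlock_eq hCP he₁b.2
  have hblock := (SubpairLE.isBrauerPair hb hDe).2
  -- the pair of `b`
  obtain ⟨b₂, hns, -⟩ := existsUnique_normalSubpair hM he₁b huP
    (fun z hz => Subgroup.centralizer_le_normalizer _ ((hmem z).mp hz).2)
  rw [← (existsUnique_subpair hM hDe (huP.trans hPD)).unique (y₁ := b) (y₂ := b₂) hb
    ((show SubpairLE p M _ b₂ P e₁ from Relation.ReflTransGen.single hns).trans he₁)] at hns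
  have hA : IsPGroup p A := hDe.1.comap_of_injective _ (Subgroup.subtype_injective _)
  have hpair : IsBrauerPairOf p M b A f := by
    refine ⟨⟨hA, hf⟩, hblock, fun ξ hξ => ?_⟩
    have h := hns.2.2.2.2.2 (irrEquiv (centEquiv A hCP) ξ) (hfe ▸ ⟨ξ, hξ, rfl⟩)
    rwa [brauerOmega_upBlock hCP (β' := blockCoeff b)
      (fun z => by rw [subgroupBlockCoeff_eq, extendByZero_apply]) ξ] at h
  have hd : p ^ blockDefect p b = Nat.card ↥(D ⊓ cz u) := by
    obtain ⟨x, hx, hcard⟩ := exists_conj_centralizer_eq hM hmax hb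
    refine le_antisymm ?_ (card_centralizerIn_le hM hDe hb).1
    rw [← hcard, map_zpowers_conj]
    have hu' : x * u * x⁻¹ ∈ D := hx.map_le ⟨u, Subgroup.mem_zpowers u, rfl⟩
    obtain ⟨f', hf', hf''⟩ := hx
    obtain rfl := (existsUnique_subpair hM hDe (Subgroup.zpowers_le.mpr hu)).unique hf' hb
    refine hfull _ hu' ⟨x, rfl, ?_⟩
    rw [← eq_topPair hM hDe (a := ⟨Subgroup.zpowers u, f'⟩) hu rfl hf']
    exact eq_topPair hM hDe hu' (map_zpowers_conj x u) hf''
  refine ⟨b, f, hb, hd, ?_, fun v hv hcz b' hb' => ?_⟩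
  · obtain ⟨⟨R, g⟩, hR, hle⟩ := exists_maximal_pair_above hM hpair
    have hAR : A ≤ R := SubpairLE.le hle
    have hcard : Nat.card R ≤ Nat.card A := by
      rw [card_locA, ← hd, IsDefectGroup.card_eq hM hblock (isDefectGroup_of_maximal hM hR)]
    have := pair_eq_of_le hM hle hR.1.1 (Subgroup.eq_of_le_of_card_ge hAR hcard)
    rwa [← this] at hR
  · have hmap : (Subgroup.zpowers v).map (cz u).subtype = Subgroup.zpowers (v : G) := by
      rw [MonoidHom.map_zpowers]; rfl
    have h' : Subgroup.centralizer (((Subgroup.zpowers v).map (cz u).subtype : Subgroup G) : Set G) ≤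
        cz u := by rw [hmap]; exact hcz
    refine ⟨(Subgroup.zpowers v).map (cz u).subtype, centEquiv _ h', fun c => rfl, ?_⟩
    have hle : SubpairLE p M ((Subgroup.zpowers v).map (cz u).subtype)
        (upBlock (Subgroup.zpowers v) h' b') P e₁ := hfe ▸ subpairLE_upBlock h' hCP hb'
    exact (eq_topPair hM hDe (u := (v : G)) (a := ⟨_, upBlock (Subgroup.zpowers v) h' b'⟩) hv hmap
      (hle.trans he₁)).symm

theorem exists_localPair (hM : IsPModular p M) (hmax : IsMaximalBrauerPair p M B D e) (hu : u ∈ D)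
    (hfull : ∀ u' ∈ D, IsConj u u' → Nat.card ↥(D ⊓ cz u') ≤ Nat.card ↥(D ⊓ cz u)) :
    ∃ b f, IsLocalPair p M D e u b f :=
  exists_localPair_of_pairs hM hmax hu fun u' hu' h =>
    hfull u' hu' (isConj_iff.mpr (h.imp fun _ hx => hx.1))

theorem IsLocalPair.isPBlock {b : Set (IrrCharacter (cz u))}
    {f : Set (IrrCharacter (Subgroup.centralizer (locA D u : Set (cz u))))}
    (h : IsLocalPair p M D e u b f) : IsPBlock M b := h.max.1.2.1

theorem IsLocalPair.topPair_eq (hM : IsPModular p M) (hmax : IsMaximalBrauerPair p M B D e)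
    (hu : u ∈ D) {b : Set (IrrCharacter (cz u))}
    {f : Set (IrrCharacter (Subgroup.centralizer (locA D u : Set (cz u))))}
    (h : IsLocalPair p M D e u b f) : topPair p M D e u = ⟨Subgroup.zpowers u, b⟩ :=
  (eq_topPair hM hmax.1.1 (a := ⟨Subgroup.zpowers u, b⟩) hu rfl h.le).symm

/-- Nilpotency from the fusion inside `D` of the pairs. -/
theorem isNilpotentBlock_local_of_pairs (hM : IsPModular p M)
    (hmax : IsMaximalBrauerPair p M B D e) {b : Set (IrrCharacter (cz u))}
    (hle : SubpairLE p M (Subgroup.zpowers u) b D e)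
    (hfix : ∀ u' ∈ D, PtConj (u, topPair p M D e u) (u', topPair p M D e u') →
      ∀ S : Subgroup G, S ≤ D → u' ∈ S →
      (∀ z ∈ S, z * u' = u' * z) → ∀ x : G, IsPRegular p x →
        x ∈ Subgroup.normalizer (S : Set G) → x * u' = u' * x → ∀ z ∈ S, x * z = z * x) :
    IsNilpotentBlock p M b := by
  classical
  have hpair : IsBrauerPairOf p M B (Subgroup.zpowers u) b :=
    (SubpairLE.isBrauerPairOf_iff hM hle hmax.1.2.1).mp hmax.1
  refine ⟨hpair.1.2, fun R r hR x hx hst hreg => ?_⟩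
  obtain ⟨hS, hxN, -⟩ := exists_pair_centSup hM hpair hR hx hst
  have hns : SubpairLE p M (Subgroup.zpowers u) b _ _ :=
    Relation.ReflTransGen.single (isNormalSubpair_centSup hpair.1 hR)
  set S := Subgroup.zpowers u ⊔ R.map (cz u).subtype with hSdef
  obtain ⟨g, hg⟩ := exists_conjPair_le_maximal hM hmax hS
  have hSD : S.map (MulAut.conj g).toMonoidHom ≤ D := PairLE.fst_le hg
  have hu' : g * u * g⁻¹ ∈ S.map (MulAut.conj g).toMonoidHom :=
    ⟨u, Subgroup.mem_sup_left (Subgroup.mem_zpowers u), rfl⟩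
  have hucomm : ∀ z ∈ S, z * u = u * z := by
    have h : S ≤ cz u := sup_le (Subgroup.zpowers_le.mpr (mem_centralizer_zpowers (Commute.refl u)))
      (Subgroup.map_subtype_le R)
    exact fun z hz => mem_cz_iff.mp (h hz)
  have hxS : g * (x : G) * g⁻¹ ∈
      Subgroup.normalizer ((S.map (MulAut.conj g).toMonoidHom : Subgroup G) : Set G) := by
    refine Subgroup.mem_normalizer_iff.mpr fun z => ?_
    rw [mem_map_conj_iff, mem_map_conj_iff,
      show g⁻¹ * (g * (x : G) * g⁻¹ * z * (g * (x : G) * g⁻¹)⁻¹) * g =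
        (x : G) * (g⁻¹ * z * g) * (x : G)⁻¹ by group]
    exact Subgroup.mem_normalizer_iff.mp hxN _
  have hu : u ∈ D := SubpairLE.le hle (Subgroup.mem_zpowers u)
  have hpt : PtConj (u, topPair p M D e u) (g * u * g⁻¹, topPair p M D e (g * u * g⁻¹)) := by
    refine ⟨g, rfl, ?_⟩
    rw [← eq_topPair hM hmax.1.1 (a := ⟨Subgroup.zpowers u, b⟩) hu rfl hle]
    exact eq_topPair hM hmax.1.1 (hSD hu') (map_zpowers_conj g u)
      ((subpairLE_conjPair g hns).trans hg)
  have key := hfix _ (hSD hu') hpt _ hSD hu'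
    (by
      rintro _ ⟨z, hz, rfl⟩
      show g * z * g⁻¹ * (g * u * g⁻¹) = g * u * g⁻¹ * (g * z * g⁻¹)
      have := congrArg (fun t => g * t * g⁻¹) (hucomm z hz)
      simpa [mul_assoc] using this)
    (g * (x : G) * g⁻¹)
    (by
      rw [IsPRegular, show orderOf (g * (x : G) * g⁻¹) = orderOf (x : G) from
        (MulAut.conj g).orderOf_eq _, Subgroup.orderOf_coe]
      exact hreg)
    hxS
    (by
      have := congrArg (fun t => g * t * g⁻¹) (mem_cz_iff.mp x.2)
      simpa [mul_assoc] using this)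
  intro z hz
  refine Subtype.ext ?_
  have h := key (g * (z : G) * g⁻¹) ⟨z, Subgroup.mem_sup_right ⟨z, hz, rfl⟩, rfl⟩
  have := congrArg (fun t => g⁻¹ * t * g) h
  simpa [mul_assoc] using this.symm

/-- Nilpotency from the fusion inside `D`. -/
theorem isNilpotentBlock_local (hM : IsPModular p M) (hmax : IsMaximalBrauerPair p M B D e)
    {b : Set (IrrCharacter (cz u))}
    (hle : SubpairLE p M (Subgroup.zpowers u) b D e)
    (hfix : ∀ u' ∈ D, IsConj u u' → ∀ S : Subgroup G, S ≤ D → u' ∈ S →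
      (∀ z ∈ S, z * u' = u' * z) → ∀ x : G, IsPRegular p x →
        x ∈ Subgroup.normalizer (S : Set G) → x * u' = u' * x → ∀ z ∈ S, x * z = z * x) :
    IsNilpotentBlock p M b :=
  isNilpotentBlock_local_of_pairs hM hmax hle fun u' hu' h =>
    hfix u' hu' (isConj_iff.mpr (h.imp fun _ hx => hx.1))

/-! ### The base and the functions -/

section Base

variable [Fintype ↥(locA D u)] {b : Set (IrrCharacter (cz u))}
  {f : Set (IrrCharacter (Subgroup.centralizer (locA D u : Set (cz u))))}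
  {χ₀ : IrrCharacter (cz u)} {Ψ : IrrCharacter ↥(locA D u) → IrrCharacter (cz u)}

/-- The function on `C_D(u)` of the multiplicities in the restriction. -/
noncomputable def Phi (Ψ : IrrCharacter ↥(locA D u) → IrrCharacter (cz u)) (χ : G → ℂ)
    (w : ↥(locA D u)) : ℂ :=
  ∑ θ : IrrCharacter ↥(locA D u), classInner (fun c : cz u => χ (c : G)) (Ψ θ : cz u → ℂ) *
    (θ : ↥(locA D u) → ℂ) w

theorem isClassFunction_res {χ : G → ℂ} (hχ : IsClassFunction G χ) :
    IsClassFunction (cz u) fun c : cz u => χ (c : G) := fun c a => hχ (c : G) (a : G)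

variable (hM : IsPModular p M) (hloc : IsLocalPair p M D e u b f)
  (hΨ : IsNilImage p M (locA D u) f b χ₀ Ψ)
include hM hloc hΨ

/-- The part of a restriction at a pair of the local block. -/
theorem blockPart_res {χ : G → ℂ} (hχ : IsClassFunction G χ) (w : ↥(locA D u))
    {b' : Set (IrrCharacter (cz (w : cz u)))}
    (hle : SubpairLE p M (Subgroup.zpowers (w : cz u)) b' (locA D u) f) {s : cz (w : cz u)}
    (hs : IsPRegular p s) :
    blockPart b' (sect (fun c : cz u => χ (c : G)) (w : cz u)) s =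
      Phi Ψ χ w * blockPart b' (sect (χ₀ : cz u → ℂ) (w : cz u)) s := by
  classical
  set χK : cz u → ℂ := fun c => χ (c : G)
  have hχK : IsClassFunction (cz u) χK := isClassFunction_res hχ
  have hw := exists_pow_orderOf_mem hM hloc.max.1.1.1 w
  have hpair : IsBrauerPairOf p M b (Subgroup.zpowers (w : cz u)) b' :=
    (SubpairLE.isBrauerPairOf_iff hM hle hloc.max.1.2.1).mp hloc.max.1
  have hexp : blockPart b' (sect χK (w : cz u)) s = ∑ η : IrrCharacter (cz u),
      classInner χK (η : cz u → ℂ) * blockPart b' (sect (η : cz u → ℂ) (w : cz u)) s := by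
    simp only [blockPart_eq_sum b' (isClassFunction_sect hχK _),
      fun η : IrrCharacter (cz u) => blockPart_eq_sum b'
        (isClassFunction_sect (irr_classFunction η) (w : cz u)), Finset.mul_sum]
    rw [Finset.sum_comm]
    refine Finset.sum_congr rfl fun k _ => ?_
    conv_lhs => rw [sect, Char.classFunction_expansion hχK, Finset.sum_apply, Finset.mul_sum]
    refine Finset.sum_congr rfl fun η _ => ?_
    rw [Pi.smul_apply, smul_eq_mul, sect]
    ring
  rw [hexp, Phi, Finset.sum_mul]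
  refine (Fintype.sum_of_injective Ψ hΨ.inj _ _ (fun η hη => ?_) fun θ => ?_).symm
  · rw [blockPart_sect_eq_zero hM (isPBlock_blockOf η) (mem_blockOf_self η) hw hpair.1.2
      (fun h => hη ?_) hs, mul_zero]
    have heq := (existsUnique_isBrauerPairOf hM hpair.1).unique h hpair
    exact hΨ.surj η (heq ▸ mem_blockOf_self η)
  · rw [hΨ.part θ w b' hle s hs, mul_assoc]

variable (hmax : IsMaximalBrauerPair p M B D e) (hnil : IsNilpotentBlock p M b)
  (hχ₀ : χ₀ ∈ b) (h₀ : blockHeight p b (χ₀ : cz u → ℂ) = 0)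
include hmax hnil hχ₀ h₀

/-- The projection at an element whose centralizer lies in that of `u`. -/
theorem pm_topPair {w : ↥(locA D u)} (hcz : cz ((w : cz u) : G) ≤ cz u) {χ ψ : G → ℂ}
    (hχ : IsClassFunction G χ) (hψ : IsClassFunction G ψ) :
    pm p M (((w : cz u) : G), topPair p M D e ((w : cz u) : G)) χ ψ =
      Phi Ψ χ w * conj (Phi Ψ ψ w) / (Nat.card ↥(D ⊓ cz ((w : cz u) : G)) : ℂ) := by
  classical
  obtain ⟨b', htop, hle⟩ := exists_topBlock hM hloc.max.1.1 w.2
  obtain ⟨Q, φ, hφ, heq⟩ := hloc.compat (w : cz u) w.2 hcz b' hle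
  obtain ⟨b₁, hb₁, hle₁⟩ := exists_topBlock hM hmax.1.1 (u := ((w : cz u) : G)) w.2
  have hcontr := contrib_eq_one hM hloc.max hnil hχ₀ h₀ w
  rw [contrib, htop, pairSum_eq (irr_classFunction χ₀) (irr_classFunction χ₀) _
    (SubpairLE.isBrauerPair hle hloc.max.1.1).2, centRatio, card_inf_cz_local hcz,
    card_cz_local hcz] at hcontr
  have hblock₁ := (SubpairLE.isBrauerPair hle₁ hmax.1.1).2
  show (Nat.card (cz ((w : cz u) : G)) : ℂ)⁻¹ * pairSum p M χ ψ _ (topPair p M D e _) = _
  rw [hb₁, pairSum_eq_mixSum hχ hψ _ hblock₁, ← hb₁, heq,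
    mixSum_image φ hφ b' χ ψ (isClassFunction_res hχ) (isClassFunction_res hψ),
    Finset.sum_congr rfl fun s hs => by
      rw [blockPart_res hM hloc hΨ hχ w hle (Finset.mem_filter.mp hs).2,
        blockPart_res hM hloc hΨ hψ w hle (Finset.mem_filter.mp hs).2, map_mul, mul_mul_mul_comm],
    ← Finset.mul_sum]
  have h1 : (Nat.card (cz ((w : cz u) : G)) : ℂ) ≠ 0 := Nat.cast_ne_zero.mpr Nat.card_pos.ne'
  have h2 : (Nat.card ↥(D ⊓ cz ((w : cz u) : G)) : ℂ) ≠ 0 := Nat.cast_ne_zero.mpr Nat.card_pos.ne'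
  field_simp at hcontr ⊢
  linear_combination (Phi Ψ χ w * conj (Phi Ψ ψ w)) * hcontr

/-- The function read against the base. -/
theorem mixSum_base {w : ↥(locA D u)} (hcz : cz ((w : cz u) : G) ≤ cz u) {χ : G → ℂ}
    (hχ : IsClassFunction G χ) :
    mixSum p (topPair p M D e ((w : cz u) : G)) ((w : cz u) : G) χ
        (extendByZero (cz u) (χ₀ : cz u → ℂ)) * centRatio D ((w : cz u) : G) = Phi Ψ χ w := by
  classical
  obtain ⟨b', htop, hle⟩ := exists_topBlock hM hloc.max.1.1 w.2
  obtain ⟨Q, φ, hφ, heq⟩ := hloc.compat (w : cz u) w.2 hcz b' hle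
  have hcontr := contrib_eq_one hM hloc.max hnil hχ₀ h₀ w
  rw [contrib, htop, pairSum_eq (irr_classFunction χ₀) (irr_classFunction χ₀) _
    (SubpairLE.isBrauerPair hle hloc.max.1.1).2, centRatio, card_inf_cz_local hcz,
    card_cz_local hcz] at hcontr
  have he : (fun k : cz u => extendByZero (cz u) (χ₀ : cz u → ℂ) (k : G)) = (χ₀ : cz u → ℂ) :=
    funext fun k => extendByZero_apply _ _ k
  rw [heq, mixSum_image φ hφ b' χ _ (isClassFunction_res hχ) (by rw [he]; exact irr_classFunction χ₀),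
    he, Finset.sum_congr rfl fun s hs => by
      rw [blockPart_res hM hloc hΨ hχ w hle (Finset.mem_filter.mp hs).2, mul_assoc],
    ← Finset.mul_sum, mul_assoc, mul_comm (Finset.sum _ _), centRatio, hcontr, mul_one]

omit hmax hnil hχ₀ h₀ in
/-- The part of a restriction in the local block on the regular elements. -/
theorem blockPart_res_regular (χ : G → ℂ) {s : cz u}
    (hs : IsPRegular p s) :
    blockPart b (fun c : cz u => χ (c : G)) s = Phi Ψ χ 1 * (χ₀ : cz u → ℂ) s := by
  classical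
  rw [blockPart_eq_filter, Phi, Finset.sum_mul]
  refine (Finset.sum_bij' (fun θ _ => Ψ θ) (fun η hη => (hΨ.surj η (Finset.mem_filter.mp hη).2).choose)
    (fun θ _ => Finset.mem_filter.mpr ⟨Finset.mem_univ _, hΨ.mem θ⟩) (fun _ _ => Finset.mem_univ _)
    (fun θ _ => hΨ.inj ((hΨ.surj (Ψ θ) (hΨ.mem θ)).choose_spec))
    (fun η hη => (hΨ.surj η (Finset.mem_filter.mp hη).2).choose_spec) fun θ _ => ?_).symm
  rw [hΨ.regular θ s hs, mul_assoc]

end Base

end CfsgLib.Blocks.TameTwo
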