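import Cfsg.Agent.Lib.Blocks.TameTwo.Shape
import Mathlib.GroupTheory.SpecificGroups.Cyclic
import Mathlib.Data.Nat.Totient
import Mathlib.FieldTheory.Finite.Basic

/-!
# Automorphisms of odd order fixing an element

An element of odd order normalizing a two-subgroup of a group of maximal class and fixing a suitable
element of it centralizes the subgroup.
-/

set_option autoImplicit false
set_option linter.unusedSectionVars false

namespace CfsgLib.Blocks.TameTwo

variable {G : Type*} [Group G] [Finite G]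

/-- An element of odd order normalizing a cyclic two-group centralizes it. -/
theorem commute_of_normalizes_cyclic {c x : G} (hc : ∃ m, orderOf c = 2 ^ m)
    (hx : Odd (orderOf x)) (h : x * c * x⁻¹ ∈ Subgroup.zpowers c) : x * c = c * x := by
  obtain ⟨m, hm⟩ := hc
  obtain ⟨k, hk⟩ := Subgroup.mem_zpowers_iff.mp h
  have hiter : ∀ j : ℕ, x ^ j * c * (x ^ j)⁻¹ = c ^ (k ^ j) := by
    intro j
    induction j with
    | zero => simp
    | succ j ih =>
      calc x ^ (j + 1) * c * (x ^ (j + 1))⁻¹ = x * (x ^ j * c * (x ^ j)⁻¹) * x⁻¹ := by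
            rw [pow_succ']; group
        _ = (x * c * x⁻¹) ^ (k ^ j) := by rw [ih, conj_zpow]
        _ = c ^ (k ^ (j + 1)) := by rw [← hk, ← zpow_mul, pow_succ']
  have hj := hiter (orderOf x)
  rw [pow_orderOf_eq_one, one_mul, inv_one, mul_one] at hj
  have hmod : ((k : ZMod (2 ^ m))) ^ orderOf x = 1 := by
    have h1 := zpow_eq_zpow_iff_modEq.mp ((zpow_one c).trans hj)
    rw [hm, ← ZMod.intCast_eq_intCast_iff] at h1
    push_cast at h1
    exact h1.symm
  obtain ⟨v, hv⟩ := IsUnit.of_pow_eq_one hmod (orderOf_pos x).ne'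
  have hv1 : v = 1 := by
    have hvx : v ^ orderOf x = 1 := by
      refine Units.ext ?_
      rw [Units.val_pow_eq_pow_val, hv, hmod, Units.val_one]
    have : NeZero (2 ^ m) := ⟨pow_ne_zero m two_ne_zero⟩
    have h2 : orderOf v ∣ Nat.totient (2 ^ m) := orderOf_dvd_of_pow_eq_one (ZMod.pow_totient v)
    rcases Nat.eq_zero_or_pos m with h0 | hpos
    · subst h0
      have : Subsingleton (ZMod (2 ^ 0)) := inferInstanceAs (Subsingleton (ZMod 1))
      exact Units.ext (Subsingleton.elim _ _)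
    rw [Nat.totient_prime_pow Nat.prime_two hpos, show (2 : ℕ) - 1 = 1 from rfl, mul_one] at h2
    have h3 := Nat.dvd_gcd h2 (orderOf_dvd_of_pow_eq_one hvx)
    rw [(Nat.Coprime.pow_left (m - 1) (Nat.coprime_two_left.mpr hx)).gcd_eq_one, Nat.dvd_one,
      orderOf_eq_one_iff] at h3
    exact h3
  have hk1 : c ^ k = c := by
    refine (zpow_eq_zpow_iff_modEq.mpr ?_).trans (zpow_one c)
    rw [hm, ← ZMod.intCast_eq_intCast_iff, ← hv, hv1]
    simp
  rw [← mul_inv_eq_iff_eq_mul, ← hk, hk1]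

/-- An element of odd order fixing a subgroup of index two pointwise centralizes the whole. -/
theorem commute_of_fix_index_two {S C : Subgroup G} {x : G} (hC : C ≤ S)
    (htwo : ∀ t ∈ S, ∃ m, orderOf t = 2 ^ m)
    (hdiv : ∀ t ∈ S, t ∉ C → ∀ t' ∈ S, t' ∉ C → t⁻¹ * t' ∈ C) (hx : Odd (orderOf x))
    (hnorm : x ∈ Subgroup.normalizer (S : Set G)) (hfix : ∀ z ∈ C, x * z = z * x) :
    ∀ z ∈ S, x * z = z * x := by
  intro t ht
  by_cases htC : t ∈ C
  · exact hfix t htC
  have ht' : x * t * x⁻¹ ∈ S := (Subgroup.mem_normalizer_iff.mp hnorm t).mp ht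
  have ht'C : x * t * x⁻¹ ∉ C := fun h => htC (by
    have := hfix _ h
    rw [inv_mul_cancel_right] at this
    rwa [mul_left_cancel this] at h)
  set c := t⁻¹ * (x * t * x⁻¹) with hcdef
  have hc : c ∈ C := hdiv t ht htC _ ht' ht'C
  have hcx : Commute x c := hfix c hc
  have hiter : ∀ j : ℕ, x ^ j * t * (x ^ j)⁻¹ = t * c ^ j := by
    intro j
    induction j with
    | zero => simp
    | succ j ih =>
      calc x ^ (j + 1) * t * (x ^ (j + 1))⁻¹ = x * (x ^ j * t * (x ^ j)⁻¹) * x⁻¹ := by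
            rw [pow_succ']; group
        _ = x * t * (c ^ j * x⁻¹) := by rw [ih]; group
        _ = x * t * x⁻¹ * c ^ j := by rw [(hcx.pow_right j).inv_left.symm.eq]; group
        _ = t * c ^ (j + 1) := by
            rw [pow_succ', ← mul_assoc]
            congr 1
            rw [hcdef]
            group
  have hj := hiter (orderOf x)
  rw [pow_orderOf_eq_one, one_mul, inv_one, mul_one, left_eq_mul] at hj
  obtain ⟨m, hm⟩ := htwo c (hC hc)
  have hc1 : c = 1 := by
    have h3 := orderOf_dvd_of_pow_eq_one hj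
    rw [hm] at h3
    have h4 := Nat.dvd_gcd (dvd_refl (2 ^ m)) h3
    rw [(Nat.Coprime.pow_left m (Nat.coprime_two_left.mpr hx)).gcd_eq_one, Nat.dvd_one] at h4
    exact orderOf_eq_one_iff.mp (hm.trans h4)
  rw [hcdef, inv_mul_eq_one] at hc1
  rw [← mul_inv_eq_iff_eq_mul, ← hc1]

namespace Shape

variable {D : Subgroup G} {q : ℕ} (S : Shape D q)

/-- The subgroup of the rotations. -/
def rot : Subgroup G where
  carrier := Set.range S.r
  one_mem' := ⟨0, S.r_zero⟩
  mul_mem' := by rintro _ _ ⟨i, rfl⟩ ⟨j, rfl⟩; exact ⟨i + j, S.r_add i j⟩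
  inv_mem' := by rintro _ ⟨i, rfl⟩; exact ⟨-i, S.r_neg i⟩

theorem r_mem_zpowers (j : ZMod (2 * q)) : S.r j ∈ Subgroup.zpowers (S.r 1) := by
  have := S.neZero
  exact ⟨(j.val : ℤ), by
    show S.r 1 ^ (j.val : ℤ) = S.r j
    rw [zpow_natCast, ← S.r_nsmul, mul_one, ZMod.natCast_zmod_val]⟩

theorem rot_eq : S.rot = Subgroup.zpowers (S.r 1) :=
  le_antisymm (by rintro _ ⟨j, rfl⟩; exact S.r_mem_zpowers j)
    (Subgroup.zpowers_le.mpr ⟨1, rfl⟩)

include S in
theorem exists_pow_orderOf {d : G} (hd : d ∈ D) : ∃ m, orderOf d = 2 ^ m := by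
  have := S.neZero
  obtain ⟨k, hk⟩ := S.two
  have hpow : ∀ j : ZMod (2 * q), S.r j ^ (2 * q) = 1 := fun j => by
    rw [← S.r_nsmul, ZMod.natCast_self, zero_mul, S.r_zero]
  have h : orderOf d ∣ 2 ^ (k + 3) := by
    obtain ⟨j, rfl | rfl⟩ := S.cover d hd
    · refine (orderOf_dvd_of_pow_eq_one (hpow j)).trans ⟨2, ?_⟩
      rw [hk, pow_succ, pow_succ, pow_succ]; ring
    · refine orderOf_dvd_of_pow_eq_one ?_
      rw [show 2 ^ (k + 3) = 2 * (2 * q) by rw [hk, pow_succ, pow_succ, pow_succ]; ring, pow_mul,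
        sq, S.outer_sq, hpow]
  obtain ⟨m, -, hm⟩ := (Nat.dvd_prime_pow Nat.prime_two).mp h
  exact ⟨m, hm⟩

theorem outer_div {t t' : G} (ht : t ∈ D) (ht' : t' ∈ D) (h : t ∉ S.rot) (h' : t' ∉ S.rot) :
    t⁻¹ * t' ∈ S.rot := by
  obtain ⟨i, rfl | rfl⟩ := S.cover t ht
  · exact absurd ⟨i, rfl⟩ h
  obtain ⟨j, rfl | rfl⟩ := S.cover t' ht'
  · exact absurd ⟨j, rfl⟩ h'
  exact ⟨S.s * (-i + j), by
    rw [mul_inv_rev, mul_assoc, ← mul_assoc (S.r i)⁻¹, ← S.r_neg, ← S.r_add]
    refine eq_inv_mul_iff_mul_eq.mpr ?_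
    rw [S.y_mul, ← mul_assoc, S.s_sq, one_mul]⟩

/-- Subgroups of a cyclic centralizer. -/
theorem fix_of_cyclic {T : Subgroup G} {c : G} (hTD : T ≤ D) (hT : ∀ z ∈ T, z ∈ Subgroup.zpowers c)
    {x : G} (hx : Odd (orderOf x)) (hnorm : x ∈ Subgroup.normalizer (T : Set G))
    (S : Shape D q) : ∀ z ∈ T, x * z = z * x := by
  have hle : T ≤ Subgroup.zpowers c := hT
  have : IsCyclic T := Subgroup.isCyclic_of_le hle
  obtain ⟨⟨g, hg⟩, hgen⟩ := IsCyclic.exists_generator (α := T)
  have hg' : x * g = g * x := commute_of_normalizes_cyclic (S.exists_pow_orderOf (hTD hg)) hx (by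
    obtain ⟨k, hk⟩ := Subgroup.mem_zpowers_iff.mp
      (hgen ⟨_, (Subgroup.mem_normalizer_iff.mp hnorm g).mp hg⟩)
    exact ⟨k, congrArg Subtype.val hk⟩)
  intro z hz
  obtain ⟨k, hk⟩ := Subgroup.mem_zpowers_iff.mp (hgen ⟨z, hz⟩)
  have : g ^ k = z := congrArg Subtype.val hk
  rw [← this]
  exact (Commute.zpow_right hg' k).eq

/-- The dihedral case. -/
theorem fix_of_dihedral (hS : S.IsDih) {T : Subgroup G} (hTD : T ≤ D) {u : G} (hu : u ∈ T)
    (hu1 : u ≠ 1) {x : G} (hx : Odd (orderOf x)) (hnorm : x ∈ Subgroup.normalizer (T : Set G))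
    (hxu : x * u = u * x) : ∀ z ∈ T, x * z = z * x := by
  have := S.neZero
  have htwo : ∀ t ∈ T, ∃ m, orderOf t = 2 ^ m := fun t ht => S.exists_pow_orderOf (hTD ht)
  have hinv : ∀ i, S.r i * S.y * (S.r i * S.y) = 1 := fun i => by
    rw [S.outer_sq, hS.1, hS.2, add_neg_cancel, zero_mul, add_zero, S.r_zero]
  by_cases hbig : ∃ j, S.r j ∈ T ∧ S.r j * S.r j ≠ 1
  · set C := T ⊓ S.rot
    have hcyc : IsCyclic C := Subgroup.isCyclic_of_le (inf_le_right.trans S.rot_eq.le)
    obtain ⟨⟨g, hg⟩, hgen⟩ := IsCyclic.exists_generator (α := C)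
    have hgsq : g * g ≠ 1 := by
      intro h
      obtain ⟨j, hjT, hj⟩ := hbig
      obtain ⟨k, hk⟩ := Subgroup.mem_zpowers_iff.mp (hgen ⟨S.r j, hjT, j, rfl⟩)
      have hk' : g ^ k = S.r j := congrArg Subtype.val hk
      refine hj ?_
      rw [← hk', ← (Commute.refl g).mul_zpow, h, one_zpow]
    have hxg : x * g * x⁻¹ ∈ C := by
      have hT' := (Subgroup.mem_normalizer_iff.mp hnorm g).mp hg.1
      refine ⟨hT', ?_⟩
      obtain ⟨i, hi | hi⟩ := S.cover _ (hTD hT')
      · exact ⟨i, hi.symm⟩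
      · refine absurd ?_ hgsq
        have h2 := hinv i
        rw [← hi] at h2
        have := congrArg (fun t => x⁻¹ * t * x) h2
        simpa [mul_assoc] using this
    have hxg' : x * g = g * x := commute_of_normalizes_cyclic (htwo g hg.1) hx (by
      obtain ⟨k, hk⟩ := Subgroup.mem_zpowers_iff.mp (hgen ⟨_, hxg⟩)
      exact ⟨k, congrArg Subtype.val hk⟩)
    refine commute_of_fix_index_two (C := C) inf_le_left htwo ?_ hx hnorm fun z hz => ?_
    · intro t ht htC t' ht' ht'C
      exact ⟨T.mul_mem (T.inv_mem ht) ht', S.outer_div (hTD ht) (hTD ht') (fun h => htC ⟨ht, h⟩)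
        fun h => ht'C ⟨ht', h⟩⟩
    · obtain ⟨k, hk⟩ := Subgroup.mem_zpowers_iff.mp (hgen ⟨z, hz⟩)
      have : g ^ k = z := congrArg Subtype.val hk
      rw [← this]
      exact (Commute.zpow_right hxg' k).eq
  · push Not at hbig
    -- all rotations in `T` are `1` or `z`
    have hrot : ∀ j, S.r j ∈ T → S.r j = 1 ∨ S.r j = S.z := fun j hj => by
      have h := hbig j hj
      rw [← S.r_add, S.r_eq_one_iff] at h
      rcases eq_half_of_add_self h with rfl | rfl
      exacts [Or.inl S.r_zero, Or.inr rfl]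
    have hsq : ∀ t ∈ T, t * t = 1 := fun t ht => by
      obtain ⟨i, rfl | rfl⟩ := S.cover t (hTD ht)
      exacts [hbig i ht, hinv i]
    have hcomm : ∀ a ∈ T, ∀ b ∈ T, a * b = b * a := fun a ha b hb => by
      have e : (a * b) * (a * b) = 1 := hsq _ (mul_mem ha hb)
      calc a * b = (a * b)⁻¹ := (inv_eq_of_mul_eq_one_left e).symm
        _ = b⁻¹ * a⁻¹ := mul_inv_rev a b
        _ = b * a := by
          rw [inv_eq_of_mul_eq_one_left (hsq b hb), inv_eq_of_mul_eq_one_left (hsq a ha)]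
    have hzp : ∀ w, w ∈ Subgroup.zpowers u ↔ w = 1 ∨ w = u := fun w => by
      have h2 : orderOf u = 2 := orderOf_eq_prime (by rw [sq]; exact hsq u hu) hu1
      constructor
      · rintro ⟨k, rfl⟩
        show u ^ k = 1 ∨ u ^ k = u
        rw [← zpow_mod_orderOf, h2]
        rcases Int.emod_two_eq_zero_or_one k with h | h <;> simp [h]
      · rintro (rfl | rfl)
        exacts [one_mem _, Subgroup.mem_zpowers _]
    refine commute_of_fix_index_two (C := Subgroup.zpowers u) (Subgroup.zpowers_le.mpr hu) htwo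
      ?_ hx hnorm fun z hz => ?_
    · intro t ht htC t' ht' ht'C
      rw [hzp] at htC ht'C ⊢
      push Not at htC ht'C
      have hd : t⁻¹ * t' = t * t' := by rw [inv_eq_of_mul_eq_one_left (hsq t ht)]
      rw [hd]
      by_contra hne
      push Not at hne
      -- then `1, u, t, t', t * t'` are five elements of a group of order at most four
      have hmem : ∀ w ∈ T, ∀ w₀ ∈ T, (∀ j, w₀ ≠ S.r j) → w = 1 ∨ w = S.z ∨ w = w₀ ∨ w = S.z * w₀ := by
        intro w hw w₀ hw₀ hn
        obtain ⟨i, rfl | rfl⟩ := S.cover w₀ (hTD hw₀)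
        · exact absurd rfl (hn i)
        · exact (S.cent_outer i w).mp ⟨hTD hw, hcomm w hw _ hw₀⟩
      have htt : t ≠ t' := fun h => hne.1 (by rw [← h, hsq t ht])
      by_cases hall : ∀ w ∈ T, ∃ j, w = S.r j
      · have h4 : ∀ w ∈ T, w = 1 ∨ w = S.z := fun w hw => by
          obtain ⟨j, rfl⟩ := hall w hw; exact hrot j hw
        rcases h4 t ht with h | h <;> rcases h4 t' ht' with h' | h' <;> simp_all
      · push Not at hall
        obtain ⟨w₀, hw₀, hn⟩ := hall
        rcases hmem u hu w₀ hw₀ hn with a | a | a | a <;>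
          rcases hmem t ht w₀ hw₀ hn with a' | a' | a' | a' <;>
          rcases hmem t' ht' w₀ hw₀ hn with a'' | a'' | a'' | a'' <;>
          subst a a' a'' <;>
          first
            | exact hu1 rfl
            | exact htC.1 rfl
            | exact ht'C.1 rfl
            | exact htC.2 rfl
            | exact ht'C.2 rfl
            | exact htt rfl
            | exact hne.2 rfl
            | exact hne.2 (hcomm _ ht _ ht')
            | (refine hne.2 ?_; rw [← mul_assoc, S.z_sq, one_mul])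
            | (refine hne.2 ?_; rw [hcomm _ ht _ ht', ← mul_assoc, S.z_sq, one_mul])
            | (refine hne.2 ?_; rw [mul_assoc, hsq _ hw₀, mul_one])
            | (refine hne.2 ?_; rw [hcomm _ ht _ ht', mul_assoc, hsq _ hw₀, mul_one])
    · rcases (hzp z).mp hz with rfl | rfl
      · rw [mul_one, one_mul]
      · exact hxu

include S in
/-- The centralizer in `D` of an element of order four is cyclic, of order at most `2q`. -/
theorem cent_order_four {u : G} (hu : u ∈ D) (h4 : orderOf u = 4) :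
    (∃ c, ∀ d ∈ D, d * u = u * d → d ∈ Subgroup.zpowers c) ∧
      Nat.card ↥(D ⊓ Subgroup.centralizer ({u} : Set G)) ≤ 2 * q := by
  have := S.neZero
  have hne1 : u ^ 2 ≠ 1 := fun h => by
    have := orderOf_dvd_of_pow_eq_one h
    rw [h4] at this
    norm_num at this
  obtain ⟨j, rfl | rfl⟩ := S.cover u hu
  · have h0 : j ≠ 0 := fun h => by rw [h, S.r_zero, one_pow] at hne1; exact hne1 rfl
    have hh : j ≠ (q : ZMod (2 * q)) := fun h => hne1 (by rw [h, sq]; exact S.z_sq)
    refine ⟨⟨S.r 1, fun d hd hc => ?_⟩, ?_⟩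
    · obtain ⟨i, rfl⟩ := (S.cent_r h0 hh d).mp ⟨hd, hc⟩
      exact S.r_mem_zpowers i
    · calc Nat.card ↥(D ⊓ Subgroup.centralizer ({S.r j} : Set G))
          ≤ Nat.card (Set.range S.r) := Nat.card_mono (Set.toFinite _) fun d hd => by
            obtain ⟨i, rfl⟩ := (S.cent_r h0 hh d).mp
              ⟨hd.1, Subgroup.mem_centralizer_singleton_iff.mp hd.2⟩
            exact ⟨i, rfl⟩
        _ = 2 * q := by rw [Nat.card_range_of_injective S.r_inj, Nat.card_zmod]
  · have hsq : S.r j * S.y * (S.r j * S.y) = S.z := by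
      rw [sq] at hne1
      rw [S.outer_sq] at hne1 ⊢
      have h1 : (1 + S.s) * j + S.c ≠ 0 := fun h => hne1 (by rw [h, S.r_zero])
      have h2 : ((1 + S.s) * j + S.c) + ((1 + S.s) * j + S.c) = 0 := by
        rw [← S.r_eq_one_iff, S.r_add, ← S.outer_sq, ← sq, ← sq, ← pow_mul,
          show 2 * 2 = orderOf (S.r j * S.y) from h4.symm]
        exact pow_orderOf_eq_one _
      rw [z, (eq_half_of_add_self h2).resolve_left h1]
    refine ⟨⟨S.r j * S.y, fun d hd hc => ?_⟩, ?_⟩
    · rcases (S.cent_outer j d).mp ⟨hd, hc⟩ with rfl | rfl | rfl | rfl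
      · exact one_mem _
      · rw [← hsq]; exact mul_mem (Subgroup.mem_zpowers _) (Subgroup.mem_zpowers _)
      · exact Subgroup.mem_zpowers _
      · rw [← hsq]
        exact mul_mem (mul_mem (Subgroup.mem_zpowers _) (Subgroup.mem_zpowers _))
          (Subgroup.mem_zpowers _)
    · have h : Nat.card ↥(D ⊓ Subgroup.centralizer ({S.r j * S.y} : Set G)) ≤ 4 := by
        refine le_trans (Nat.card_mono (t := ({1, S.z, S.r j * S.y, S.z * (S.r j * S.y)} : Set G))
          (Set.toFinite _) fun d hd => ?_) ?_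
        · have := (S.cent_outer j d).mp ⟨hd.1, Subgroup.mem_centralizer_singleton_iff.mp hd.2⟩
          simpa [Set.mem_insert_iff] using this
        · rw [Nat.card_coe_set_eq]
          refine (Set.ncard_insert_le _ _).trans (Nat.add_le_add_right
            ((Set.ncard_insert_le _ _).trans (Nat.add_le_add_right
              ((Set.ncard_insert_le _ _).trans (Nat.add_le_add_right
                (Set.ncard_singleton _).le 1)) 1)) 1)
      have := S.two_le
      omega

end Shape

end CfsgLib.Blocks.TameTwo
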