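import Cfsg.Agent.Lib.Blocks.StarWeight

/-!
# The restriction of a member of height zero

In every block of a centralizer of a `p`-element inducing `B` the part of the restriction of a member
of height zero of `B` takes on some regular element a value which is a unit at `M`.
-/

set_option autoImplicit false
set_option linter.unusedSectionVars false

namespace CfsgLib.Blocks.TameTwo

open Cfsg
open scoped ComplexConjugate CfsgLib.Char

variable {p : ℕ} {M : Ideal AlgInt} {G : Type*} [Group G] [Fintype G] {x : G}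

theorem exists_res_unit [Fintype (Subgroup.centralizer ({x} : Set G))] (hM : IsPModular p M) {B : Set (IrrCharacter G)}
    {χ : IrrCharacter G} (hχ : χ ∈ B) (h0 : blockHeight p B (χ : G → ℂ) = 0)
    {b : Set (IrrCharacter (Subgroup.centralizer ({x} : Set G)))}
    (hb : IsInducedBlock M (Subgroup.centralizer ({x} : Set G)) b B) :
    ∃ y : (Subgroup.centralizer ({x} : Set G)), ¬ p ∣ orderOf y ∧
      ¬ MemLocalIdeal M (blockPart b (fun c : (Subgroup.centralizer ({x} : Set G)) => (χ : G → ℂ) (c : G)) y) := by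
  classical
  have := isPrime_of_isPModular hM
  by_contra hno
  push Not at hno
  set θ₀ : (Subgroup.centralizer ({x} : Set G)) → ℂ := fun c => (χ : G → ℂ) (c : G)
  have hθ₀ : IsClassFunction (Subgroup.centralizer ({x} : Set G)) θ₀ := fun c a => irr_classFunction χ (c : G) (a : G)
  set Ψ : (Subgroup.centralizer ({x} : Set G)) → ℂ := blockPart b θ₀
  have hΨ : ∀ y : (Subgroup.centralizer ({x} : Set G)), ¬ p ∣ orderOf y → MemLocalIdeal M (Ψ y) := hno
  obtain ⟨ξ, hξ⟩ := IsPBlock.nonempty hb.1
  have hu := not_memLocalIdeal_omega_dualReg hM hb.2.1 hχ h0 hχ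
  have hc := IsInducedBlock.omega_congr hb hξ hχ (f := dualReg p (χ : G → ℂ))
    (isClassFunction_dualReg (irr_classFunction χ)) (memLocalRing_dualReg χ)
  rw [dualReg_comp_subtype] at hc
  refine hu ((memLocalIdeal_iff_of_sub hc).mp ?_)
  have hlin : ∀ (s : Finset (IrrCharacter (Subgroup.centralizer ({x} : Set G)))) (a : IrrCharacter (Subgroup.centralizer ({x} : Set G)) → ℂ),
      dualReg p (∑ η ∈ s, a η • (η : (Subgroup.centralizer ({x} : Set G)) → ℂ)) = ∑ η ∈ s, a η • dualReg p (η : (Subgroup.centralizer ({x} : Set G)) → ℂ) := fun s a => by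
    funext h
    by_cases hh : IsPRegular p h
    · simp [dualReg, regPart_of_regular hh, Finset.sum_apply]
    · simp [dualReg, regPart_of_singular hh, Finset.sum_apply]
  have hΨe : Ψ = ∑ η : IrrCharacter (Subgroup.centralizer ({x} : Set G)) with η ∈ b, classInner θ₀ (η : (Subgroup.centralizer ({x} : Set G)) → ℂ) • (η : (Subgroup.centralizer ({x} : Set G)) → ℂ) := by
    funext c
    show blockPart b θ₀ c = _
    rw [blockPart_eq_filter, Finset.sum_apply]
    exact Finset.sum_congr rfl fun η _ => rfl
  have heq : omega (ξ : (Subgroup.centralizer ({x} : Set G)) → ℂ) (dualReg p θ₀) = omega (ξ : (Subgroup.centralizer ({x} : Set G)) → ℂ) (dualReg p Ψ) := by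
    rw [hΨe]
    conv_lhs => rw [Char.classFunction_expansion hθ₀]
    rw [hlin, hlin, omega_sum, omega_sum]
    symm
    refine Finset.sum_subset (Finset.subset_univ _) fun η _ hη => ?_
    rw [omega_smul, omega_dualReg_eq_zero hM fun hs => hη (Finset.mem_filter.mpr ⟨Finset.mem_univ _,
      IsPBlock.mem_of_sameBlock hb.1 hξ (SameBlock.symm hs)⟩), mul_zero]
  show MemLocalIdeal M (omega (ξ : (Subgroup.centralizer ({x} : Set G)) → ℂ) (dualReg p θ₀))
  rw [heq]
  have : Fintype (ConjClasses (Subgroup.centralizer ({x} : Set G))) := Fintype.ofFinite _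
  have hΨc : IsClassFunction (Subgroup.centralizer ({x} : Set G)) Ψ := by
    rw [hΨe]
    intro c a
    simp only [Finset.sum_apply, Pi.smul_apply, fun η : IrrCharacter (Subgroup.centralizer ({x} : Set G)) => irr_classFunction η c a]
  rw [omega_eq_sum_classes ξ (isClassFunction_dualReg hΨc)]
  refine memLocalIdeal_sum _ _ fun q _ => memLocalIdeal_mul_right ?_ (memLocalRing_centralChar ξ _)
  by_cases hq : IsPRegular p (Quotient.out q)
  · rw [dualReg, regPart_of_regular hq]
    exact hΨ _ (by rw [orderOf_inv]; exact hq)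
  · rw [dualReg, regPart_of_singular hq]
    exact memLocalIdeal_zero

theorem exists_res_unit_cz [M.IsPrime] (hM : IsPModular p M) {B : Set (IrrCharacter G)}
    {χ : IrrCharacter G} (hχ : χ ∈ B) (h0 : blockHeight p B (χ : G → ℂ) = 0)
    (hx : ∃ k : ℕ, orderOf x = p ^ k) [Fintype (cz x)] {b : Set (IrrCharacter (cz x))}
    (hb : IsBrauerPairOf p M B (Subgroup.zpowers x) b) :
    ∃ y : cz x, IsPRegular p y ∧
      ¬ MemLocalIdeal M (blockPart b (fun c : cz x => (χ : G → ℂ) (c : G)) y) := by
  have key : ∀ (K : Subgroup G) [Fintype K], K = (Subgroup.centralizer ({x} : Set G)) →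
      ∀ b : Set (IrrCharacter K), IsInducedBlock M K b B → ∃ y : K, ¬ p ∣ orderOf y ∧
        ¬ MemLocalIdeal M (blockPart b (fun c : K => (χ : G → ℂ) (c : G)) y) := by
    intro K _ hK b hind
    subst hK
    exact exists_res_unit hM hχ h0 hind
  exact key _ (cz_eq x) b ((isBrauerPairOf_iff_induced hM hx hb.1.2).mp hb)

end CfsgLib.Blocks.TameTwo
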