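import Cfsg.Agent.Lib.Blocks.PairVal
import Cfsg.Agent.Lib.Blocks.PairTransport

/-!
# Parts of arbitrary functions at a pair

`mixSum a v f g` is the scalar product over the regular elements of the parts at the pair `a` of the
translates by `v` of two functions.  It is equivariant, it is the sum of the pairs for class
functions, and it can be read in any subgroup containing the centralizer of `v`.
-/

set_option autoImplicit false
set_option linter.unusedSectionVars false

namespace CfsgLib.Blocks.TameTwo

open Cfsg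
open CfsgLib.GrpRing
open scoped ComplexConjugate CfsgLib.Char

variable {p : ℕ} {M : Ideal AlgInt} [M.IsPrime] {G : Type*} [Group G] [Fintype G]

/-- The part of the translates of a function at a pair. -/
noncomputable def bpart (a : BrauerPairIdx G) (f : G → ℂ) (x : G) : ℂ :=
  ∑ k : G, subgroupBlockCoeff (Subgroup.centralizer (a.1 : Set G)) a.2 k * f (k * x)

variable (p) in
/-- The scalar product of two parts at a pair. -/
noncomputable def mixSum (a : BrauerPairIdx G) (v : G) (f g : G → ℂ) : ℂ :=
  open Classical in ∑ r : G, if IsPRegular p r ∧ r ∈ Subgroup.centralizer (a.1 : Set G) then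
    bpart a f (v * r) * conj (bpart a g (v * r)) else 0

theorem bpart_conj (x : G) (a : BrauerPairIdx G) (f : G → ℂ) (t : G) :
    bpart (conjPair x a) f (x * t * x⁻¹) = bpart a (fun z => f (x * z * x⁻¹)) t := by
  obtain ⟨Q, b⟩ := a
  refine (Fintype.sum_equiv (MulAut.conj x).toEquiv _ _ fun k => ?_).symm
  show subgroupBlockCoeff _ b k * f (x * (k * t) * x⁻¹) =
    subgroupBlockCoeff (Subgroup.centralizer ((Q.map (MulAut.conj x).toMonoidHom : Subgroup G) : Set G))
      (conjSet x (Subgroup.centralizer (Q : Set G))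
        (Subgroup.centralizer ((Q.map (MulAut.conj x).toMonoidHom : Subgroup G) : Set G)) b)
      (x * k * x⁻¹) * f (x * k * x⁻¹ * (x * t * x⁻¹))
  rw [subgroupBlockCoeff_conjSet (centralizer_map_conj_iff Q x)]
  congr 2
  group

theorem mixSum_conj (x : G) (a : BrauerPairIdx G) (v : G) (f g : G → ℂ) :
    mixSum p (conjPair x a) (x * v * x⁻¹) f g =
      mixSum p a v (fun z => f (x * z * x⁻¹)) (fun z => g (x * z * x⁻¹)) := by
  classical
  obtain ⟨Q, b⟩ := a
  refine (Fintype.sum_equiv (MulAut.conj x).toEquiv _ _ fun r => ?_).symm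
  have hreg : IsPRegular p (x * r * x⁻¹) ↔ IsPRegular p r := by
    rw [IsPRegular, IsPRegular, show orderOf (x * r * x⁻¹) = orderOf r from
      (MulAut.conj x).orderOf_eq r]
  show _ = if IsPRegular p (x * r * x⁻¹) ∧ x * r * x⁻¹ ∈
      Subgroup.centralizer ((Q.map (MulAut.conj x).toMonoidHom : Subgroup G) : Set G) then _ else 0
  simp only [hreg, centralizer_map_conj_iff Q x r]
  split_ifs with h
  · show _ = bpart (conjPair x ⟨Q, b⟩) f (x * v * x⁻¹ * (x * r * x⁻¹)) *
      conj (bpart (conjPair x ⟨Q, b⟩) g (x * v * x⁻¹ * (x * r * x⁻¹)))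
    rw [show x * v * x⁻¹ * (x * r * x⁻¹) = x * (v * r) * x⁻¹ by group, bpart_conj, bpart_conj]
  · rfl

/-- The parts inside a subgroup containing the centralizer. -/
theorem bpart_image {K : Subgroup G} [Fintype K] {v : K} {Q : Subgroup G}
    (φ : cz v ≃* Subgroup.centralizer (Q : Set G)) (hφ : ∀ c, ((φ c : G)) = ((c : K) : G))
    (b : Set (IrrCharacter (cz v))) (f : G → ℂ) (hf : IsClassFunction K fun k : K => f (k : G))
    (s : cz v) :
    bpart ⟨Q, irrEquiv φ '' b⟩ f ((v : G) * ((s : K) : G)) =
      blockPart b (sect (fun k : K => f (k : G)) v) s := by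
  classical
  rw [blockPart_eq_sum b (isClassFunction_sect hf v)]
  refine (Fintype.sum_of_injective (fun k : cz v => (φ k : G))
    (Subtype.val_injective.comp φ.injective) _ _ (fun r hr => ?_) fun k => ?_).symm
  · rw [subgroupBlockCoeff_eq, extendByZero_eq_zero _ _ fun h => hr ⟨φ.symm ⟨r, h⟩, by simp⟩,
      zero_mul]
  · rw [subgroupBlockCoeff_eq, extendByZero_apply, blockCoeff_image_irrEquiv]
    congr 1
    have := congrArg Subtype.val (commute_of_mem_cz k).eq
    simp only [Subgroup.coe_mul] at this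
    simp only [hφ, sect, Subgroup.coe_mul, ← mul_assoc]
    rw [this]

open Classical in
theorem mixSum_image {K : Subgroup G} [Fintype K] {v : K} {Q : Subgroup G}
    (φ : cz v ≃* Subgroup.centralizer (Q : Set G)) (hφ : ∀ c, ((φ c : G)) = ((c : K) : G))
    (b : Set (IrrCharacter (cz v))) (f g : G → ℂ) (hf : IsClassFunction K fun k : K => f (k : G))
    (hg : IsClassFunction K fun k : K => g (k : G)) :
    mixSum p ⟨Q, irrEquiv φ '' b⟩ (v : G) f g = ∑ s : cz v with IsPRegular p s,
      blockPart b (sect (fun k : K => f (k : G)) v) s *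
        conj (blockPart b (sect (fun k : K => g (k : G)) v) s) := by
  rw [Finset.sum_filter]
  refine (Fintype.sum_of_injective (fun k : cz v => (φ k : G))
    (Subtype.val_injective.comp φ.injective) _ _ (fun r hr => ?_) fun k => ?_).symm
  · exact if_neg fun h => hr ⟨φ.symm ⟨r, h.2⟩, by simp⟩
  · have hreg : IsPRegular p k ↔ IsPRegular p (φ k : G) := by
      rw [hφ, IsPRegular, IsPRegular, Subgroup.orderOf_coe, Subgroup.orderOf_coe]
    have hmem : (φ k : G) ∈ Subgroup.centralizer (Q : Set G) := (φ k).2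
    by_cases hk : IsPRegular p k
    · rw [if_pos hk, if_pos ⟨hreg.mp hk, hmem⟩, hφ k, bpart_image φ hφ b f hf k,
        bpart_image φ hφ b g hg k]
    · rw [if_neg hk, if_neg fun h => hk (hreg.mpr h.1)]

theorem bpart_eq_blockPart (v : G) (b : Set (IrrCharacter (cz v))) (f : G → ℂ)
    (hf : IsClassFunction G f) (s : cz v) :
    bpart ⟨Subgroup.zpowers v, b⟩ f (v * (s : G)) = blockPart b (sect f v) s := by
  classical
  rw [blockPart_eq_sum b (isClassFunction_sect hf v)]
  refine (Fintype.sum_of_injective Subtype.val Subtype.val_injective _ _ (fun r hr => ?_)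
    fun k => ?_).symm
  · rw [subgroupBlockCoeff_eq, extendByZero_eq_zero _ _ fun h => hr ⟨⟨r, h⟩, rfl⟩, zero_mul]
  · rw [subgroupBlockCoeff_eq, extendByZero_apply, sect]
    congr 2
    show v * ((k : G) * (s : G)) = _
    rw [← mul_assoc, (commute_of_mem_cz k).eq, mul_assoc]

/-- For class functions the sum is the sum of the pairs. -/
theorem pairSum_eq_mixSum {χ ψ : G → ℂ} (hχ : IsClassFunction G χ) (hψ : IsClassFunction G ψ)
    (v : G) {b : Set (IrrCharacter (cz v))} (hb : IsPBlock M b) :
    pairSum p M χ ψ v ⟨Subgroup.zpowers v, b⟩ = mixSum p ⟨Subgroup.zpowers v, b⟩ v χ ψ := by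
  classical
  rw [pairSum_eq hχ hψ v hb, Finset.sum_filter]
  refine Fintype.sum_of_injective Subtype.val Subtype.val_injective _ _ (fun r hr => ?_) fun k => ?_
  · exact if_neg fun h => hr ⟨⟨r, h.2⟩, rfl⟩
  · have hreg : IsPRegular p k ↔ IsPRegular p (k : G) := by
      rw [IsPRegular, IsPRegular, Subgroup.orderOf_coe]
    by_cases hk : IsPRegular p k
    · rw [if_pos hk, if_pos ⟨hreg.mp hk, k.2⟩, bpart_eq_blockPart v b χ hχ k,
        bpart_eq_blockPart v b ψ hψ k]
    · rw [if_neg hk, if_neg fun h => hk (hreg.mpr h.1)]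

end CfsgLib.Blocks.TameTwo
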