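import Cfsg.Agent.Lib.Blocks.TameTwo.Central

/-!
# The centralizer of the central involution

An element of order four outside the rotations has its fusion inside the centralizer of the central
involution, so the classes outside the rotations of the block and of its local block at the
involution correspond.
-/

set_option autoImplicit false
set_option linter.unusedSectionVars false

namespace CfsgLib.Blocks.TameTwo

open Cfsg CfsgLib.Blocks.FreeQuot
open scoped ComplexConjugate CfsgLib.Char

theorem mul_self_conj {G : Type*} [Group G] (x v : G) :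
    x * v * x⁻¹ * (x * v * x⁻¹) = x * (v * v) * x⁻¹ := by group

section Lift

variable {p : ℕ} {M : Ideal AlgInt} [M.IsPrime] {G : Type*} [Group G] [Fintype G] {D : Subgroup G}
  {e : Set (IrrCharacter (Subgroup.centralizer (D : Set G)))} {B : Set (IrrCharacter G)} {u : G}
  [Fintype (cz u)] {b : Set (IrrCharacter (cz u))}
  {f : Set (IrrCharacter (Subgroup.centralizer (locA D u : Set (cz u))))}

theorem IsLocalPair.topPair_lift (hloc : IsLocalPair p M D e u b f) {v : cz u} (hv : v ∈ locA D u)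
    (hcz : cz (v : G) ≤ cz u) {b' : Set (IrrCharacter (cz v))}
    (hle : SubpairLE p M (Subgroup.zpowers v) b' (locA D u) f)
    (h' : Subgroup.centralizer (((Subgroup.zpowers v).map (cz u).subtype : Subgroup G) : Set G) ≤
      cz u) :
    topPair p M D e (v : G) =
      ⟨(Subgroup.zpowers v).map (cz u).subtype, upBlock (Subgroup.zpowers v) h' b'⟩ := by
  obtain ⟨Q, φ, hφ, heq⟩ := hloc.compat v hv hcz b' hle
  rw [heq]
  obtain rfl : Q = (Subgroup.zpowers v).map (cz u).subtype := by
    have h := congrArg Sigma.fst heq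
    rw [topPair_fst] at h
    rw [MonoidHom.map_zpowers]
    exact h.symm
  obtain rfl : φ = centEquiv (Subgroup.zpowers v) h' := MulEquiv.ext fun c => Subtype.ext (hφ c)
  rfl

/-- Conjugation commutes with reading a pair in `G`. -/
theorem lift_conjPair {K : Subgroup G} [Fintype K] (x : K) {A' A : Subgroup K}
    (hx : A = A'.map (MulAut.conj x).toMonoidHom)
    (hA' : Subgroup.centralizer ((A'.map K.subtype : Subgroup G) : Set G) ≤ K)
    (hA : Subgroup.centralizer ((A.map K.subtype : Subgroup G) : Set G) ≤ K)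
    (f' : Set (IrrCharacter (Subgroup.centralizer (A' : Set K)))) :
    conjPair (x : G) ⟨A'.map K.subtype, upBlock A' hA' f'⟩ =
      ⟨A.map K.subtype, upBlock A hA
        (conjSet x (Subgroup.centralizer (A' : Set K)) (Subgroup.centralizer (A : Set K)) f')⟩ := by
  obtain ⟨hm, he⟩ := conjSet_upBlock x hA hA' hx f'
  rw [← he]
  exact congrArg (fun Q : Subgroup G => (⟨Q, conjSet (x : G)
    (Subgroup.centralizer ((A'.map K.subtype : Subgroup G) : Set G))
    (Subgroup.centralizer (Q : Set G)) (upBlock A' hA' f')⟩ : BrauerPairIdx G)) hm.symm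

/-- Fusion of pairs on elements whose fusion stays in the centralizer of `u`. -/
theorem ptConj_local_iff (hM : IsPModular p M) (hloc : IsLocalPair p M D e u b f)
    {v w : cz u} (hv : v ∈ locA D u) (hw : w ∈ locA D u) (hcv : cz (v : G) ≤ cz u)
    (hcw : cz (w : G) ≤ cz u) (hx : ∀ x : G, x * (v : G) * x⁻¹ = w → x ∈ cz u) :
    PtConj (v, topPair p M (locA D u) f v) (w, topPair p M (locA D u) f w) ↔
      PtConj ((v : G), topPair p M D e (v : G)) ((w : G), topPair p M D e (w : G)) := by
  obtain ⟨bv, hbv, hlev⟩ := exists_topBlock hM hloc.max.1.1 hv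
  obtain ⟨bw, hbw, hlew⟩ := exists_topBlock hM hloc.max.1.1 hw
  have hcent : ∀ t : cz u, cz (t : G) ≤ cz u →
      Subgroup.centralizer (((Subgroup.zpowers t).map (cz u).subtype : Subgroup G) : Set G) ≤ cz u :=
    fun t ht => by rw [MonoidHom.map_zpowers]; exact ht
  rw [hloc.topPair_lift hv hcv hlev (hcent v hcv), hloc.topPair_lift hw hcw hlew (hcent w hcw),
    hbv, hbw]
  constructor
  · rintro ⟨x, h1, h2⟩
    refine ⟨(x : G), congrArg Subtype.val h1, ?_⟩
    dsimp only at h1 h2 ⊢
    obtain ⟨hQ, hb⟩ := Sigma.mk.inj h2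
    rw [lift_conjPair x hQ.symm (hcent v hcv) (hcent w hcw)]
    congr 2
    have h2' : (⟨Subgroup.zpowers w, conjSet x (Subgroup.centralizer (Subgroup.zpowers v : Set (cz u)))
        (Subgroup.centralizer (Subgroup.zpowers w : Set (cz u))) bv⟩ : BrauerPairIdx (cz u)) =
          ⟨Subgroup.zpowers w, bw⟩ := Eq.trans (congrArg (fun Q : Subgroup (cz u) =>
        (⟨Q, conjSet x (Subgroup.centralizer (Subgroup.zpowers v : Set (cz u)))
          (Subgroup.centralizer (Q : Set (cz u))) bv⟩ : BrauerPairIdx (cz u))) hQ.symm) h2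
    exact eq_of_heq (Sigma.mk.inj h2').2
  · rintro ⟨x, h1, h2⟩
    dsimp only at h1 h2
    set x' : cz u := ⟨x, hx x h1⟩
    have h1' : x' * v * x'⁻¹ = w := Subtype.ext h1
    have hQ : Subgroup.zpowers w = (Subgroup.zpowers v).map (MulAut.conj x').toMonoidHom := by
      rw [map_zpowers_conj, h1']
    refine ⟨x', h1', ?_⟩
    rw [show x = (x' : G) from rfl, lift_conjPair x' hQ (hcent v hcv) (hcent w hcw)] at h2
    have hb := upBlock_injective (hcent w hcw) (eq_of_heq (Sigma.mk.inj h2).2)
    rw [← hb]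
    exact congrArg (fun Q : Subgroup (cz u) =>
      (⟨Q, conjSet x' (Subgroup.centralizer (Subgroup.zpowers v : Set (cz u)))
        (Subgroup.centralizer (Q : Set (cz u))) bv⟩ : BrauerPairIdx (cz u))) hQ.symm

end Lift

namespace Shape

variable {G : Type*} [Group G] [Fintype G] {D : Subgroup G} {q : ℕ} (S : Shape D q)

/-- The shape inside the centralizer of the central involution. -/
def loc : Shape (locA D S.z) q where
  r j := ⟨S.r j, mem_cz_iff.mpr (S.z_commute (S.r_mem j))⟩
  y := ⟨S.y, mem_cz_iff.mpr (S.z_commute S.y_mem)⟩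
  s := S.s
  c := S.c
  r_add i j := Subtype.ext (S.r_add i j)
  r_inj i j h := S.r_inj (congrArg Subtype.val h)
  r_mem := S.r_mem
  y_mem := S.y_mem
  y_mul j := Subtype.ext (S.y_mul j)
  y_sq := Subtype.ext S.y_sq
  y_ne j h := S.y_ne j (congrArg Subtype.val h)
  cover d hd := by
    obtain ⟨j, h | h⟩ := S.cover (d : G) hd
    exacts [⟨j, Or.inl (Subtype.ext h)⟩, ⟨j, Or.inr (Subtype.ext h)⟩]
  two := S.two
  kind := S.kind

theorem loc_central (g : cz S.z) : Commute S.loc.z g :=
  Subtype.ext (mem_cz_iff.mp g.2).symm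

theorem cz_le_of_sq {v : G} (h : v * v = S.z) : cz v ≤ cz S.z :=
  Subgroup.centralizer_le (SetLike.coe_subset_coe.mpr (Subgroup.zpowers_le.mpr
    (h ▸ mul_mem (Subgroup.mem_zpowers v) (Subgroup.mem_zpowers v))))

theorem mem_cz_of_conj {x v w : G} (hv : v * v = S.z) (hw : w * w = S.z) (h : x * v * x⁻¹ = w) :
    x ∈ cz S.z := by
  refine mem_cz_iff.mpr ?_
  have h' : x * S.z * x⁻¹ = S.z := by
    rw [← hv, ← mul_self_conj, h]
    exact hw.trans hv.symm
  exact mul_inv_eq_iff_eq_mul.mp h'

/-- A rotation conjugate to a square root of `z` is one. -/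
theorem sq_of_conj_rot [NeZero q] {x v : G} {j : ZMod (2 * q)} (hv : v * v = S.z)
    (h : x * v * x⁻¹ = S.r j) : S.r j * S.r j = S.z := by
  have hsq : S.r j * S.r j = x * S.z * x⁻¹ := by rw [← h, mul_self_conj, hv]
  rw [← S.r_add] at hsq ⊢
  have h2 : j + j + (j + j) = 0 := by
    rw [← S.r_eq_one_iff, S.r_add, hsq, mul_self_conj, S.z_sq, mul_one, mul_inv_cancel]
  rcases eq_half_of_add_self h2 with h0 | h0
  · rw [h0, S.r_zero, eq_comm, conj_eq_one_iff] at hsq
    exact absurd hsq S.z_ne_one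
  · rw [h0]; rfl

theorem outer_sq_quat (hS : S.IsQuat) (i : ZMod (2 * q)) : S.r i * S.y * (S.r i * S.y) = S.z := by
  rw [S.outer_sq, hS.1, hS.2]
  show S.r _ = S.r _
  congr 1
  ring

theorem outer_sq_semi (hS : S.IsSemi) :
    S.r 0 * S.y * (S.r 0 * S.y) = 1 ∧ S.r 1 * S.y * (S.r 1 * S.y) = S.z := by
  refine ⟨?_, ?_⟩
  · rw [S.r_zero, one_mul, S.y_sq, hS.2.1, S.r_zero]
  · rw [S.outer_sq, hS.1, hS.2.1]
    show S.r _ = S.r _
    congr 1
    ring

include S in
theorem zero_ne_one : (0 : ZMod (2 * q)) ≠ 1 := fun h => by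
  have := congrArg Shape.par h
  simp only [par, map_zero, map_one] at this
  exact absurd this (by decide)

end Shape

variable {M : Ideal AlgInt} [M.IsPrime] {G : Type*} [Group G] [Fintype G] {D : Subgroup G}
  {e : Set (IrrCharacter (Subgroup.centralizer (D : Set G)))} {B : Set (IrrCharacter G)} {q : ℕ}
  [NeZero q]

/-- The local block at the central involution. -/
theorem exists_localPair_center (hM : IsPModular 2 M) (hmax : IsMaximalBrauerPair 2 M B D e)
    (S : Shape D q) [Fintype (cz S.z)] :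
    ∃ b f, IsLocalPair 2 M D e S.z b f ∧ bk 2 M D e S.z = b := by
  obtain ⟨b, f, hloc⟩ := exists_localPair_of_pairs hM hmax S.z_mem fun u' _ _ =>
    Subgroup.card_le_of_le fun d hd => ⟨hd.1, mem_cz_iff.mpr (S.z_commute hd.1)⟩
  exact ⟨b, f, hloc, (existsUnique_subpair hM hmax.1.1 (Subgroup.zpowers_le.mpr S.z_mem)).unique
    (bk_subpair hM hmax.1.1 S.z_mem) hloc.le⟩

variable {S : Shape D q} [Fintype (cz S.z)] {b : Set (IrrCharacter (cz S.z))}
  {f : Set (IrrCharacter (Subgroup.centralizer (locA D S.z : Set (cz S.z))))}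

theorem sep_loc_iff (hM : IsPModular 2 M) (hloc : IsLocalPair 2 M D e S.z b f)
    {i : ZMod (2 * q)} (hsq : S.r i * S.y * (S.r i * S.y) = S.z) :
    Sep M f S.loc i ↔ Sep M e S i := by
  have hv : S.loc.r i * S.loc.y ∈ locA D S.z := S.loc.outer_mem i
  constructor
  · intro h j hc
    obtain ⟨x, hx, -⟩ := id hc
    have hj : S.r j * S.r j = S.z := S.sq_of_conj_rot hsq hx
    exact h j ((ptConj_local_iff hM hloc hv (S.loc.r_mem j) (S.cz_le_of_sq hsq) (S.cz_le_of_sq hj)
      fun x hx => S.mem_cz_of_conj hsq hj hx).mpr hc)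
  · intro h j hc
    obtain ⟨x, hx, -⟩ := id hc
    have hj : S.r j * S.r j = S.z := S.sq_of_conj_rot hsq (congrArg Subtype.val hx)
    exact h j ((ptConj_local_iff hM hloc hv (S.loc.r_mem j) (S.cz_le_of_sq hsq) (S.cz_le_of_sq hj)
      fun x hx => S.mem_cz_of_conj hsq hj hx).mp hc)

theorem ptConj_outer_iff (hM : IsPModular 2 M) (hloc : IsLocalPair 2 M D e S.z b f)
    {i j : ZMod (2 * q)} (hi : S.r i * S.y * (S.r i * S.y) = S.z)
    (hj : S.r j * S.y * (S.r j * S.y) = S.z) :
    PtConj (pt M (locA D S.z) f (S.loc.r i * S.loc.y)) (pt M (locA D S.z) f (S.loc.r j * S.loc.y)) ↔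
      PtConj (pt M D e (S.r i * S.y)) (pt M D e (S.r j * S.y)) :=
  ptConj_local_iff hM hloc (S.loc.outer_mem i) (S.loc.outer_mem j) (S.cz_le_of_sq hi)
    (S.cz_le_of_sq hj) fun _ hx => S.mem_cz_of_conj hi hj hx

/-- The quaternion case. -/
theorem quat_sum (hM : IsPModular 2 M) (hmax : IsMaximalBrauerPair 2 M B D e) (S : Shape D q)
    (hS : S.IsQuat) : blockRank 2 (bk 2 M D e S.z) + (outerReps M e S).card = 3 := by
  classical
  have : Fintype (cz S.z) := Fintype.ofFinite _
  obtain ⟨b, f, hloc, hb⟩ := exists_localPair_center hM hmax S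
  rw [hb]
  have h := central_sum hM hloc.max S.loc S.loc_central
  suffices e1 : outerReps M f S.loc = outerReps M e S by rwa [e1] at h
  ext i
  simp only [outerReps, Finset.mem_filter, Finset.mem_univ, true_and]
  refine and_congr_right fun _ => and_congr (sep_loc_iff hM hloc (S.outer_sq_quat hS i))
    (imp_congr_right fun _ => imp_congr (sep_loc_iff hM hloc (S.outer_sq_quat hS 0))
      (not_congr (ptConj_outer_iff hM hloc (S.outer_sq_quat hS 0) (S.outer_sq_quat hS 1))))

open Classical in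
/-- The semidihedral case. -/
theorem semi_sum (hM : IsPModular 2 M) (hmax : IsMaximalBrauerPair 2 M B D e) (S : Shape D q)
    (hS : S.IsSemi) :
    blockRank 2 (bk 2 M D e S.z) + (if Sep M e S 1 then 1 else 0) = 2 ∧
      (outerReps M e S).card = (if Sep M e S 0 then 1 else 0) + (if Sep M e S 1 then 1 else 0) := by
  have : Fintype (cz S.z) := Fintype.ofFinite _
  obtain ⟨h0, h1⟩ := S.outer_sq_semi hS
  -- the two outer elements are never fused
  have hcard : ∀ {H : Type _} [Group H] [Fintype H] {D' : Subgroup H}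
      {e' : Set (IrrCharacter (Subgroup.centralizer (D' : Set H)))} (S' : Shape D' q),
      S'.r 0 * S'.y * (S'.r 0 * S'.y) = 1 → S'.r 1 * S'.y * (S'.r 1 * S'.y) = S'.z →
      (outerReps M e' S').card =
        (if Sep M e' S' 0 then 1 else 0) + (if Sep M e' S' 1 then 1 else 0) := by
    intro H _ _ D' e' S' g0 g1
    have hset : outerReps M e' S' =
        ({0, 1} : Finset (ZMod (2 * q))).filter fun i => Sep M e' S' i := by
      ext i
      simp only [outerReps, Finset.mem_filter, Finset.mem_univ, true_and, Finset.mem_insert,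
        Finset.mem_singleton]
      refine ⟨fun h => ⟨h.1, h.2.1⟩, fun h => ⟨h.1, h.2, fun _ _ hc => ?_⟩⟩
      obtain ⟨x, hx, -⟩ := hc
      have hx' : x * (S'.r 0 * S'.y) * x⁻¹ = S'.r 1 * S'.y := hx
      rw [← hx', mul_self_conj, g0, mul_one, mul_inv_cancel] at g1
      exact S'.z_ne_one g1.symm
    rw [hset, Finset.filter_insert, Finset.filter_singleton]
    have := S'.zero_ne_one
    split_ifs <;> simp [this]
  obtain ⟨b, f, hloc, hb⟩ := exists_localPair_center hM hmax S
  refine ⟨?_, hcard S h0 h1⟩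
  rw [hb]
  have h := central_sum hM hloc.max S.loc S.loc_central
  rw [hcard S.loc (Subtype.ext h0) (Subtype.ext h1), if_pos (show Sep M f S.loc 0 from ?_)] at h
  · rw [if_congr (sep_loc_iff hM hloc h1) rfl rfl] at h
    omega
  · rintro j ⟨x, hx, -⟩
    have hx' : ((x : cz S.z) : G) * (S.r 0 * S.y) * ((x : cz S.z) : G)⁻¹ = S.r j :=
      congrArg Subtype.val hx
    have hsq : S.r j * S.r j = 1 := by rw [← hx', mul_self_conj, h0, mul_one, mul_inv_cancel]
    rw [← S.r_add, S.r_eq_one_iff] at hsq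
    rcases eq_half_of_add_self hsq with hj | hj
    · rw [hj] at hx'
      exact S.outer_ne 0 0 ((conj_eq_one_iff.mp (hx'.trans S.r_zero)).trans S.r_zero.symm)
    · have hz : ((x : cz S.z) : G) * S.z * ((x : cz S.z) : G)⁻¹ = S.z := by
        rw [mem_cz_iff.mp x.2, mul_inv_cancel_right]
      rw [hj] at hx'
      exact S.outer_ne 0 (q : ZMod (2 * q))
        (mul_left_cancel (mul_right_cancel (hx'.trans hz.symm)))

end CfsgLib.Blocks.TameTwo
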