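import Cfsg.Agent.Lib.Blocks.TameTwo.Local
import Cfsg.Agent.Lib.Blocks.TameTwo.LocalUnit
import Cfsg.Agent.Lib.Blocks.TameTwo.Coeff
import Cfsg.Agent.Lib.Blocks.TameTwo.LocalGroups

/-!
# The functions on the rotations

A nilpotent local block at an element commuting with the rotations gives every member of `B` a
function on the rotations with integral coefficients invariant under `D`, whose products are the
projections at the rotations of order at least four.
-/

set_option autoImplicit false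
set_option linter.unusedSectionVars false

namespace CfsgLib.Blocks.TameTwo

open Cfsg
open scoped ComplexConjugate CfsgLib.Char

variable {M : Ideal AlgInt} [M.IsPrime] {G : Type*} [Group G] [Fintype G] {D : Subgroup G}
  {e : Set (IrrCharacter (Subgroup.centralizer (D : Set G)))} {B : Set (IrrCharacter G)}
  {q : ℕ} [NeZero q]

variable (M e B) in
/-- The functions on the rotations with their coefficients. -/
structure RotData (S : Shape D q) (F : ↥B → ZMod (2 * q) → ℂ) (n : ↥B → ZMod (2 * q) → ℤ) :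
    Prop where
  expand : ∀ χ r, F χ r = ∑ j, (n χ j : ℂ) * zeta (j * r)
  symm : ∀ χ r, n χ (S.s * r) = n χ r
  odd : ∀ χ : ↥B, blockHeight 2 B ((χ : IrrCharacter G) : G → ℂ) = 0 → Odd (∑ j, n χ j)
  proj : ∀ r : ZMod (2 * q), r ≠ 0 → r ≠ (q : ZMod (2 * q)) → ∀ χ ψ : ↥B,
    pm 2 M (S.r r, topPair 2 M D e (S.r r)) (χ : IrrCharacter G) (ψ : IrrCharacter G) =
      F χ r * conj (F ψ r) / ((2 * q : ℕ) : ℂ)

section FromLocal

variable {u : G} [Fintype (cz u)] [Fintype ↥(locA D u)]

/-- The rotations inside the local subgroup. -/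
def rotHom (S : Shape D q) (h : ∀ j, S.r j ∈ cz u) :
    Multiplicative (ZMod (2 * q)) →* ↥(locA D u) where
  toFun x := ⟨⟨S.r x.toAdd, h _⟩, S.r_mem _⟩
  map_one' := Subtype.ext (Subtype.ext S.r_zero)
  map_mul' x y := Subtype.ext (Subtype.ext (S.r_add x.toAdd y.toAdd))

/-- The function on the rotations from the local block. -/
noncomputable def rotF (S : Shape D q) (h : ∀ j, S.r j ∈ cz u)
    (Ψ : IrrCharacter ↥(locA D u) → IrrCharacter (cz u)) (χ : G → ℂ) (r : ZMod (2 * q)) : ℂ :=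
  Phi Ψ χ (rotHom S h (Multiplicative.ofAdd r))

variable {b : Set (IrrCharacter (cz u))}
  {f : Set (IrrCharacter (Subgroup.centralizer (locA D u : Set (cz u))))}
  {χ₀ : IrrCharacter (cz u)} {Ψ : IrrCharacter ↥(locA D u) → IrrCharacter (cz u)}

theorem exists_rotData (hM : IsPModular 2 M) (hmax : IsMaximalBrauerPair 2 M B D e) (hu : u ∈ D)
    (hloc : IsLocalPair 2 M D e u b f) (hΨ : IsNilImage 2 M (locA D u) f b χ₀ Ψ)
    (hnil : IsNilpotentBlock 2 M b) (hχ₀ : χ₀ ∈ b) (h₀ : blockHeight 2 b (χ₀ : cz u → ℂ) = 0)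
    (S : Shape D q) (hrot : ∀ j, S.r j ∈ cz u)
    (hcz : ∀ r : ZMod (2 * q), r ≠ 0 → r ≠ (q : ZMod (2 * q)) → cz (S.r r) ≤ cz u)
    (hsymm : ∀ (χ : ↥B) r, rotF S hrot Ψ (χ : IrrCharacter G) (S.s * r) =
      rotF S hrot Ψ (χ : IrrCharacter G) r) :
    ∃ n, RotData M e B S (fun χ => rotF S hrot Ψ ((χ : IrrCharacter G) : G → ℂ)) n := by
  classical
  have hgen : ∀ χ : ↥B, IsGeneralizedCharacter (Multiplicative (ZMod (2 * q))) fun x =>
      rotF S hrot Ψ ((χ : IrrCharacter G) : G → ℂ) x.toAdd := by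
    intro χ
    choose k hk using fun θ : IrrCharacter ↥(locA D u) => Char.exists_int_classInner
      (Char.isGeneralized_of_isCharacter
        (Char.isCharacter_restrict (cz u) (Char.isCharacter_of_isIrr (χ : IrrCharacter G).2)))
      (Char.isGeneralized_of_isIrr (Ψ θ).2)
    have e1 : (fun x : Multiplicative (ZMod (2 * q)) =>
        rotF S hrot Ψ ((χ : IrrCharacter G) : G → ℂ) x.toAdd) = ∑ θ : IrrCharacter ↥(locA D u),
          (k θ : ℂ) • ((θ : ↥(locA D u) → ℂ) ∘ rotHom S hrot) := by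
      funext x
      rw [Finset.sum_apply]
      exact Finset.sum_congr rfl fun θ _ => by rw [hk θ]; rfl
    rw [e1]
    exact Char.isGeneralized_sum _ _ fun θ _ => Char.isGeneralized_intCast_smul
      (Char.isGeneralized_of_isCharacter (Char.isCharacter_comp _ (Char.isCharacter_of_isIrr θ.2))) _
  choose n hn using fun χ : ↥B => exists_coeff (hgen χ)
  refine ⟨n, hn, fun χ r => coeff_symm (hn χ) S.s_sq (hsymm χ) r, fun χ hχ => ?_, ?_⟩
  · have hu2 : ∃ k : ℕ, orderOf u = 2 ^ k := exists_pow_orderOf_mem hM hmax.1.1.1 ⟨u, hu⟩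
    obtain ⟨s, hs, hunit⟩ := exists_res_unit_cz hM χ.2 hχ hu2
      ((SubpairLE.isBrauerPairOf_iff hM hloc.le hmax.1.2.1).mp hmax.1)
    rw [blockPart_res_regular hM hloc hΨ ((χ : IrrCharacter G) : G → ℂ) hs] at hunit
    have hsum : ((∑ j, n χ j : ℤ) : ℂ) = Phi Ψ ((χ : IrrCharacter G) : G → ℂ) 1 := by
      rw [sum_coeff (hn χ), rotF, ofAdd_zero, map_one]
    rw [← hsum] at hunit
    rw [← Int.not_even_iff_odd, even_iff_two_dvd]
    refine fun h2 => hunit (memLocalIdeal_mul_right ((memLocalIdeal_intCast_iff hM).mpr h2)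
      (memLocalRing_of_isIntegral (irr_isIntegral χ₀.2 s)))
  · intro r h0 hh χ ψ
    have hcard : Nat.card ↥(D ⊓ cz (S.r r)) = 2 * q := by
      refine (Nat.card_congr (Equiv.subtypeEquivRight fun d => ?_)).trans
        ((Nat.card_range_of_injective S.r_inj).trans (Nat.card_zmod _))
      rw [Subgroup.mem_inf, mem_cz_iff, S.cent_r h0 hh]
      exact ⟨fun ⟨i, hi⟩ => ⟨i, hi.symm⟩, fun ⟨i, hi⟩ => ⟨i, hi.symm⟩⟩
    have h := pm_topPair hM hloc hΨ hmax hnil hχ₀ h₀
      (w := rotHom S hrot (Multiplicative.ofAdd r)) (hcz r h0 hh)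
      (irr_classFunction (χ : IrrCharacter G)) (irr_classFunction (ψ : IrrCharacter G))
    refine h.trans ?_
    show _ / (Nat.card ↥(D ⊓ cz (S.r r)) : ℂ) = _
    rw [hcard]
    rfl

end FromLocal

end CfsgLib.Blocks.TameTwo
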