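import Mathlib.GroupTheory.SpecificGroups.Dihedral
import Mathlib.GroupTheory.SpecificGroups.Quaternion
import Mathlib.GroupTheory.OrderOfElement
import Mathlib.GroupTheory.Index
import Mathlib.Data.ZMod.Units
import Mathlib.Tactic.Ring
import Mathlib.Tactic.LinearCombination
import Cfsg.Prelude.Def_CaseTheorems

/-!
# Two-groups of maximal class

A dihedral, quaternion or semidihedral subgroup of order `4q` is described by the rotations
`r j`, `j : ZMod (2q)`, and one element `y` outside them.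
-/

set_option autoImplicit false
set_option linter.unusedSectionVars false

namespace CfsgLib.Blocks.TameTwo

/-- Doubling has kernel of order two. -/
theorem eq_half_of_add_self {q : ℕ} [NeZero q] {j : ZMod (2 * q)} (h : j + j = 0) :
    j = 0 ∨ j = (q : ZMod (2 * q)) := by
  have hq := Nat.pos_of_neZero q
  have h' : ((j.val + j.val : ℕ) : ZMod (2 * q)) = 0 := by
    rw [Nat.cast_add, ZMod.natCast_zmod_val, h]
  rw [ZMod.natCast_eq_zero_iff] at h'
  obtain ⟨m, hm⟩ := h'
  have hlt := ZMod.val_lt j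
  have : m < 2 := by
    by_contra hm2
    have : 2 * q * 2 ≤ 2 * q * m := Nat.mul_le_mul_left _ (by omega)
    omega
  interval_cases m
  · left
    rw [← ZMod.natCast_zmod_val j, show j.val = 0 by omega, Nat.cast_zero]
  · right
    rw [← ZMod.natCast_zmod_val j, show j.val = q by omega]

/-- The difference from the rotations in the semidihedral group. -/
theorem eq_half_of_semi {q : ℕ} [NeZero q] (hk : ∃ k, q = 2 ^ (k + 1)) (h4 : 4 ≤ q)
    {j : ZMod (2 * q)} (h : ((q : ZMod (2 * q)) - 1) * j = j) :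
    j = 0 ∨ j = (q : ZMod (2 * q)) := by
  obtain ⟨k, hk⟩ := hk
  set m := 2 ^ k - 1 with hm
  have hq : q = 2 * (m + 1) := by
    rw [hk, pow_succ]
    have := Nat.one_le_two_pow (n := k)
    omega
  have hodd : Odd m := by
    have hk1 : k ≠ 0 := fun e => by rw [hk, e] at h4; norm_num at h4
    rw [hm]
    exact Nat.Even.sub_odd Nat.one_le_two_pow (Nat.even_pow.mpr ⟨even_two, hk1⟩) odd_one
  have hcop : Nat.Coprime (2 * q) m := by
    rw [hk, ← pow_succ']
    exact Nat.Coprime.pow_left _ (Nat.coprime_two_left.mpr hodd)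
  have h0 : ((m : ℕ) : ZMod (2 * q)) * j + (m : ℕ) * j = 0 := by
    have e : (q : ZMod (2 * q)) = 2 * ((m : ZMod (2 * q)) + 1) := by
      have := congrArg (fun t : ℕ => (t : ZMod (2 * q))) hq
      push_cast at this
      exact this
    rw [e] at h
    linear_combination h
  obtain ⟨v, hv⟩ := (ZMod.isUnit_iff_coprime m (2 * q)).mpr hcop.symm
  rcases eq_half_of_add_self h0 with h1 | h1 <;> rw [← hv] at h1
  · left
    exact (Units.mul_right_eq_zero v).mp h1
  · right
    have hj : j + j = 0 := by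
      refine (Units.mul_right_eq_zero v).mp ?_
      rw [mul_add, h1, ← Nat.cast_add, ← two_mul, ZMod.natCast_self]
    rcases eq_half_of_add_self hj with h2 | h2
    · rw [h2, mul_zero, eq_comm, ZMod.natCast_eq_zero_iff] at h1
      have := Nat.le_of_dvd (Nat.pos_of_neZero q) h1
      have := Nat.pos_of_neZero q
      omega
    · exact h2

/-- A subgroup of order `4q` of maximal class. -/
structure Shape {G : Type*} [Group G] (D : Subgroup G) (q : ℕ) where
  /-- The rotations. -/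
  r : ZMod (2 * q) → G
  /-- An element outside the rotations. -/
  y : G
  /-- The action of `y` on the rotations. -/
  s : ZMod (2 * q)
  /-- The square of `y`. -/
  c : ZMod (2 * q)
  r_add : ∀ i j, r (i + j) = r i * r j
  r_inj : Function.Injective r
  r_mem : ∀ j, r j ∈ D
  y_mem : y ∈ D
  y_mul : ∀ j, y * r j = r (s * j) * y
  y_sq : y * y = r c
  y_ne : ∀ j, y ≠ r j
  cover : ∀ d ∈ D, ∃ j, d = r j ∨ d = r j * y
  two : ∃ k, q = 2 ^ (k + 1)
  kind : (s = -1 ∧ c = 0) ∨ (s = -1 ∧ c = (q : ZMod (2 * q))) ∨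
    (s = (q : ZMod (2 * q)) - 1 ∧ c = 0 ∧ 4 ≤ q)

namespace Shape

variable {G : Type*} [Group G] {D : Subgroup G} {q : ℕ} (S : Shape D q)

/-- The group is dihedral. -/
def IsDih : Prop := S.s = -1 ∧ S.c = 0

/-- The group is quaternion. -/
def IsQuat : Prop := S.s = -1 ∧ S.c = (q : ZMod (2 * q))

/-- The group is semidihedral. -/
def IsSemi : Prop := S.s = (q : ZMod (2 * q)) - 1 ∧ S.c = 0 ∧ 4 ≤ q

include S in
theorem two_le : 2 ≤ q := by
  obtain ⟨k, hk⟩ := S.two
  have := Nat.one_le_two_pow (n := k)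
  rw [hk, pow_succ]
  omega

include S in
theorem neZero : NeZero q := ⟨by have := S.two_le; omega⟩

theorem r_zero : S.r 0 = 1 := by
  have h := S.r_add 0 0
  rw [add_zero] at h
  exact mul_eq_left.mp h.symm

theorem r_neg (j : ZMod (2 * q)) : S.r (-j) = (S.r j)⁻¹ := by
  refine eq_inv_of_mul_eq_one_left ?_
  rw [← S.r_add, neg_add_cancel, r_zero]

theorem r_comm (i j : ZMod (2 * q)) : S.r i * S.r j = S.r j * S.r i := by
  rw [← S.r_add, ← S.r_add, add_comm]

theorem r_eq_one_iff {j : ZMod (2 * q)} : S.r j = 1 ↔ j = 0 := by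
  rw [← S.r_zero, S.r_inj.eq_iff]

theorem r_nsmul (n : ℕ) (j : ZMod (2 * q)) : S.r ((n : ZMod (2 * q)) * j) = S.r j ^ n := by
  induction n with
  | zero => rw [Nat.cast_zero, zero_mul, S.r_zero, pow_zero]
  | succ n ih => rw [Nat.cast_succ, add_one_mul, S.r_add, ih, pow_succ]

/-- The central involution. -/
def z : G := S.r (q : ZMod (2 * q))

theorem half_add_half : (q : ZMod (2 * q)) + (q : ZMod (2 * q)) = 0 := by
  rw [← Nat.cast_add, ← two_mul, ZMod.natCast_self]

include S in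
theorem half_ne_zero : (q : ZMod (2 * q)) ≠ 0 := by
  intro h
  rw [ZMod.natCast_eq_zero_iff] at h
  have := Nat.le_of_dvd (by have := S.two_le; omega) h
  have := S.two_le
  omega

include S in
theorem two_dvd_q : 2 ∣ q := by
  obtain ⟨k, hk⟩ := S.two
  exact ⟨2 ^ k, by rw [hk, pow_succ']⟩

include S in
theorem half_mul_self : (q : ZMod (2 * q)) * (q : ZMod (2 * q)) = 0 := by
  obtain ⟨m, hm⟩ := S.two_dvd_q
  rw [← Nat.cast_mul, ZMod.natCast_eq_zero_iff]
  exact ⟨m, by rw [hm]; ring⟩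

theorem s_sq : S.s * S.s = 1 := by
  rcases S.kind with ⟨h, -⟩ | ⟨h, -⟩ | ⟨h, -, -⟩ <;> rw [h]
  · ring
  · ring
  · linear_combination S.half_mul_self - (half_add_half (q := q))

theorem s_fix {j : ZMod (2 * q)} (h : S.s * j = j) : j = 0 ∨ j = (q : ZMod (2 * q)) := by
  have := S.neZero
  rcases S.kind with ⟨e, -⟩ | ⟨e, -⟩ | ⟨e, -, h4⟩ <;> rw [e] at h
  · exact eq_half_of_add_self (by linear_combination -h)
  · exact eq_half_of_add_self (by linear_combination -h)
  · exact eq_half_of_semi S.two h4 h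

theorem s_mul_half : S.s * (q : ZMod (2 * q)) = (q : ZMod (2 * q)) := by
  rcases S.kind with ⟨h, -⟩ | ⟨h, -⟩ | ⟨h, -, -⟩ <;> rw [h]
  · linear_combination -(half_add_half (q := q))
  · linear_combination -(half_add_half (q := q))
  · linear_combination S.half_mul_self - (half_add_half (q := q))

theorem s_mul_fix {j : ZMod (2 * q)} (h : j = 0 ∨ j = (q : ZMod (2 * q))) : S.s * j = j := by
  rcases h with rfl | rfl
  exacts [mul_zero _, S.s_mul_half]

/-- The parity of an index. -/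
def par (j : ZMod (2 * q)) : ZMod 2 := ZMod.castHom (dvd_mul_right 2 q) (ZMod 2) j

theorem par_s : par S.s = 1 := by
  obtain ⟨m, hm⟩ := S.two_dvd_q
  have hq : (q : ZMod 2) = 0 := by rw [ZMod.natCast_eq_zero_iff]; exact ⟨m, hm⟩
  rcases S.kind with ⟨h, -⟩ | ⟨h, -⟩ | ⟨h, -, -⟩ <;>
    simp only [h, par, map_neg, map_one, map_sub, map_natCast, hq] <;> decide

theorem par_s_mul (j : ZMod (2 * q)) : par (S.s * j) = par j := by
  have h := S.par_s
  simp only [par, map_mul] at h ⊢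
  rw [h, one_mul]

include S in
theorem par_half : par (q : ZMod (2 * q)) = 0 := by
  obtain ⟨m, hm⟩ := S.two_dvd_q
  simp only [par, map_natCast]
  rw [ZMod.natCast_eq_zero_iff]
  exact ⟨m, hm⟩

include S in
theorem exists_half_of_par {m : ZMod (2 * q)} (h : par m = 0) : ∃ w, m = w + w := by
  have := S.neZero
  rw [par, ← ZMod.natCast_zmod_val m, map_natCast, ZMod.natCast_eq_zero_iff] at h
  obtain ⟨w, hw⟩ := h
  exact ⟨(w : ZMod (2 * q)), by rw [← Nat.cast_add, ← two_mul, ← hw, ZMod.natCast_zmod_val]⟩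

theorem conj_r (j : ZMod (2 * q)) : S.y * S.r j * S.y⁻¹ = S.r (S.s * j) := by
  rw [S.y_mul, mul_inv_cancel_right]

theorem outer_ne (i j : ZMod (2 * q)) : S.r i * S.y ≠ S.r j := fun h =>
  S.y_ne (-i + j) (by rw [S.r_add, ← h, r_neg, inv_mul_cancel_left])

theorem outer_inj {i j : ZMod (2 * q)} (h : S.r i * S.y = S.r j * S.y) : i = j :=
  S.r_inj (mul_right_cancel h)

theorem outer_mem (i : ZMod (2 * q)) : S.r i * S.y ∈ D := mul_mem (S.r_mem i) S.y_mem

theorem outer_mul_r (i j : ZMod (2 * q)) : S.r i * S.y * S.r j = S.r (i + S.s * j) * S.y := by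
  rw [mul_assoc, S.y_mul, ← mul_assoc, ← S.r_add]

theorem outer_mul_outer (i j : ZMod (2 * q)) :
    S.r i * S.y * (S.r j * S.y) = S.r (i + S.s * j + S.c) := by
  rw [← mul_assoc, S.outer_mul_r, mul_assoc, S.y_sq, ← S.r_add]

theorem outer_sq (i : ZMod (2 * q)) :
    S.r i * S.y * (S.r i * S.y) = S.r ((1 + S.s) * i + S.c) := by
  rw [S.outer_mul_outer, add_mul, one_mul]

theorem outer_commute_r {i j : ZMod (2 * q)} :
    S.r i * S.y * S.r j = S.r j * (S.r i * S.y) ↔ S.s * j = j := by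
  rw [S.outer_mul_r, ← mul_assoc, ← S.r_add]
  refine ⟨fun h => ?_, fun h => by rw [h, add_comm]⟩
  linear_combination S.outer_inj h

theorem z_mem : S.z ∈ D := S.r_mem _

theorem z_commute {d : G} (hd : d ∈ D) : d * S.z = S.z * d := by
  obtain ⟨j, rfl | rfl⟩ := S.cover d hd
  · exact S.r_comm _ _
  · exact S.outer_commute_r.mpr S.s_mul_half

theorem z_ne_one : S.z ≠ 1 := fun h => S.half_ne_zero (S.r_eq_one_iff.mp h)

theorem z_sq : S.z * S.z = 1 := by
  rw [z, ← S.r_add, half_add_half, S.r_zero]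

/-- The centralizer of a rotation other than `1` and `z`. -/
theorem cent_r {j : ZMod (2 * q)} (h0 : j ≠ 0) (hh : j ≠ (q : ZMod (2 * q))) (d : G) :
    (d ∈ D ∧ d * S.r j = S.r j * d) ↔ ∃ i, d = S.r i := by
  constructor
  · rintro ⟨hd, hc⟩
    obtain ⟨i, rfl | rfl⟩ := S.cover d hd
    · exact ⟨i, rfl⟩
    · exact absurd (S.s_fix (S.outer_commute_r.mp hc)) (by tauto)
  · rintro ⟨i, rfl⟩
    exact ⟨S.r_mem i, S.r_comm i j⟩

/-- The centralizer of an element outside the rotations. -/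
theorem cent_outer (i : ZMod (2 * q)) (d : G) :
    (d ∈ D ∧ d * (S.r i * S.y) = S.r i * S.y * d) ↔
      d = 1 ∨ d = S.z ∨ d = S.r i * S.y ∨ d = S.z * (S.r i * S.y) := by
  constructor
  · rintro ⟨hd, hc⟩
    obtain ⟨j, rfl | rfl⟩ := S.cover d hd
    · rcases S.s_fix (S.outer_commute_r.mp hc.symm) with rfl | rfl
      · exact Or.inl S.r_zero
      · exact Or.inr (Or.inl rfl)
    · rw [S.outer_mul_outer, S.outer_mul_outer] at hc
      have hji : S.s * (j - i) = j - i := by linear_combination -(S.r_inj hc)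
      rcases S.s_fix hji with h | h
      · exact Or.inr (Or.inr (Or.inl (by rw [sub_eq_zero.mp h])))
      · refine Or.inr (Or.inr (Or.inr ?_))
        rw [z, ← mul_assoc, ← S.r_add, ← h, sub_add_cancel]
  · rintro (rfl | rfl | rfl | rfl)
    · exact ⟨one_mem D, by rw [one_mul, mul_one]⟩
    · exact ⟨S.z_mem, (S.z_commute (S.outer_mem i)).symm⟩
    · exact ⟨S.outer_mem i, rfl⟩
    · exact ⟨mul_mem S.z_mem (S.outer_mem i),
        Commute.mul_left (S.z_commute (S.outer_mem i)).symm (Commute.refl _)⟩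

/-- Every element outside the rotations is conjugate in `D` to `y` or to `r 1 * y`. -/
theorem exists_conj_outer (i : ZMod (2 * q)) :
    ∃ e : ZMod (2 * q), (e = 0 ∨ e = 1) ∧ par e = par i ∧
      ∃ t ∈ D, t * (S.r i * S.y) * t⁻¹ = S.r e * S.y := by
  have := S.neZero
  obtain ⟨e, he, hpar⟩ : ∃ e : ZMod (2 * q), (e = 0 ∨ e = 1) ∧ par e = par i := by
    rcases (show ∀ a : ZMod 2, a = 0 ∨ a = 1 by decide) (par i) with h | h
    · exact ⟨0, Or.inl rfl, by rw [h, par, map_zero]⟩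
    · exact ⟨1, Or.inr rfl, by rw [h, par, map_one]⟩
  refine ⟨e, he, hpar, ?_⟩
  obtain ⟨w, hw⟩ := S.exists_half_of_par (m := e - i) (by
    simp only [par, map_sub] at hpar ⊢; rw [hpar, sub_self])
  -- solve `(1 - s) j = e - i`
  obtain ⟨j, hj⟩ : ∃ j, (1 - S.s) * j = e - i := by
    rcases S.kind with ⟨h, -⟩ | ⟨h, -⟩ | ⟨h, -, h4⟩
    · exact ⟨w, by rw [h, hw]; ring⟩
    · exact ⟨w, by rw [h, hw]; ring⟩
    · obtain ⟨k, hk⟩ := S.two
      obtain ⟨m, hm⟩ : ∃ m, q = 2 * m := S.two_dvd_q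
      -- `1 - s = 2 - q = 2 (1 - m)` and `1 - m` is a unit
      have hm2 : Even m := by
        rcases k with _ | k
        · omega
        · exact ⟨2 ^ k, by rw [pow_succ, pow_succ] at hk; omega⟩
      have hcop : Nat.Coprime (m + 1) (2 * q) := by
        rw [hk, ← pow_succ']
        exact Nat.Coprime.pow_right _ (Nat.coprime_two_right.mpr hm2.add_one)
      obtain ⟨v, hv⟩ := (ZMod.isUnit_iff_coprime _ _).mpr hcop
      refine ⟨(↑v⁻¹ : ZMod (2 * q)) * w, ?_⟩
      have e' : (q : ZMod (2 * q)) = 2 * (m : ZMod (2 * q)) := by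
        rw [hm]; push_cast; ring
      have hinv : ((m : ZMod (2 * q)) + 1) * (↑v⁻¹ : ZMod (2 * q)) = 1 := by
        rw [← Nat.cast_one (R := ZMod (2 * q)), ← Nat.cast_add, ← hv, Units.mul_inv, Nat.cast_one]
      rw [h, hw]
      linear_combination 2 * w * hinv + (↑v⁻¹ * w) * (e' - half_add_half (q := q))
  refine ⟨S.r j, S.r_mem j, ?_⟩
  rw [← r_neg, ← mul_assoc, ← S.r_add, S.outer_mul_r]
  congr 2
  linear_combination hj

/-! ### Construction -/

/-- The shape given by generators. -/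
theorem exists_of_generators [Finite G] {q : ℕ} (hq : ∃ k, q = 2 ^ (k + 1)) {a y : G} (ha : a ∈ D)
    (hy : y ∈ D) (hoa : orderOf a = 2 * q) (hny : y ∉ Subgroup.zpowers a)
    (hcard : Nat.card D = 4 * q) (e cc : ℤ) (hconj : y * a * y⁻¹ = a ^ e) (hsq : y * y = a ^ cc)
    (hkind : ((e : ZMod (2 * q)) = -1 ∧ (cc : ZMod (2 * q)) = 0) ∨
      ((e : ZMod (2 * q)) = -1 ∧ (cc : ZMod (2 * q)) = (q : ZMod (2 * q))) ∨
      ((e : ZMod (2 * q)) = (q : ZMod (2 * q)) - 1 ∧ (cc : ZMod (2 * q)) = 0 ∧ 4 ≤ q)) :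
    ∃ S : Shape D q, S.s = e ∧ S.c = cc := by
  have hq0 : NeZero (2 * q) := ⟨by
    obtain ⟨k, hk⟩ := hq
    have := Nat.one_le_two_pow (n := k + 1)
    omega⟩
  have hpow : ∀ m n : ℤ, (m : ZMod (2 * q)) = n → a ^ m = a ^ n := fun m n h => by
    rw [zpow_eq_zpow_iff_modEq, hoa]
    exact (ZMod.intCast_eq_intCast_iff _ _ _).mp h
  let f : ZMod (2 * q) → G := fun j => a ^ (j.val : ℤ)
  have hadd : ∀ i j, f (i + j) = f i * f j := fun i j => by
    show a ^ _ = a ^ _ * a ^ _
    rw [← zpow_add]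
    exact hpow _ _ (by push_cast; simp)
  have hint : ∀ m : ℤ, a ^ m = f (m : ZMod (2 * q)) := fun m => hpow _ _ (by simp)
  have hinj : Function.Injective f := fun i j h => by
    have h' : a ^ i.val = a ^ j.val := by rw [← zpow_natCast, ← zpow_natCast]; exact h
    refine ZMod.val_injective _ ?_
    refine pow_injOn_Iio_orderOf ?_ ?_ h' <;> simp only [Set.mem_Iio, hoa, ZMod.val_lt]
  have hmul : ∀ j : ZMod (2 * q), y * f j = f ((e : ZMod (2 * q)) * j) * y := fun j => by
    have h1 : y * f j * y⁻¹ = a ^ (e * (j.val : ℤ)) := by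
      show y * a ^ (j.val : ℤ) * y⁻¹ = _
      rw [← conj_zpow, hconj, ← zpow_mul]
    rw [show f ((e : ZMod (2 * q)) * j) = a ^ (e * (j.val : ℤ)) from
      hpow _ _ (by push_cast; simp), ← h1, inv_mul_cancel_right]
  have hne : ∀ j, y ≠ f j := fun j h => hny ⟨_, h.symm⟩
  refine ⟨⟨f, y, e, cc, hadd, hinj, fun j => zpow_mem ha _, hy, hmul,
    by rw [hsq]; exact hint cc, hne, ?_, hq, hkind⟩, rfl, rfl⟩
  -- the cover
  let g : ZMod (2 * q) ⊕ ZMod (2 * q) → D := Sum.elim (fun j => ⟨f j, zpow_mem ha _⟩)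
    fun j => ⟨f j * y, mul_mem (zpow_mem ha _) hy⟩
  have hg : Function.Injective g := by
    rintro (i | i) (j | j) h <;> simp only [g, Sum.elim_inl, Sum.elim_inr, Subtype.mk.injEq] at h
    · rw [hinj h]
    · exact absurd ⟨-(j.val : ℤ) + (i.val : ℤ), by
        show a ^ _ = y
        rw [zpow_add, zpow_neg]
        show (f j)⁻¹ * f i = y
        rw [h, inv_mul_cancel_left]⟩ hny
    · exact absurd ⟨-(i.val : ℤ) + (j.val : ℤ), by
        show a ^ _ = y
        rw [zpow_add, zpow_neg]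
        show (f i)⁻¹ * f j = y
        rw [← h, inv_mul_cancel_left]⟩ hny
    · rw [hinj (mul_right_cancel h)]
  intro d hd
  obtain ⟨i, hi⟩ := (hg.bijective_of_nat_card_le (by
    rw [Nat.card_sum, Nat.card_zmod, hcard]; omega)).2 ⟨d, hd⟩
  rcases i with j | j
  · exact ⟨j, Or.inl (congrArg Subtype.val hi).symm⟩
  · exact ⟨j, Or.inr (congrArg Subtype.val hi).symm⟩

theorem exists_dihedral [Finite G] {k : ℕ} (φ : D ≃* DihedralGroup (2 ^ (k + 2))) :
    ∃ S : Shape D (2 ^ (k + 1)), S.IsDih := by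
  set a : D := φ.symm (DihedralGroup.r 1)
  set y : D := φ.symm (DihedralGroup.sr 0)
  have hn : 2 * 2 ^ (k + 1) = 2 ^ (k + 2) := (pow_succ' 2 (k + 1)).symm
  have hcard : Nat.card D = 4 * 2 ^ (k + 1) := by
    rw [Nat.card_congr φ.toEquiv, DihedralGroup.nat_card, pow_succ]
    ring
  have hconj : y * a * y⁻¹ = a⁻¹ := by
    refine φ.injective ?_
    simp [a, y]
  obtain ⟨S, hs, hc⟩ := exists_of_generators (D := D) (q := 2 ^ (k + 1)) ⟨k, rfl⟩ a.2 y.2
    (by rw [Subgroup.orderOf_coe, MulEquiv.orderOf_eq, DihedralGroup.orderOf_r_one, hn])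
    (fun hmem => by
      obtain ⟨i, hi⟩ := Subgroup.mem_zpowers_iff.mp hmem
      have h : a ^ i = y := Subtype.ext (by simpa using hi)
      have h' := congrArg φ h
      simp [a, y, map_zpow] at h')
    hcard (-1) 0
    (by rw [zpow_neg_one]; exact congrArg Subtype.val hconj)
    (by
      rw [zpow_zero]
      have : y * y = 1 := φ.injective (by simp [y])
      exact congrArg Subtype.val this)
    (Or.inl ⟨by simp, by simp⟩)
  exact ⟨S, by rw [hs]; simp, by rw [hc]; simp⟩

theorem exists_quaternion [Finite G] {k : ℕ} (φ : D ≃* QuaternionGroup (2 ^ (k + 1))) :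
    ∃ S : Shape D (2 ^ (k + 1)), S.IsQuat := by
  set a : D := φ.symm (QuaternionGroup.a 1)
  set y : D := φ.symm (QuaternionGroup.xa 0)
  have : NeZero (2 ^ (k + 1)) := ⟨by positivity⟩
  have hcard : Nat.card D = 4 * 2 ^ (k + 1) := by
    rw [Nat.card_congr φ.toEquiv, Nat.card_eq_fintype_card, QuaternionGroup.card]
  have hy2 : y * y = a ^ ((2 ^ (k + 1) : ℕ)) := by
    refine φ.injective ?_
    simp [a, y, map_pow, QuaternionGroup.a_one_pow]
  obtain ⟨S, hs, hc⟩ := exists_of_generators (D := D) (q := 2 ^ (k + 1)) ⟨k, rfl⟩ a.2 y.2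
    (by rw [Subgroup.orderOf_coe, MulEquiv.orderOf_eq, QuaternionGroup.orderOf_a_one])
    (fun hmem => by
      obtain ⟨i, hi⟩ := Subgroup.mem_zpowers_iff.mp hmem
      have h : a ^ i = y := Subtype.ext (by simpa using hi)
      obtain ⟨m, hm⟩ := (mem_powers_iff_mem_zpowers.mpr ⟨i, h⟩ : y ∈ Submonoid.powers a)
      have h' := congrArg φ (show a ^ m = y from hm)
      simp [a, y, map_pow, QuaternionGroup.a_one_pow] at h')
    hcard (-1) (2 ^ (k + 1) : ℕ)
    (by
      have h : y * a * y⁻¹ = a⁻¹ := by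
        rw [mul_inv_eq_iff_eq_mul]
        refine φ.injective ?_
        rw [map_mul, map_mul, map_inv, MulEquiv.apply_symm_apply, MulEquiv.apply_symm_apply,
          show (QuaternionGroup.a 1 : QuaternionGroup (2 ^ (k + 1)))⁻¹ = QuaternionGroup.a (-1) from rfl]
        simp
      rw [zpow_neg_one]; exact congrArg Subtype.val h)
    (by rw [zpow_natCast]; exact congrArg Subtype.val hy2)
    (Or.inr (Or.inl ⟨by simp, by simp⟩))
  exact ⟨S, by rw [hs]; simp, by rw [hc]; simp⟩

theorem exists_semidihedral [Finite G] {k : ℕ} (hD : Cfsg.IsQuasiDihedral D)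
    (hcard : Nat.card D = 2 ^ (k + 4)) : ∃ S : Shape D (2 ^ (k + 2)), S.IsSemi := by
  obtain ⟨n, -, hn, a, y, ha, hy, h⟩ := hD
  obtain rfl : n = k + 3 := by
    have := Nat.pow_right_injective (le_refl 2) (hn.symm.trans hcard)
    omega
  have hqq : 2 * 2 ^ (k + 2) = 2 ^ (k + 3) := (pow_succ' 2 (k + 2)).symm
  have h4 : 4 ≤ 2 ^ (k + 2) := by
    rw [pow_add]
    have := Nat.one_le_two_pow (n := k)
    omega
  have hsub : k + 3 - 1 = k + 2 := rfl
  rw [hsub] at h
  have hny : y ∉ Subgroup.zpowers a := by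
    intro hmem
    obtain ⟨i, rfl⟩ := Subgroup.mem_zpowers_iff.mp hmem
    rw [(Commute.zpow_self a i).eq, mul_inv_cancel_right] at h
    have h' : a ^ 1 = a ^ (2 ^ (k + 2) - 1) := by rw [pow_one]; exact h
    have hlt : 2 ^ (k + 2) - 1 < orderOf a := by rw [ha]; omega
    have := pow_injOn_Iio_orderOf (show 1 < orderOf a by rw [ha]; omega) hlt h'
    omega
  obtain ⟨S, hs, hc⟩ := exists_of_generators (D := D) (q := 2 ^ (k + 2)) ⟨k + 1, rfl⟩ a.2 y.2
    (by rw [Subgroup.orderOf_coe, ha, hqq])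
    (fun hmem => hny (by
      obtain ⟨i, hi⟩ := Subgroup.mem_zpowers_iff.mp hmem
      exact ⟨i, Subtype.ext (by simpa using hi)⟩))
    (by rw [hn, show k + 3 + 1 = 2 + (k + 2) by omega, pow_add]; norm_num)
    (((2 ^ (k + 2) - 1 : ℕ) : ℤ)) 0
    (by rw [zpow_natCast]; exact congrArg Subtype.val h)
    (by
      rw [zpow_zero]
      have : y * y = 1 := by rw [← sq, ← hy, pow_orderOf_eq_one]
      exact congrArg Subtype.val this)
    (Or.inr (Or.inr ⟨by rw [Int.cast_natCast, Nat.cast_sub (by omega), Nat.cast_one], by simp, h4⟩))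
  exact ⟨S, by rw [hs, Int.cast_natCast, Nat.cast_sub (by omega), Nat.cast_one], by rw [hc]; simp, h4⟩

end Shape

end CfsgLib.Blocks.TameTwo
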