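import Cfsg.Agent.Lib.Blocks.TameTwo.Frame
import Cfsg.Agent.Lib.Blocks.TameTwo.Values
import Cfsg.Agent.Lib.Char.MeanValue

/-!
# A central involution

When the involution `z` of the shape is central, every member of the block has a sign at `z`; the
projections at `z` and at the translated rotations are those at `1` and at the rotations twisted by
the signs.
-/

set_option autoImplicit false
set_option linter.unusedSectionVars false

namespace CfsgLib.Blocks.TameTwo

open Cfsg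
open scoped ComplexConjugate CfsgLib.Char

/-- The sign of a character at a central involution. -/
theorem exists_sign {G : Type*} [Group G] [Finite G] {z : G} (hz : ∀ g, Commute z g)
    (hz2 : z * z = 1) (χ : IrrCharacter G) :
    ∃ ε : ℤ, (ε = 1 ∨ ε = -1) ∧ ∀ g, (χ : G → ℂ) (g * z) = (ε : ℂ) * (χ : G → ℂ) g := by
  have hc : z ∈ Subgroup.center G := Subgroup.mem_center_iff.mpr fun g => ((hz g).eq).symm
  have h0 := Char.irr_degree_ne_zero χ.2
  have hz' := Char.central_mul χ.2 hc z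
  rw [hz2] at hz'
  rcases mul_self_eq_mul_self_iff.mp hz' with h | h
  · refine ⟨1, Or.inl rfl, fun g => mul_right_cancel₀ h0 ?_⟩
    rw [Char.central_mul χ.2 hc g, ← h]
    push_cast
    ring
  · refine ⟨-1, Or.inr rfl, fun g => mul_right_cancel₀ h0 ?_⟩
    rw [Char.central_mul χ.2 hc g, h]
    push_cast
    ring

theorem cast_sign_mul_self {ε : ℤ} (h : ε = 1 ∨ ε = -1) : (ε : ℂ) * (ε : ℂ) = 1 := by
  rcases h with rfl | rfl <;> norm_num

/-- The multiplicity of a constituent of the restriction forces its sign. -/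
theorem sign_of_constituent {G : Type*} [Group G] [Fintype G] {K : Subgroup G} [Fintype K]
    {χ : G → ℂ} {η : K → ℂ} {zK : K} {a b : ℤ} (hb : b = 1 ∨ b = -1)
    (hχ : ∀ g, χ (g * (zK : G)) = (a : ℂ) * χ g) (hη : ∀ c, η (c * zK) = (b : ℂ) * η c)
    (hne : classInner (fun c : K => χ (c : G)) η ≠ 0) : a = b := by
  have h : classInner (fun c : K => χ (c : G)) η =
      ((a : ℂ) * (b : ℂ)) * classInner (fun c : K => χ (c : G)) η := by
    rw [classInner, mul_left_comm]
    congr 1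
    rw [Finset.mul_sum]
    refine (Fintype.sum_equiv (Equiv.mulRight zK) _ _ fun c => ?_).symm
    simp only [Equiv.coe_mulRight, Subgroup.coe_mul, hχ, hη, map_mul, map_intCast]
    ring
  have h1 : ((a * b : ℤ) : ℂ) = ((1 : ℤ) : ℂ) := by
    push_cast
    exact mul_right_cancel₀ hne ((one_mul _).trans h).symm
  have h2 : a * b = 1 := by exact_mod_cast h1
  rcases hb with rfl | rfl <;> omega

variable {p : ℕ} {M : Ideal AlgInt} [M.IsPrime] {G : Type*} [Group G] [Fintype G] {D : Subgroup G}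
  {e : Set (IrrCharacter (Subgroup.centralizer (D : Set G)))} {B : Set (IrrCharacter G)}

/-- A central element carries a single pair of the block. -/
theorem pair_unique_central (hM : IsPModular p M) (hmax : IsMaximalBrauerPair p M B D e) {v : G}
    (hv : v ∈ D) (hc : ∀ g, Commute v g) {b₀ b : Set (IrrCharacter (cz v))}
    (hle : SubpairLE p M (Subgroup.zpowers v) b₀ D e)
    (hb : IsBrauerPairOf p M B (Subgroup.zpowers v) b) : b = b₀ := by
  obtain ⟨x, hx⟩ := exists_conjPair_le_maximal hM hmax hb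
  rw [conjPair_self_of_cz (mem_cz_iff.mpr (hc x).eq.symm) rfl] at hx
  exact (existsUnique_subpair hM hmax.1.1 (Subgroup.zpowers_le.mpr hv)).unique hx hle

open Classical in
/-- The projection at a central element. -/
theorem pm_central (hM : IsPModular p M) (hmax : IsMaximalBrauerPair p M B D e) {v : G} (hv : v ∈ D)
    (hc : ∀ g, Commute v g) {χ ψ : IrrCharacter G} (hχ : χ ∈ B) (hψ : ψ ∈ B) :
    pm p M (v, topPair p M D e v) (χ : G → ℂ) (ψ : G → ℂ) = (Nat.card G : ℂ)⁻¹ *
      ∑ g : G with IsPRegular p g, (χ : G → ℂ) (v * g) * conj ((ψ : G → ℂ) (v * g)) := by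
  obtain ⟨b, hb, hle⟩ := exists_topBlock hM hmax.1.1 hv
  have hblock := (SubpairLE.isBrauerPair hle hmax.1.1).2
  have hpow := exists_pow_orderOf_mem hM hmax.1.1.1 ⟨v, hv⟩
  have hval : ∀ {ξ : IrrCharacter G}, ξ ∈ B → ∀ s : cz v, IsPRegular p s →
      blockPart b (sect (ξ : G → ℂ) v) s = (ξ : G → ℂ) (v * (s : G)) := fun hξ s hs =>
    (value_eq_part hM hmax.1.2.1 hξ hpow hblock
      (fun b' hb' => pair_unique_central hM hmax hv hc hle hb') hs).symm
  have hall : ∀ g : G, g ∈ cz v := fun g => mem_cz_iff.mpr (hc g).eq.symm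
  rw [hb, pm_mk (irr_classFunction χ) (irr_classFunction ψ) v hblock,
    show Nat.card (cz v) = Nat.card G from Nat.card_congr (Equiv.subtypeUnivEquiv hall)]
  congr 1
  refine Finset.sum_bij (fun s _ => (s : G)) (fun s hs => ?_) (fun s _ t _ h => Subtype.ext h)
    (fun g hg => ⟨⟨g, hall g⟩, ?_, rfl⟩) fun s hs => ?_
  · exact Finset.mem_filter.mpr ⟨Finset.mem_univ _, by
      rw [IsPRegular, Subgroup.orderOf_coe]; exact (Finset.mem_filter.mp hs).2⟩
  · exact Finset.mem_filter.mpr ⟨Finset.mem_univ _, by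
      rw [IsPRegular, Subgroup.orderOf_mk]; exact (Finset.mem_filter.mp hg).2⟩
  · rw [hval hχ s (Finset.mem_filter.mp hs).2, hval hψ s (Finset.mem_filter.mp hs).2]

variable {q : ℕ} [NeZero q] {S : Shape D q}

theorem z_mem_zpowers_x (S : Shape D q) : S.z ∈ Subgroup.zpowers S.x :=
  S.x_mul_x ▸ mul_mem (Subgroup.mem_zpowers _) (Subgroup.mem_zpowers _)

/-- Translation by the central involution. -/
theorem exists_rotF_translate (hM : IsPModular 2 M) [Fintype (cz S.x)] [Fintype ↥(locA D S.x)]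
    {b : Set (IrrCharacter (cz S.x))}
    {f : Set (IrrCharacter (Subgroup.centralizer (locA D S.x : Set (cz S.x))))}
    {χ₀ : IrrCharacter (cz S.x)} {Ψ : IrrCharacter ↥(locA D S.x) → IrrCharacter (cz S.x)}
    (hloc : IsLocalPair 2 M D e S.x b f) (hΨ : IsNilImage 2 M (locA D S.x) f b χ₀ Ψ)
    (hχ₀ : χ₀ ∈ b) (hcent : ∀ g : G, Commute S.z g) :
    ∃ μ : ℤ, (μ = 1 ∨ μ = -1) ∧ ∀ (χ : G → ℂ) (a : ℤ), (∀ g, χ (g * S.z) = (a : ℂ) * χ g) →
      ∀ r, rotF S S.r_mem_cz_x Ψ χ (r + (q : ZMod (2 * q))) =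
        ((μ * a : ℤ) : ℂ) * rotF S S.r_mem_cz_x Ψ χ r := by
  classical
  set zA : ↥(locA D S.x) := rotHom S S.r_mem_cz_x (Multiplicative.ofAdd (q : ZMod (2 * q)))
  set zK : cz S.x := (zA : cz S.x)
  have hzK : ∀ c : cz S.x, Commute zK c := fun c => Subtype.ext (hcent (c : G)).eq
  have hzK2 : zK * zK = 1 := Subtype.ext S.z_sq
  obtain ⟨μ, hμ, hμv⟩ := exists_sign hzK hzK2 χ₀
  refine ⟨μ, hμ, fun χ a hχ r => ?_⟩
  have hab : ∀ c c' : ↥(locA D S.x), c * c' = c' * c := by
    have hrot : ∀ c : ↥(locA D S.x), ∃ i, ((c : cz S.x) : G) = S.r i := fun c =>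
      (S.cent_r S.xi_ne_zero S.xi_ne_half _).mp ⟨c.2, mem_cz_iff.mp (c : cz S.x).2⟩
    intro c c'
    obtain ⟨i, hi⟩ := hrot c
    obtain ⟨j, hj⟩ := hrot c'
    refine Subtype.ext (Subtype.ext ?_)
    simp only [Subgroup.coe_mul, hi, hj, S.r_comm]
  obtain ⟨b', hb', hle⟩ := exists_topBlock hM hloc.max.1.1 zA.2
  have hblock := (SubpairLE.isBrauerPair hle hloc.max.1.1).2
  have hpow := exists_pow_orderOf_mem hM hloc.max.1.1.1 zA
  have hone : IsPRegular 2 (1 : cz zK) := by simp [IsPRegular]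
  -- the value of a member at the central involution
  have hat : ∀ θ, (Ψ θ : cz S.x → ℂ) zK = (θ : ↥(locA D S.x) → ℂ) zA * (χ₀ : cz S.x → ℂ) zK := by
    intro θ
    have h := hΨ.part θ zA b' hle 1 hone
    rw [← value_eq_part hM hloc.isPBlock (hΨ.mem θ) hpow hblock
        (fun b'' hb'' => pair_unique_central hM hloc.max zA.2 hzK hle hb'') hone,
      ← value_eq_part hM hloc.isPBlock hχ₀ hpow hblock
        (fun b'' hb'' => pair_unique_central hM hloc.max zA.2 hzK hle hb'') hone] at h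
    simpa using h
  rw [rotF, rotF, Phi, Phi, Finset.mul_sum, ofAdd_add, map_mul]
  refine Finset.sum_congr rfl fun θ _ => ?_
  by_cases hne : classInner (fun c : cz S.x => χ (c : G)) (Ψ θ : cz S.x → ℂ) = 0
  · rw [hne, zero_mul, zero_mul, mul_zero]
  obtain ⟨ν, hν, hνv⟩ := exists_sign hzK hzK2 (Ψ θ)
  have haν : a = ν := sign_of_constituent (zK := zK) hν hχ hνv hne
  have hθ1 : (θ : ↥(locA D S.x) → ℂ) 1 = 1 := Char.degree_one_of_comm hab θ
  have hθz : (θ : ↥(locA D S.x) → ℂ) zA = ((μ * a : ℤ) : ℂ) := by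
    have h := hat θ
    have h1 := hνv 1
    have h2 := hμv 1
    rw [one_mul] at h1 h2
    rw [h1, h2, hΨ.regular θ 1 (by simp [IsPRegular]), hθ1, one_mul] at h
    have h3 : (ν : ℂ) = (θ : ↥(locA D S.x) → ℂ) zA * (μ : ℂ) :=
      mul_right_cancel₀ (Char.irr_degree_ne_zero χ₀.2) (by linear_combination h)
    rw [haν]
    push_cast
    linear_combination (-(μ : ℂ)) * h3 - (θ : ↥(locA D S.x) → ℂ) zA * cast_sign_mul_self hμ
  have hmul : ∀ u v : ↥(locA D S.x), (θ : ↥(locA D S.x) → ℂ) (u * v) =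
      (θ : ↥(locA D S.x) → ℂ) u * (θ : ↥(locA D S.x) → ℂ) v := fun u v =>
    congrArg Units.val (map_mul (Char.linearHom (Char.isCharacter_of_isIrr θ.2) hθ1) u v)
  show _ * (θ : ↥(locA D S.x) → ℂ) (_ * zA) = _
  rw [hmul, hθz]
  ring

end CfsgLib.Blocks.TameTwo
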