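import Cfsg.Agent.Lib.Blocks.TameTwo.Invariants
import Cfsg.Agent.Lib.Blocks.RankDrop.Basic
import Cfsg.Agent.Lib.Blocks.PPrimePCoreSetting
import Cfsg.Agent.Lib.Blocks.PConstrainedBlock
import Cfsg.Agent.Lib.Blocks.FongReynoldsDefect
import Cfsg.Agent.Lib.Blocks.PrincipalColumn
import Cfsg.Agent.Lib.PSolvable.Core
import Cfsg.Agent.S0914

/-!
# Three Brauer characters with dihedral or semidihedral defect group

The central involution of the defect group is not central in the group, and an involution outside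
the rotations is conjugate to it; neither is possible in a solvable group.
-/

set_option autoImplicit false
set_option linter.unusedSectionVars false
set_option linter.style.haveILetI false

namespace CfsgLib.Blocks.TameTwo

open Cfsg CfsgLib.Blocks CfsgLib.Blocks.FreeQuot CfsgLib.Blocks.RankDrop
open scoped ComplexConjugate CfsgLib.Char

universe u

namespace Shape

variable {G G' : Type*} [Group G] [Group G'] {D : Subgroup G} {D' : Subgroup G'} {q : ℕ}

/-- Transport along an isomorphism of the subgroups. -/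
def ofEquiv (S : Shape D q) (φ : D ≃* D') : Shape D' q where
  r j := φ ⟨S.r j, S.r_mem j⟩
  y := φ ⟨S.y, S.y_mem⟩
  s := S.s
  c := S.c
  r_add i j := by
    rw [← Subgroup.coe_mul, ← map_mul]
    exact congrArg (fun t => (φ t : G')) (Subtype.ext (S.r_add i j))
  r_inj i j h := S.r_inj (congrArg Subtype.val (φ.injective (Subtype.ext h)))
  r_mem j := (φ _).2
  y_mem := (φ _).2
  y_mul j := by
    rw [← Subgroup.coe_mul, ← Subgroup.coe_mul, ← map_mul, ← map_mul]
    exact congrArg (fun t => (φ t : G')) (Subtype.ext (S.y_mul j))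
  y_sq := by
    rw [← Subgroup.coe_mul, ← map_mul]
    exact congrArg (fun t => (φ t : G')) (Subtype.ext S.y_sq)
  y_ne j h := S.y_ne j (congrArg Subtype.val (φ.injective (Subtype.ext h)))
  cover d hd := by
    obtain ⟨j, h | h⟩ := S.cover (φ.symm ⟨d, hd⟩ : G) (φ.symm ⟨d, hd⟩).2
    · refine ⟨j, Or.inl ?_⟩
      rw [← show (φ.symm ⟨d, hd⟩) = ⟨S.r j, S.r_mem j⟩ from Subtype.ext h, MulEquiv.apply_symm_apply]
    · refine ⟨j, Or.inr ?_⟩
      rw [← Subgroup.coe_mul, ← map_mul,
        ← show (φ.symm ⟨d, hd⟩) = (⟨S.r j, S.r_mem j⟩ * ⟨S.y, S.y_mem⟩ : D) from Subtype.ext h,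
        MulEquiv.apply_symm_apply]
  two := S.two
  kind := S.kind

/-- A group with self-centralizing `O_2` in which the central involution is conjugate to the others
has no such Sylow subgroup. -/
theorem false_of_conj {H : Type*} [Group H] [Finite H] {D : Subgroup H} {q : ℕ} [NeZero q]
    (S : Shape D q) (hsyl : ∀ O : Subgroup H, O.Normal → IsPGroup 2 O → O ≤ D)
    (hC : Subgroup.centralizer (pCore 2 H : Set H) ≤ pCore 2 H)
    (h0 : IsConj (S.r 0 * S.y) S.z) (h1 : q = 2 → S.IsDih ∧ IsConj (S.r 1 * S.y) S.z) : False := by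
  have := Fintype.ofFinite H
  have hOn : (pCore 2 H).Normal := Fitting.pCore_normal 2
  have hOD : pCore 2 H ≤ D := hsyl _ hOn (Fitting.pCore_isPGroup 2)
  have hz : S.z ∈ pCore 2 H := hC (Subgroup.mem_centralizer_iff.mpr fun d hd =>
    S.z_commute (hOD hd))
  have hmem : ∀ {u : H}, IsConj u S.z → u ∈ pCore 2 H := fun {u} hu => by
    obtain ⟨g, hg⟩ := isConj_iff.mp hu
    have := hOn.conj_mem _ hz g⁻¹
    rwa [← hg, show g⁻¹ * (g * u * g⁻¹) * g⁻¹⁻¹ = u by group] at this
  have hy : S.y ∈ pCore 2 H := by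
    have := hmem h0
    rwa [S.r_zero, one_mul] at this
  obtain ⟨j, hj0, hjh, hj⟩ :
      ∃ j, j ≠ 0 ∧ j ≠ (q : ZMod (2 * q)) ∧ S.r j ∈ pCore 2 H := by
    by_cases hq : q = 2
    · subst hq
      obtain ⟨hd, hc⟩ := h1 rfl
      refine ⟨1, by decide, by decide, ?_⟩
      have h := mul_mem (hmem hc) hy
      rwa [mul_assoc, S.y_sq, hd.2, S.r_zero, mul_one] at h
    · have h4 : 4 ≤ q := by
        obtain ⟨k, hk⟩ := S.two
        rcases k with _ | k
        · exact absurd hk hq
        · have := Nat.one_le_two_pow (n := k)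
          rw [hk, pow_succ, pow_succ]
          omega
      have hfix : ¬ S.s * 1 = (1 : ZMod (2 * q)) := fun h => by
        rcases S.s_fix h with h | h
        · exact S.zero_ne_one h.symm
        · have := congrArg par h
          rw [S.par_half, par, map_one] at this
          exact one_ne_zero this
      refine ⟨1 - S.s, fun h => hfix (by linear_combination -h), fun h => ?_, ?_⟩
      · -- `1 - s = q` forces `q ≤ 2`
        rcases S.kind with ⟨e, -⟩ | ⟨e, -⟩ | ⟨e, -, -⟩ <;> rw [e] at h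
        · have h' : ((2 : ℕ) : ZMod (2 * q)) = ((q : ℕ) : ZMod (2 * q)) := by
            push_cast; linear_combination h
          rw [ZMod.natCast_eq_natCast_iff', Nat.mod_eq_of_lt (by omega),
            Nat.mod_eq_of_lt (by omega)] at h'
          omega
        · have h' : ((2 : ℕ) : ZMod (2 * q)) = ((q : ℕ) : ZMod (2 * q)) := by
            push_cast; linear_combination h
          rw [ZMod.natCast_eq_natCast_iff', Nat.mod_eq_of_lt (by omega),
            Nat.mod_eq_of_lt (by omega)] at h'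
          omega
        · have h' : ((2 : ℕ) : ZMod (2 * q)) = ((0 : ℕ) : ZMod (2 * q)) := by
            push_cast; linear_combination h + half_add_half (q := q)
          rw [ZMod.natCast_eq_natCast_iff', Nat.mod_eq_of_lt (by omega),
            Nat.mod_eq_of_lt (by omega)] at h'
          omega
      · have h := mul_mem (hOn.conj_mem _ hy (S.r 1)) (inv_mem hy)
        rwa [← S.r_neg, mul_assoc (S.r 1), S.y_mul, ← mul_assoc, mul_inv_cancel_right, ← S.r_add,
          show (1 : ZMod (2 * q)) + S.s * -1 = 1 - S.s by ring] at h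
  have hfixed : ∀ g : H, g * S.z * g⁻¹ = S.z := by
    intro g
    have hw : g * S.z * g⁻¹ ∈ pCore 2 H := hOn.conj_mem _ hz g
    have hcent : ∀ t ∈ pCore 2 H, g * S.z * g⁻¹ * t = t * (g * S.z * g⁻¹) := fun t ht => by
      have h := S.z_commute (hOD (hOn.conj_mem _ ht g⁻¹))
      rw [inv_inv] at h
      calc g * S.z * g⁻¹ * t = g * (S.z * (g⁻¹ * t * g)) * g⁻¹ := by group
        _ = g * (g⁻¹ * t * g * S.z) * g⁻¹ := by rw [h]
        _ = _ := by group
    have hne : g * S.z * g⁻¹ ≠ 1 := fun h => S.z_ne_one (conj_eq_one_iff.mp h)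
    obtain ⟨i, hi⟩ := (S.cent_r hj0 hjh _).mp ⟨hOD hw, hcent _ hj⟩
    have hcy := hcent _ hy
    rw [hi] at hcy hne ⊢
    rw [S.y_mul] at hcy
    rcases S.s_fix (S.r_inj (mul_right_cancel hcy)).symm with h | h
    · exact absurd (by rw [h, S.r_zero]) hne
    · rw [h]; rfl
  obtain ⟨g, hg⟩ := isConj_iff.mp h0.symm
  rw [hfixed g] at hg
  exact S.outer_ne 0 (q : ZMod (2 * q)) hg.symm

end Shape

section Block

variable {M : Ideal AlgInt} [M.IsPrime] {G : Type*} [Group G] [Fintype G] {D : Subgroup G}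
  {e : Set (IrrCharacter (Subgroup.centralizer (D : Set G)))} {B : Set (IrrCharacter G)} {q : ℕ}
  [NeZero q]

/-- A central involution does not change the rank. -/
theorem blockRank_bk_central (hM : IsPModular 2 M) (hmax : IsMaximalBrauerPair 2 M B D e) {z : G}
    (hz : z ∈ D) (hc : ∀ g, Commute z g) (hz2 : z * z = 1) :
    blockRank 2 (bk 2 M D e z) = blockRank 2 B := by
  classical
  have : Fintype ↥B := Fintype.ofFinite _
  have hB := hmax.1.2.1
  have h1 := sum_pm_diag hM hB (exists_pow_orderOf_mem hM hmax.1.1.1 ⟨z, hz⟩)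
    (bk_pairOf hM hmax hz)
  have h2 := sum_pm_diag hM hB (exists_pow_orderOf_mem hM hmax.1.1.1 ⟨1, one_mem D⟩)
    (bk_pairOf hM hmax (one_mem D))
  rw [Watanabe.blockRank_bk_one hM hmax] at h2
  rw [← pt_eq_bk hM hmax hz] at h1
  rw [← pt_eq_bk hM hmax (one_mem D)] at h2
  suffices h : (blockRank 2 (bk 2 M D e z) : ℂ) = (blockRank 2 B : ℂ) by exact_mod_cast h
  rw [← h1, ← h2]
  refine Finset.sum_congr rfl fun χ _ => ?_
  obtain ⟨ε, hε, hεv⟩ := exists_sign hc hz2 (χ : IrrCharacter G)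
  show pm 2 M (z, topPair 2 M D e z) _ _ = pm 2 M (1, topPair 2 M D e 1) _ _
  rw [pm_central hM hmax hz hc χ.2 χ.2,
    pm_central hM hmax (one_mem D) (fun g => Commute.one_left g) χ.2 χ.2]
  congr 1
  refine Finset.sum_congr rfl fun g _ => ?_
  rw [(hc g).eq, hεv, one_mul, map_mul, map_intCast]
  linear_combination
    (((χ : IrrCharacter G) : G → ℂ) g * conj (((χ : IrrCharacter G) : G → ℂ) g)) * cast_sign_mul_self hε

/-- An element outside the rotations fused into them is conjugate to `z` when it is an involution. -/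
theorem isConj_z_of_not_sep {S : Shape D q} {i : ZMod (2 * q)} (h : ¬ Sep M e S i)
    (hsq : S.r i * S.y * (S.r i * S.y) = 1) : IsConj (S.r i * S.y) S.z := by
  simp only [Sep, not_forall, not_not] at h
  obtain ⟨j, x, hx, -⟩ := h
  have hx' : x * (S.r i * S.y) * x⁻¹ = S.r j := hx
  have hj : S.r j * S.r j = 1 := by rw [← hx', mul_self_conj, hsq, mul_one, mul_inv_cancel]
  rw [← S.r_add, S.r_eq_one_iff] at hj
  rcases eq_half_of_add_self hj with hj | hj
  · rw [hj, S.r_zero] at hx'
    exact absurd ((conj_eq_one_iff.mp hx').trans S.r_zero.symm) (S.outer_ne i 0)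
  · exact isConj_iff.mpr ⟨x, by rw [hx', hj]; rfl⟩

/-- Three Brauer characters: fusion and the centre. -/
theorem fusion_of_rank_three (hM : IsPModular 2 M) (hmax : IsMaximalBrauerPair 2 M B D e)
    (S : Shape D q) (hS : S.IsDih ∨ S.IsSemi) (hl : blockRank 2 B = 3) :
    IsConj (S.r 0 * S.y) S.z ∧ (q = 2 → S.IsDih ∧ IsConj (S.r 1 * S.y) S.z) ∧
      ¬ ∀ g : G, Commute S.z g := by
  classical
  have : Fintype ↥B := Fintype.ofFinite _
  obtain ⟨T, hTq, hTh, hTl, hTlz, hTo, -⟩ := exists_table_bound hM hmax S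
  have hk := T.card_eq_ranks
  have hcard : Nat.card B = Fintype.card ↥B := Nat.card_eq_fintype_card
  rcases hS with hS | hS
  · obtain ⟨hkB, -⟩ := dihedral_invariants hM hmax S hS
    have : Fintype (cz S.z) := Fintype.ofFinite _
    obtain ⟨b, f, hloc, hnil⟩ := exists_localPair_z hM hmax S hS
    have hlz : T.lz = 1 := by
      rw [hTlz, (existsUnique_subpair hM hmax.1.1 (Subgroup.zpowers_le.mpr S.z_mem)).unique
        (bk_subpair hM hmax.1.1 S.z_mem) hloc.le]
      exact (blockRank_eq_one_of_nilpotent hM hnil).1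
    have ho : outerReps M e S = ∅ := by
      refine Finset.card_eq_zero.mp ?_
      rw [← hTo]
      rw [hTl, hl, hlz, hTq, ← hcard, hkB] at hk
      omega
    have hns0 : ¬ Sep M e S 0 := fun h => Finset.notMem_empty (0 : ZMod (2 * q)) (ho ▸
      Finset.mem_filter.mpr ⟨Finset.mem_univ _, Or.inl rfl, h,
        fun h01 => absurd h01 S.zero_ne_one⟩)
    have hns1 : ¬ Sep M e S 1 := fun h => Finset.notMem_empty (1 : ZMod (2 * q)) (ho ▸
      Finset.mem_filter.mpr ⟨Finset.mem_univ _, Or.inr rfl, h, fun _ h0 => absurd h0 hns0⟩)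
    have hsq : ∀ i, S.r i * S.y * (S.r i * S.y) = 1 := fun i => by
      rw [S.outer_sq, hS.1, hS.2, S.r_eq_one_iff]; ring
    refine ⟨isConj_z_of_not_sep hns0 (hsq 0), fun _ => ⟨hS, isConj_z_of_not_sep hns1 (hsq 1)⟩,
      fun hc => ?_⟩
    have := blockRank_bk_central hM hmax S.z_mem hc S.z_sq
    omega
  · obtain ⟨hsum, ho⟩ := semi_sum hM hmax S hS
    rw [← hTlz] at hsum
    rw [← hTo] at ho
    refine ⟨isConj_z_of_not_sep (M := M) (e := e) (i := 0) ?_ (S.outer_sq_semi hS).1,
      fun hq => absurd hS.2.2 (by omega), fun hc => ?_⟩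
    · intro hsep
      obtain ⟨k, hk'⟩ := S.two
      obtain ⟨k, rfl⟩ : ∃ l, k = l + 1 := ⟨k - 1, by
        have h4 : 4 ≤ q := hS.2.2
        rcases k with _ | k
        · norm_num at hk'; omega
        · rfl⟩
      subst hk'
      obtain ⟨-, -, -, h3, -⟩ := semidihedral_invariants hM hmax S hS
      have e' : Nat.card B = 2 ^ (k + 1 + 1) + 4 := h3 hl
      rw [hTl, hl, hTq, ← hcard, e', ho, if_pos hsep] at hk
      generalize (if Sep M e S 1 then 1 else 0) = o4 at hk hsum
      push_cast at hk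
      omega
    · have := blockRank_bk_central hM hmax S.z_mem hc S.z_sq
      omega

/-- The centre has odd order. -/
theorem odd_center_of_rank_three (hM : IsPModular 2 M) (hmax : IsMaximalBrauerPair 2 M B D e)
    (S : Shape D q) (hS : S.IsDih ∨ S.IsSemi) (hl : blockRank 2 B = 3) :
    Odd (Nat.card (Subgroup.center G)) := by
  by_contra hodd
  have : Fact (Nat.Prime 2) := ⟨Nat.prime_two⟩
  obtain ⟨w, hw⟩ := exists_prime_orderOf_dvd_card' 2 (G := Subgroup.center G)
    (Nat.not_odd_iff_even.mp hodd).two_dvd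
  rw [← Subgroup.orderOf_coe] at hw
  have hc : ∀ g, g * (w : G) = (w : G) * g := fun g => Subgroup.mem_center_iff.mp w.2 g
  have hn : (Subgroup.zpowers (w : G)).Normal := ⟨fun n hn g => by
    obtain ⟨k, rfl⟩ := Subgroup.mem_zpowers_iff.mp hn
    rw [← ((show Commute (w : G) g from (hc g).symm).zpow_left k).eq, mul_inv_cancel_right]
    exact Subgroup.zpow_mem_zpowers _ k⟩
  have hwD : (w : G) ∈ D := IsDefectGroup.normal_le hM hmax.1.2.1
    (isDefectGroup_of_maximal hM hmax) (Subgroup.zpowers (w : G))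
    (IsPGroup.of_card (n := 1) (by rw [Nat.card_zpowers, hw, pow_one])) (Subgroup.mem_zpowers _)
  have hw1 : (w : G) ≠ 1 := fun h => by rw [h, orderOf_one] at hw; omega
  refine (fusion_of_rank_three hM hmax S hS hl).2.2 ?_
  suffices hwz : (w : G) = S.z by
    intro g
    rw [← hwz]
    exact (hc g).symm
  obtain ⟨j, hj | hj⟩ := S.cover _ hwD
  · have h := hc S.y
    rw [hj, S.y_mul] at h
    rcases S.s_fix (S.r_inj (mul_right_cancel h)) with h' | h'
    · exact absurd (by rw [hj, h', S.r_zero]) hw1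
    · rw [hj, h']; rfl
  · have h := hc (S.r 1)
    rw [hj, eq_comm, S.outer_commute_r] at h
    rcases S.s_fix h with h' | h'
    · exact absurd h'.symm S.zero_ne_one
    · have := congrArg Shape.par h'
      rw [S.par_half, Shape.par, map_one] at this
      exact (one_ne_zero this).elim

end Block

/-- The block over an invariant character in a two-solvable group. -/
theorem invariant_ne_three {G : Type u} [Group G] [Fintype G] {M : Ideal AlgInt}
    (hM : IsPModular 2 M) (hsolv : IsPSolvable 2 G) (N : Subgroup G) [N.Normal] [Fintype N]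
    (hNdef : N = pPrimeCore 2 G) {θ : IrrCharacter N}
    (hinv : ∀ g : G, Char.conjBy N (θ : N → ℂ) g = θ) {B : Set (IrrCharacter G)} (hB : IsPBlock M B)
    {D : Subgroup G} (hD : IsDefectGroup 2 M B D) {χ : IrrCharacter G} (hχ : χ ∈ B)
    (hχθ : χ ∈ overSet N θ) {q : ℕ} (S : Shape D q) (hS : S.IsDih ∨ S.IsSemi) :
    blockRank 2 B ≠ 3 := by
  classical
  subst hNdef
  intro hl
  have : Fact (Nat.Prime 2) := ⟨Nat.prime_two⟩
  have := isPrime_of_isPModular hM
  have := S.neZero
  have hK := pPrimeCore_not_dvd (G := G) 2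
  have hcon := PSolvable.isPConstrained_of_isPSolvable hsolv
  let Q₀ : Sylow 2 (pPrimePCore 2 G) := default
  haveI := pPrimePCore_normal (G := G) 2
  haveI := Transfer.pPrimeCore_normal 2 G
  have hb := isPBlock_overSet hinv hM hK (pPrimeCore_le_pPrimePCore 2)
    (fun x hx => pow_mem_pPrimeCore 2 hx) (Q₀.2.map (pPrimePCore 2 G).subtype)
    (Subgroup.map_subtype_le _) (hcon Q₀)
  obtain rfl : B = overSet (pPrimeCore 2 G) θ := IsPBlock.eq_of_mem_of_mem hB hb hχ hχθ
  obtain ⟨P, rfl⟩ := (isDefectGroup_overSet_iff hinv hM hK (pPrimeCore_le_pPrimePCore 2)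
    (fun x hx => pow_mem_pPrimeCore 2 hx) (Q₀.2.map (pPrimePCore 2 G).subtype)
    (Subgroup.map_subtype_le _) (hcon Q₀) D).mp hD
  obtain ⟨e, he⟩ := exists_pair_of_defectGroup hM hB hD
  obtain ⟨h0, h1, -⟩ :=
    fusion_of_rank_three hM (isMaximalBrauerPair_of_defectGroup hM hD he) S hS hl
  set π := QuotientGroup.mk' (pPrimeCore 2 G) with hπ
  have hπs : Function.Surjective π := QuotientGroup.mk'_surjective _
  have hinj : Function.Injective (π.subgroupMap (P : Subgroup G)) := by
    refine (injective_iff_map_eq_one _).mpr fun x hx => ?_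
    have hxK : (x : G) ∈ pPrimeCore 2 G := (QuotientGroup.eq_one_iff _).mp (congrArg Subtype.val hx)
    obtain ⟨k, hk⟩ := IsPGroup.iff_orderOf.mp P.2 x
    have hd := Subgroup.orderOf_dvd_natCard _ hxK
    rw [Subgroup.orderOf_coe, hk] at hd
    rcases k.eq_zero_or_pos with rfl | hk0
    · exact orderOf_eq_one_iff.mp (by rw [hk, pow_zero])
    · exact absurd ((dvd_pow_self 2 hk0.ne').trans hd) hK
  set φ := MulEquiv.ofBijective (π.subgroupMap (P : Subgroup G))
    ⟨hinj, π.subgroupMap_surjective _⟩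
  refine (S.ofEquiv φ).false_of_conj (fun O hO hOp => ?_) ?_ (π.map_isConj h0) fun hq =>
    ⟨(h1 hq).1, π.map_isConj (h1 hq).2⟩
  · have h := (P.mapSurjective hπs).3 (hOp.to_sup_of_normal_left (P.mapSurjective hπs).2) le_sup_right
    rw [Sylow.coe_mapSurjective] at h
    exact h ▸ le_sup_left
  · exact PSolvable.centralizer_pCore_le (PSolvable.isPSolvable_of_surjective π hπs hsolv)
      (PSolvable.pPrimeCore_eq_bot_of_ker hπs (QuotientGroup.ker_mk' _))

/-- In a two-solvable group there are at most two Brauer characters. -/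
theorem rank_ne_three_of_pSolvable : ∀ (n : ℕ) (G : Type u) [Group G] [Fintype G], Nat.card G = n →
    ∀ (M : Ideal AlgInt), IsPModular 2 M → IsPSolvable 2 G → ∀ (B : Set (IrrCharacter G)),
      IsPBlock M B → ∀ D : Subgroup G, IsDefectGroup 2 M B D → ∀ (q : ℕ) (S : Shape D q),
        (S.IsDih ∨ S.IsSemi) → blockRank 2 B ≠ 3 := by
  intro n
  induction n using Nat.strong_induction_on with
  | _ n ih =>
  intro G _ _ hn M hM hsolv B hB D hD q S hS
  classical
  have : Fact (Nat.Prime 2) := ⟨Nat.prime_two⟩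
  have := isPrime_of_isPModular hM
  haveI := Transfer.pPrimeCore_normal 2 G
  have := Fintype.ofFinite (pPrimeCore 2 G)
  obtain ⟨χ, hχ⟩ := IsPBlock.nonempty hB
  obtain ⟨θ, hθ⟩ := Char.exists_constituent (pPrimeCore 2 G) (Char.isCharacter_of_isIrr χ.2)
    (Char.irr_degree_ne_zero χ.2)
  by_cases hinv : ∀ g : G, Char.conjBy (pPrimeCore 2 G) (θ : pPrimeCore 2 G → ℂ) g = θ
  · exact invariant_ne_three hM hsolv _ rfl hinv hB hD hχ hθ S hS
  obtain ⟨T, hTdef⟩ : ∃ T : Subgroup G,
      T = Char.inertia (pPrimeCore 2 G) (θ : pPrimeCore 2 G → ℂ) := ⟨_, rfl⟩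
  have := Fintype.ofFinite T
  have hb : IsPBlock M ({θ} : Set (IrrCharacter (pPrimeCore 2 G))) := by
    have h : blockOf M (θ : pPrimeCore 2 G → ℂ) = {θ} :=
      (Cfsg.Agent.S0914.result 2 M hM θ).mp fun h => by
        obtain ⟨d, hd, -, hdvd⟩ := Char.exists_degree_dvd_card θ.2
        exact pPrimeCore_not_dvd (G := G) 2 (h.trans (Nat.div_dvd_of_dvd (by
          rw [show charDegree (θ : pPrimeCore 2 G → ℂ) = d by simp [charDegree, hd]]; exact hdvd)))
    exact h ▸ isPBlock_blockOf θ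
  have hT : ∀ g : G, g ∈ T ↔ ∀ θ₀ ∈ ({θ} : Set (IrrCharacter (pPrimeCore 2 G))),
      ∀ θ' : IrrCharacter (pPrimeCore 2 G), (∀ n : pPrimeCore 2 G, (θ' : pPrimeCore 2 G → ℂ) n =
        (θ₀ : pPrimeCore 2 G → ℂ) ⟨g * n * g⁻¹, (inferInstance : (pPrimeCore 2 G).Normal).conj_mem n n.2 g⟩) →
      θ' ∈ ({θ} : Set (IrrCharacter (pPrimeCore 2 G))) := by
    intro g
    rw [hTdef, Char.mem_inertia]
    simp only [Set.mem_singleton_iff, forall_eq]
    constructor
    · intro h θ' h'
      exact Subtype.ext (funext fun n => (h' n).trans (congrFun h n))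
    · intro h
      have := h ⟨_, Char.isIrrCharacter_conjBy _ θ.2 g⟩ fun n => rfl
      exact congrArg Subtype.val this
  have hNT : pPrimeCore 2 G ≤ T := hTdef ▸ Char.le_inertia _ (irr_classFunction θ)
  obtain ⟨ψ, hψ, hψe⟩ := exists_indFun_eq hNT hb hT (Set.mem_singleton θ) hθ
  have hover : ∀ ψ' ∈ blockOf M (ψ : T → ℂ), IsOver hNT ({θ} : Set (IrrCharacter (pPrimeCore 2 G)))
      ((ψ' : IrrCharacter T) : T → ℂ) := fun ψ' hψ' =>
    isOver_of_sameBlock hNT hb hT hψ (mem_blockOf_iff.mp hψ')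
  have hirr : ∀ ψ' ∈ blockOf M (ψ : T → ℂ), IsIrrCharacter G (indFun T (ψ' : T → ℂ)) := fun ψ' hψ' =>
    isIrr_indFun hNT hb hT (hover ψ' hψ')
  have hu : B = blockOf M (indFun T (ψ : T → ℂ)) := by
    rw [← hψe]; exact IsPBlock.eq_blockOf hB hχ
  have hmem : ∀ χ' : IrrCharacter G, χ' ∈ B ↔
      ∃ ψ' ∈ blockOf M (ψ : T → ℂ), (χ' : G → ℂ) = indFun T (ψ' : T → ℂ) :=
    fun χ' => by rw [hu, mem_blockOf_indFun_iff hNT hb hT hM hψ χ']
  have hlt : Nat.card T < n := by
    rw [← hn, ← T.card_mul_index]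
    refine lt_mul_of_one_lt_right Nat.card_pos (Subgroup.one_lt_index_of_ne_top fun h => hinv ?_)
    intro g
    exact Char.mem_inertia _ |>.mp (hTdef ▸ (h ▸ Subgroup.mem_top g : g ∈ T))
  obtain ⟨D', hD'⟩ := exists_isDefectGroup hM (isPBlock_blockOf (M := M) ψ)
  obtain ⟨-, hr⟩ := card_rank_indFun hM hNT hb hT (isPBlock_blockOf ψ) hover hB hmem
  obtain ⟨x, hx⟩ := IsDefectGroup.exists_conj_eq hM hB
    (isDefectGroup_map_indFun_block hM (isPBlock_blockOf ψ) hB hmem hirr hD') hD
  subst hx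
  rw [hr]
  exact ih _ hlt T rfl M hM (PSolvable.isPSolvable_subgroup T hsolv) _ (isPBlock_blockOf ψ) D' hD' q
    (S.ofEquiv ((Subgroup.equivMapOfInjective _ _ (MulAut.conj x).injective).symm.trans
      (Subgroup.equivMapOfInjective _ _ T.subtype_injective).symm)) hS

end CfsgLib.Blocks.TameTwo
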